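import Cfsg.Agent.Lib.ThreeTransp.Polar.Lines
import Cfsg.Agent.Lib.Cores.Basic

/-!
If the 2-core of the group generated by the neighbours of a member is not central, all lines have
odd size.
-/

set_option autoImplicit false

namespace Cfsg.Agent.ThreeTransp.Polar

open Cfsg.Agent.ThreeTransp

variable {G : Type*} [Group G] [Finite G] {D : Set G}

theorem oddLines_of_core (C : Ctx D) {x : G} (hx : x ∈ D)
    (h : ¬ Cfsg.pCore 2 ↥(Subgroup.closure {y : G | y ∈ D ∧ y ≠ x ∧ Commute x y}) ≤
      Subgroup.center ↥(Subgroup.closure {y : G | y ∈ D ∧ y ≠ x ∧ Commute x y})) :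
    OddLines D := by
  classical
  set H := Subgroup.closure {y : G | y ∈ D ∧ y ≠ x ∧ Commute x y} with hH
  set U : Subgroup H := Cfsg.pCore 2 H with hU
  have hUn : U.Normal := Cores.pCore_normal 2
  have hUp : IsPGroup 2 U := Cores.pCore_isPGroup 2
  have hx_comm : ∀ g ∈ H, Commute x g := fun g hg =>
    RankThree.loc_commute (D := D) (Subgroup.closure_mono (by exact fun y hy => ⟨hy.1, hy.2.2⟩) hg)
  -- conjugation by an element of `U` stays on the line
  have key : ∀ u ∈ U, ∀ y ∈ D, y ≠ x → Commute x y →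
      (u : G) * y * (u : G)⁻¹ ∈ line D x y ∧ (u : G) * y * (u : G)⁻¹ ≠ x := by
    intro u hu y hy hyx hxy
    have hux : Commute x (u : G) := hx_comm _ u.2
    set y' := (u : G) * y * (u : G)⁻¹ with hy'
    have hy'D : y' ∈ D := C.grp.2.1 _ y hy
    have hy'x : y' ≠ x := fun e => hyx (by
      rw [show y = (u : G)⁻¹ * y' * (u : G) by rw [hy']; group, e, mul_assoc, hux.eq,
        ← mul_assoc, inv_mul_cancel, one_mul])
    refine ⟨⟨hy'D, fun d hd hdx hdy => ?_⟩, hy'x⟩
    by_cases hde : d = x
    · subst hde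
      rw [hy']
      have := (Basic.commute_conj (g := (u : G))).2 hxy
      rwa [← hux.eq, mul_inv_cancel_right] at this
    by_contra hne
    -- `d * y'` is a 2-element
    have hdH : d ∈ H := Subgroup.subset_closure ⟨hd, hde, hdx.symm⟩
    have hyH : y ∈ H := Subgroup.subset_closure ⟨hy, hyx, hxy⟩
    set D' : H := ⟨d, hdH⟩ with hD'
    set Y : H := ⟨y, hyH⟩ with hY
    set N : H := Y⁻¹ * u * Y * u⁻¹ with hN
    have hNU : N ∈ U := U.mul_mem (by simpa using hUn.conj_mem u hu Y⁻¹) (U.inv_mem hu)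
    have hW : (D' * Y) * (D' * Y) = 1 := by
      refine Subtype.ext ?_
      show d * y * (d * y) = 1
      rw [show d * y * (d * y) = d * (y * d) * y by group, ← hdy.eq,
        show d * (d * y) * y = (d * d) * (y * y) by group, C.sq hd, C.sq hy, one_mul]
    have e : (((D' * Y * N) * (D' * Y * N) : H) : G) = (d * y') * (d * y') := by
      simp only [hD', hY, hN, hy', Subgroup.coe_mul, Subgroup.coe_inv]
      group
    have hmem : (D' * Y * N) * (D' * Y * N) ∈ U := by
      have e2 : (D' * Y * N) * (D' * Y * N) =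
          ((D' * Y) * N * (D' * Y)⁻¹) * ((D' * Y) * (D' * Y)) * N := by group
      rw [e2, hW, mul_one]
      exact U.mul_mem (hUn.conj_mem N hNU _) hNU
    obtain ⟨k, hk⟩ := hUp ⟨_, hmem⟩
    have hk' : ((d * y') * (d * y')) ^ 2 ^ k = 1 := by
      rw [← e, ← Subgroup.coe_pow]
      have := congrArg (fun z : U => ((z : H) : G)) hk
      simpa using this
    have h3 := Basic.orderOf_eq_three C.grp.1 hd hy'D hne
    rw [← pow_two, ← pow_mul, ← pow_succ'] at hk'
    have hdvd := orderOf_dvd_of_pow_eq_one hk'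
    rw [h3] at hdvd
    have := Nat.prime_three.dvd_of_dvd_pow hdvd
    norm_num at this
  -- every neighbour is moved
  have moved : ∀ y ∈ D, y ≠ x → Commute x y → ∃ u ∈ U, (u : G) * y * (u : G)⁻¹ ≠ y := by
    intro y hy hyx hxy
    by_contra! hfix
    refine h fun u hu => Subgroup.mem_center_iff.2 fun g => Subtype.ext ?_
    have hall : ∀ z ∈ {y : G | y ∈ D ∧ y ≠ x ∧ Commute x y}, Commute (u : G) z := by
      rintro z ⟨hz, hzx, hxz⟩
      obtain ⟨g, hg, rfl⟩ := C.linked hx hy hz hxy hxz hyx hzx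
      -- the fixed set is invariant
      clear hz hzx hxz
      suffices hinv : ∀ w ∈ RankThree.loc D x, ∀ v, (∀ u ∈ U, Commute (u : G) v) →
          ∀ u ∈ U, Commute (u : G) (w * v * w⁻¹) from
        hinv g hg y (fun u hu => mul_inv_eq_iff_eq_mul.1 (hfix u hu)) u hu
      intro w hw
      have step : ∀ w ∈ {y : G | y ∈ D ∧ Commute x y}, ∀ v, (∀ u ∈ U, Commute (u : G) v) →
          ∀ u ∈ U, Commute (u : G) (w * v * w⁻¹) := by
        intro w hw v hv u hu
        by_cases hwx : w = x
        · subst hwx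
          have hux : Commute w (u : G) := hx_comm _ u.2
          have := (Basic.commute_conj (g := w)).2 (hv u hu)
          rwa [show w * (u : G) * w⁻¹ = u by rw [hux.eq, mul_inv_cancel_right]] at this
        · set W : H := ⟨w, Subgroup.subset_closure ⟨hw.1, hwx, hw.2⟩⟩ with hW
          have hmem : W⁻¹ * u * W ∈ U := by simpa using hUn.conj_mem u hu W⁻¹
          have := (Basic.commute_conj (g := w)).2 (hv _ hmem)
          rwa [show w * ((W⁻¹ * u * W : H) : G) * w⁻¹ = u by
            simp only [hW, Subgroup.coe_mul, Subgroup.coe_inv]; group] at this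
      induction hw using Subgroup.closure_induction'' with
      | one => intro v hv u hu; simpa using hv u hu
      | mem w hw => exact step w hw
      | inv_mem w hw => rw [C.inv hw.1]; exact step w hw
      | mul a b _ _ ha hb =>
        intro v hv u hu
        have := ha _ (hb v hv) u hu
        rwa [show a * (b * v * b⁻¹) * a⁻¹ = a * b * v * (a * b)⁻¹ by group] at this
    show (g : G) * u = u * g
    have hg := g.2
    refine (Subgroup.closure_induction (p := fun z _ => Commute (u : G) z) hall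
      (Commute.one_right _) (fun _ _ _ _ a b => a.mul_right b)
      (fun _ _ a => a.inv_right) hg).eq.symm
  -- one line
  obtain ⟨y, hy, hyx, hxy⟩ : ∃ y ∈ D, y ≠ x ∧ Commute x y := by
    obtain ⟨a, ha, b, hb, hab, hc⟩ := C.wide
    obtain ⟨g, rfl⟩ := C.prim.1 a ha x hx
    exact ⟨g * b * g⁻¹, C.grp.2.1 g b hb,
      fun e => hab (mul_left_cancel (mul_right_cancel e)).symm, Basic.commute_conj.2 hc⟩
  have hstable : ∀ u ∈ U, ∀ z ∈ line D x y \ {x},
      (u : G) * z * (u : G)⁻¹ ∈ line D x y \ {x} := by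
    rintro u hu z ⟨hz, hzx⟩
    rw [Set.mem_singleton_iff] at hzx
    obtain ⟨h1, h2⟩ := key u hu z hz.1 hzx (line_commute_left hx hxy hz)
    rw [line_eq_left C hx hy hxy hyx.symm hz hzx] at h1
    exact ⟨h1, h2⟩
  let act : MulAction U ↥(line D x y \ {x}) :=
    { smul := fun u z => ⟨((u : H) : G) * z * ((u : H) : G)⁻¹, hstable u u.2 z z.2⟩
      one_smul := fun z => Subtype.ext (by
        show ((1 : G)) * (z : G) * (1 : G)⁻¹ = z
        simp)
      mul_smul := fun u v z => Subtype.ext (by
        show ((u : H) : G) * (v : H) * (z : G) * (((u : H) : G) * (v : H))⁻¹ =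
          ((u : H) : G) * (((v : H) : G) * z * ((v : H) : G)⁻¹) * ((u : H) : G)⁻¹
        group) }
  have : Fact (Nat.Prime 2) := ⟨Nat.prime_two⟩
  have hmod := hUp.card_modEq_card_fixedPoints ↥(line D x y \ {x})
  have hfix : IsEmpty ↥(MulAction.fixedPoints U ↥(line D x y \ {x})) := by
    refine ⟨fun z => ?_⟩
    obtain ⟨⟨w, hw, hwx⟩, hz⟩ := z
    rw [Set.mem_singleton_iff] at hwx
    obtain ⟨u, hu, hne⟩ := moved w hw.1 hwx (line_commute_left hx hxy hw)
    exact hne (congrArg Subtype.val (hz ⟨u, hu⟩))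
  rw [Nat.card_coe_set_eq (line D x y \ {x}),
    @Nat.card_of_isEmpty _ hfix] at hmod
  have hxm : x ∈ line D x y := mem_line_left hx
  have hodd : Odd (line D x y).ncard := by
    rw [← Set.ncard_sdiff_singleton_add_one hxm]
    exact (even_iff_two_dvd.2 (Nat.modEq_zero_iff_dvd.1 hmod)).add_one
  intro a ha b hb hab hc
  rwa [← line_card C hx hy hxy hyx.symm ha hb hc hab]

end Cfsg.Agent.ThreeTransp.Polar
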