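import Cfsg.Agent.Lib.ThreeTransp.Polar.Lines
import Cfsg.Agent.Lib.Forms.SympStd
import Cfsg.Agent.Lib.Forms.Bases

/-!
If all lines have three members, the group is a symplectic group over the field with two elements.
-/

set_option autoImplicit false
set_option linter.unusedSectionVars false

namespace Cfsg.Agent.ThreeTransp.Polar.Symp

open Cfsg.Agent.ThreeTransp Cfsg.Agent.ThreeTransp.Polar
open Matrix

variable {G : Type*} [Group G] [Finite G] {D : Set G}

/-- all lines have three members -/
def ThreeLines (D : Set G) : Prop :=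
  ∀ x ∈ D, ∀ y ∈ D, x ≠ y → Commute x y → (line D x y).ncard = 3

theorem ThreeLines.odd (h3 : ThreeLines D) : OddLines D := fun x hx y hy hne hc => by
  rw [h3 x hx y hy hne hc]; decide

variable (C : Ctx D) (h3 : ThreeLines D)
include C h3

/-- the third member of a line -/
theorem exists_third {x y : G} (hx : x ∈ D) (hy : y ∈ D) (hxy : Commute x y) (hne : x ≠ y) :
    ∃ u ∈ line D x y, u ≠ x ∧ u ≠ y ∧ ∀ z ∈ line D x y, z = x ∨ z = y ∨ z = u := by
  classical
  obtain ⟨p, q, r, hpq, hpr, hqr, he⟩ := Set.ncard_eq_three.1 (h3 x hx y hy hne hxy)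
  have hxm : x ∈ line D x y := mem_line_left hx
  have hym : y ∈ line D x y := mem_line_right hy
  rw [he] at hxm hym ⊢
  simp only [Set.mem_insert_iff, Set.mem_singleton_iff] at hxm hym ⊢
  rcases hxm with rfl | rfl | rfl <;> rcases hym with rfl | rfl | rfl <;>
    first
      | exact absurd rfl hne
      | exact ⟨p, by simp, by simp [*, Ne.symm], by simp [*, Ne.symm], fun z hz => by tauto⟩
      | exact ⟨q, by simp, by simp [*, Ne.symm], by simp [*, Ne.symm], fun z hz => by tauto⟩
      | exact ⟨r, by simp, by simp [*, Ne.symm], by simp [*, Ne.symm], fun z hz => by tauto⟩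

omit h3 in
theorem third_iff {a b p : G} (ha : a ∈ D) (hb : b ∈ D) (hab : ¬ Commute a b)
    (hpa : Commute p a) : Commute p (a * b * a) ↔ Commute p b := by
  conv_lhs => rw [← C.cj_fix ha hpa.symm, C.commute_cj ha]

/-- a member outside a hyperbolic line and its two ends commutes with their common neighbours -/
theorem common_commute {a b p : G} (ha : a ∈ D) (hb : b ∈ D) (hp : p ∈ D) (hab : ¬ Commute a b)
    (hpa : ¬ Commute p a) (hpb : ¬ Commute p b) (hpc : ¬ Commute p (a * b * a)) {w : G}
    (hw : w ∈ D) (haw : Commute a w) (hbw : Commute b w) : Commute p w := by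
  by_contra hpw
  have hne : a ≠ w := fun e => hab (e ▸ hbw.symm)
  have hbne : b ≠ w := fun e => hab (e ▸ haw)
  obtain ⟨u, hu, hua, huw, hall⟩ := exists_third C h3 ha hw haw hne
  have hau := line_commute_left ha haw hu
  have hub : ¬ Commute u b := fun h => hab
    (commute_of_two C hb ha hw haw hne (mem_line_right hw) hu huw.symm hbw h.symm
      (mem_line_left ha)).symm
  have hpu : Commute p u := by
    obtain ⟨z, hz, hpz⟩ := one_or_all C h3.odd hp ha hw haw hne
    rcases hall z hz with rfl | rfl | rfl
    exacts [absurd hpz hpa, absurd hpz hpw, hpz]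
  -- the third member of the line through `b` and `w`
  have bu := C.braid hu.1 hb hub
  have bab := C.braid ha hb hab
  set g := a * b * u with hg
  have e1 : g * a * g⁻¹ = b := by
    rw [hg, _root_.mul_inv_rev, _root_.mul_inv_rev, C.inv ha, C.inv hb, C.inv hu.1]
    calc a * b * u * a * (u * (b * a)) = a * b * (u * a * u) * b * a := by group
      _ = a * (b * a * b) * a := by rw [C.cj_fix hu.1 hau.symm]; group
      _ = b := by rw [← bab]; exact C.cj_cj ha b
  have e2 : g * w * g⁻¹ = w := by
    have : Commute g w :=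
      ((haw.mul_left hbw).mul_left (line_commute_right hw haw hu).symm)
    rw [this.eq, mul_inv_cancel_right]
  have e3 : g * u * g⁻¹ = u * (a * b * a) * u := by
    rw [hg, _root_.mul_inv_rev, _root_.mul_inv_rev, C.inv ha, C.inv hb, C.inv hu.1]
    calc a * b * u * u * (u * (b * a)) = a * b * ((u * u) * u) * b * a := by group
      _ = a * (b * u * b) * a := by rw [C.sq hu.1, one_mul]; group
      _ = a * (u * b * u) * a := by rw [bu]
      _ = (a * u) * b * (u * a) := by group
      _ = (u * a) * b * (a * u) := by rw [hau.eq]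
      _ = u * (a * b * a) * u := by group
  have hv : u * (a * b * a) * u ∈ line D b w := by
    have := (line_conj C g).2 hu
    rwa [e1, e2, e3] at this
  have hvb : u * (a * b * a) * u ≠ b := by
    rw [← e3]; intro h
    rw [← e1] at h
    exact hua (mul_left_cancel (mul_right_cancel h))
  have hvw : u * (a * b * a) * u ≠ w := by
    rw [← e3]; intro h
    rw [← e2] at h
    exact huw (mul_left_cancel (mul_right_cancel h))
  obtain ⟨z, hz, hpz⟩ := one_or_all C h3.odd hp hb hw hbw hbne
  obtain ⟨v, hv', hvb', hvw', hall'⟩ := exists_third C h3 hb hw hbw hbne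
  have hveq : v = u * (a * b * a) * u := by
    rcases hall' _ hv with h | h | h
    exacts [absurd h hvb, absurd h hvw, h.symm]
  rcases hall' z hz with rfl | rfl | rfl
  · exact hpb hpz
  · exact hpw hpz
  · rw [hveq] at hpz
    have h := (third_iff C hu.1 (C.cj_mem ha hb) (fun h => hub ?_) hpu).1 hpz
    · exact hpc h
    · rw [show b = a * (a * b * a) * a from (C.cj_cj ha b).symm, ← C.cj_fix ha hau,
        C.commute_cj ha]
      exact h

/-- a member commutes with one or all members of a hyperbolic line -/
theorem parity {a b p : G} (ha : a ∈ D) (hb : b ∈ D) (hp : p ∈ D) (hab : ¬ Commute a b)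
    (hpa : ¬ Commute p a) (hpb : ¬ Commute p b) : Commute p (a * b * a) := by
  by_contra hpc
  set c := a * b * a with hc
  have bab : c = b * a * b := C.braid ha hb hab
  have hcD : c ∈ D := C.cj_mem ha hb
  obtain ⟨w, hw, haw, hwb⟩ := RankThree.exists_common C.grp C.prim C.wide ha hb hab
  have hpw := common_commute C h3 ha hb hp hab hpa hpb hpc hw haw hwb.symm
  have hne : a ≠ w := fun e => hab (e ▸ hwb)
  -- a member commuting with `a` only
  obtain ⟨q, hq, hqa, hqb, hqw⟩ : ∃ q ∈ D, Commute q a ∧ ¬ Commute q b ∧ ¬ Commute q w := by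
    obtain ⟨q₀, hq₀, hq₀a, hq₀w⟩ : ∃ d ∈ D, Commute d a ∧ ¬ Commute d w := by
      by_contra! hcon
      exact hne (C.eq_of_subset ha hw hcon)
    by_cases hq₀b : Commute q₀ b
    · have hne₀ : a ≠ q₀ := fun e => hab (e ▸ hq₀b)
      obtain ⟨q, hq, hqa, hqq, -⟩ := exists_third C h3 ha hq₀ hq₀a.symm hne₀
      refine ⟨q, hq.1, (line_commute_left ha hq₀a.symm hq).symm, fun h => hab ?_, fun h => hq₀w ?_⟩
      · exact (commute_of_two C hb ha hq₀ hq₀a.symm hne₀ (mem_line_right hq₀) hq hqq.symm
          hq₀b.symm h.symm (mem_line_left ha)).symm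
      · exact (commute_of_two C hw ha hq₀ hq₀a.symm hne₀ (mem_line_left ha) hq hqa.symm
          haw.symm h.symm (mem_line_right hq₀)).symm
    · exact ⟨q₀, hq₀, hq₀a, hq₀b, hq₀w⟩
  have T : ∀ e ∈ D, ∀ f ∈ D, ¬ Commute e f → Commute e w → Commute f w → ¬ Commute q e →
      (Commute q f ↔ ¬ Commute q (e * f * e)) := by
    intro e he f hf hef hew hfw hqe
    refine ⟨fun h h' => hqe ?_, fun h => by_contra fun h' =>
      hqw (common_commute C h3 he hf hq hef hqe h' h hw hew hfw)⟩
    rw [C.braid he hf hef] at h'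
    exact (third_iff C hf he (fun h => hef h.symm) h).1 h'
  have hcw : Commute c w := (haw.mul_left hwb.symm).mul_left haw
  have hqc : ¬ Commute q c := fun h => hqb ((third_iff C ha hb hab hqa).1 h)
  have hbp : ¬ Commute b p := fun h => hpb h.symm
  have hcp : ¬ Commute c p := fun h => hpc h.symm
  set d := b * p * b with hd
  set f := c * p * c with hf
  have hdD : d ∈ D := C.cj_mem hb hp
  have hfD : f ∈ D := C.cj_mem hcD hp
  have cbc : c * b * c = a := by
    have hsb := C.sq hb
    calc c * b * c = (b * a * b) * b * (b * a * b) := by rw [← bab]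
      _ = b * a * (b * b) * b * a * b := by group
      _ = b * (a * b * a) * b := by rw [hsb]; group
      _ = b * (b * a * b) * b := by rw [← hc, bab]
      _ = a := C.cj_cj hb a
  have abc : a * b * c = b := by
    calc a * b * c = a * b * (b * a * b) := by rw [← bab]
      _ = a * (b * b) * a * b := by group
      _ = b := by rw [C.sq hb, mul_one, C.sq ha, one_mul]
  have cba : c * b * a = b := by
    calc c * b * a = (b * a * b) * b * a := by rw [← bab]
      _ = b * a * (b * b) * a := by group
      _ = b := by rw [C.sq hb, mul_one, mul_assoc, C.sq ha, mul_one]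
  have hbf : ¬ Commute b f := fun h => hpa (by
    rw [hf, ← C.commute_cj_left hcD, cbc] at h
    exact h.symm)
  set g := b * f * b with hg
  have hgD : g ∈ D := C.cj_mem hb hfD
  have hag : ¬ Commute a g := fun h => hpc (by
    rw [hg, ← C.commute_cj_left hb, ← bab, hf, ← C.commute_cj_left hcD,
      show c * c * c = c by rw [C.sq hcD, one_mul]] at h
    exact h.symm)
  have agd : a * g * a = d := by
    calc a * g * a = (a * b * c) * p * (c * b * a) := by rw [hg, hf]; group
      _ = d := by rw [abc, cba]
  have hfw : Commute f w := (hcw.mul_left hpw).mul_left hcw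
  have hgw : Commute g w := (hwb.symm.mul_left hfw).mul_left hwb.symm
  have i1 := T b hb p hp hbp hwb.symm hpw hqb
  have i2 := T c hcD p hp hcp hcw hpw hqc
  have i3 := T b hb f hfD hbf hwb.symm hfw hqb
  have i4 := third_iff C ha hgD hag hqa
  rw [agd] at i4
  rw [← hd] at i1
  rw [← hf] at i2
  rw [← hg] at i3
  tauto

open Classical in
/-- the noncommuting functional of a member -/
noncomputable def phi (d : ↥D) : ↥D → ZMod 2 := fun e => if Commute (d : G) (e : G) then 0 else 1

omit C h3 in
theorem phi_eq_zero {d e : ↥D} : phi d e = 0 ↔ Commute (d : G) (e : G) := by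
  classical
  unfold phi
  split <;> simp_all

omit C h3 in
theorem phi_symm (d e : ↥D) : phi d e = phi e d := by
  classical
  unfold phi
  by_cases h : Commute (d : G) (e : G)
  · rw [if_pos h, if_pos h.symm]
  · rw [if_neg h, if_neg fun h' => h h'.symm]

omit h3 in
theorem phi_inj {d e : ↥D} (h : phi d = phi e) : d = e :=
  Subtype.ext (C.eq_of_sameComm e.2 d.2 fun u hu => by
    rw [← phi_eq_zero (d := d) (e := ⟨u, hu⟩), h, phi_eq_zero])

omit h3 in
theorem phi_ne_zero (d : ↥D) : phi d ≠ 0 := fun h => by
  obtain ⟨e, he, hde⟩ := Classes.exists_noncomm C.grp C.prim.1 C.prim.2.1 d.2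
  exact hde (phi_eq_zero.1 (congrFun h ⟨e, he⟩))

/-- the third member through two different members -/
theorem phi_add (d e : ↥D) (hne : d ≠ e) : ∃ f : ↥D, phi f = phi d + phi e := by
  classical
  have two : ∀ i : ZMod 2, i = 0 ∨ i = 1 := by decide
  have key : ∀ f : ↥D, (∀ u : ↥D, (Commute (d : G) u → (Commute (e : G) u ↔ Commute (f : G) u)) ∧
      (¬ Commute (d : G) u → (Commute (e : G) u ↔ ¬ Commute (f : G) u))) →
      phi f = phi d + phi e := by
    intro f hf
    funext u
    obtain ⟨h1, h2⟩ := hf u
    simp only [Pi.add_apply, phi]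
    by_cases hd : Commute (d : G) u
    · by_cases he : Commute (e : G) u
      · simp [hd, he, (h1 hd).1 he]
      · simp [hd, he, mt (h1 hd).2 he]
    · by_cases he : Commute (e : G) u
      · simp [hd, he, (h2 hd).1 he]
      · simp [hd, he, not_not.1 (mt (h2 hd).2 he)]
        decide
  by_cases hde : Commute (d : G) (e : G)
  · have hne' : (d : G) ≠ e := fun h => hne (Subtype.ext h)
    obtain ⟨f, hf, hfd, hfe, hall⟩ := exists_third C h3 d.2 e.2 hde hne'
    refine ⟨⟨f, hf.1⟩, key _ fun u => ⟨fun hd => ⟨fun he => ?_, fun hf' => ?_⟩, fun hd =>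
      ⟨fun he hf' => hd ?_, fun hf' => ?_⟩⟩⟩
    · exact (commute_line u.2 hd.symm he.symm hf).symm
    · exact (commute_of_two C u.2 d.2 e.2 hde hne' (mem_line_left d.2) hf hfd.symm hd.symm
        hf'.symm (mem_line_right e.2)).symm
    · exact (commute_of_two C u.2 d.2 e.2 hde hne' (mem_line_right e.2) hf hfe.symm he.symm
        hf'.symm (mem_line_left d.2)).symm
    · obtain ⟨z, hz, huz⟩ := one_or_all C h3.odd u.2 d.2 e.2 hde hne'
      rcases hall z hz with rfl | rfl | rfl
      exacts [absurd huz.symm hd, huz.symm, absurd huz.symm hf']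
  · have hed : ¬ Commute (e : G) (d : G) := fun h => hde h.symm
    refine ⟨⟨d * e * d, C.cj_mem d.2 e.2⟩, key _ fun u => ⟨fun hd => ?_, fun hd =>
      ⟨fun he hf' => hd ?_, fun hf' => ?_⟩⟩⟩
    · have h := third_iff C d.2 e.2 hde hd.symm
      exact ⟨fun he => (h.2 he.symm).symm, fun hf' => (h.1 hf'.symm).symm⟩
    · have h := third_iff C e.2 d.2 hed he.symm
      rw [← C.braid d.2 e.2 hde] at h
      exact (h.1 hf'.symm).symm
    · by_contra he
      exact hf' (parity C h3 d.2 e.2 u.2 hde (fun h => hd h.symm) fun h => he h.symm).symm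

/-- the space of functionals -/
def space : Submodule (ZMod 2) (↥D → ZMod 2) where
  carrier := insert 0 (Set.range phi)
  zero_mem' := Set.mem_insert _ _
  add_mem' := by
    rintro v w (rfl | ⟨d, rfl⟩) hw
    · rwa [zero_add]
    rcases hw with rfl | ⟨e, rfl⟩
    · rw [add_zero]; exact Or.inr ⟨d, rfl⟩
    by_cases hde : d = e
    · subst hde
      exact Or.inl (funext fun u => CharTwo.add_self_eq_zero _)
    · obtain ⟨f, hf⟩ := phi_add C h3 d e hde
      exact Or.inr ⟨f, hf⟩
  smul_mem' := by
    intro c v hv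
    rcases (by decide : ∀ i : ZMod 2, i = 0 ∨ i = 1) c with rfl | rfl
    · rw [zero_smul]; exact Set.mem_insert _ _
    · rwa [one_smul]

theorem mem_space {v : ↥D → ZMod 2} : v ∈ space C h3 ↔ v = 0 ∨ ∃ d, phi d = v := Iff.rfl

/-- the member of a functional -/
noncomputable def vec (d : ↥D) : ↥(space C h3) := ⟨phi d, Or.inr ⟨d, rfl⟩⟩

theorem vec_cases (v : ↥(space C h3)) : v = 0 ∨ ∃ d, vec C h3 d = v := by
  rcases v.2 with h | ⟨d, h⟩
  · exact Or.inl (Subtype.ext h)
  · exact Or.inr ⟨d, Subtype.ext h⟩

open Classical in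
/-- the value of a vector at a vector -/
noncomputable def pair (v w : ↥(space C h3)) : ZMod 2 :=
  if h : ∃ d, vec C h3 d = v then (w : ↥D → ZMod 2) h.choose else 0

theorem pair_vec (d : ↥D) (w : ↥(space C h3)) :
    pair C h3 (vec C h3 d) w = (w : ↥D → ZMod 2) d := by
  classical
  have h : ∃ e, vec C h3 e = vec C h3 d := ⟨d, rfl⟩
  have he : h.choose = d := phi_inj C (congrArg Subtype.val h.choose_spec)
  rw [pair, dif_pos h, he]

theorem pair_zero (w : ↥(space C h3)) : pair C h3 0 w = 0 := by
  classical
  rw [pair, dif_neg]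
  rintro ⟨d, hd⟩
  exact phi_ne_zero C d (congrArg Subtype.val hd)

theorem pair_symm (v w : ↥(space C h3)) : pair C h3 v w = pair C h3 w v := by
  rcases vec_cases C h3 v with rfl | ⟨d, rfl⟩ <;> rcases vec_cases C h3 w with rfl | ⟨e, rfl⟩
  · rfl
  · rw [pair_zero, pair_vec]; rfl
  · rw [pair_zero, pair_vec]; rfl
  · rw [pair_vec, pair_vec]; exact phi_symm e d

theorem pair_add (v w w' : ↥(space C h3)) :
    pair C h3 v (w + w') = pair C h3 v w + pair C h3 v w' := by
  rcases vec_cases C h3 v with rfl | ⟨d, rfl⟩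
  · simp [pair_zero]
  · simp [pair_vec]

theorem pair_smul (v w : ↥(space C h3)) (c : ZMod 2) :
    pair C h3 v (c • w) = c * pair C h3 v w := by
  rcases vec_cases C h3 v with rfl | ⟨d, rfl⟩
  · simp [pair_zero]
  · simp [pair_vec]

/-- the alternating form -/
noncomputable def form : LinearMap.BilinForm (ZMod 2) ↥(space C h3) :=
  LinearMap.mk₂ (ZMod 2) (pair C h3)
    (fun v v' w => by rw [pair_symm, pair_add, pair_symm _ _ w v, pair_symm _ _ w v'])
    (fun c v w => by rw [pair_symm, pair_smul, pair_symm _ _ w v, smul_eq_mul])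
    (fun v w w' => pair_add C h3 v w w')
    (fun c v w => by rw [pair_smul, smul_eq_mul])

theorem form_apply (v w : ↥(space C h3)) : form C h3 v w = pair C h3 v w := rfl

theorem form_alt : (form C h3).IsAlt := fun v => by
  rcases vec_cases C h3 v with rfl | ⟨d, rfl⟩
  · simp [form_apply, pair_zero]
  · rw [form_apply, pair_vec]; exact phi_eq_zero.2 (Commute.refl _)

theorem form_nondeg : (form C h3).Nondegenerate := by
  have h : ∀ v, (∀ w, form C h3 v w = 0) → v = 0 := fun v hv =>
    Subtype.ext (funext fun d => by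
      have := hv (vec C h3 d)
      rw [form_apply, pair_symm, pair_vec] at this
      exact this)
  exact ⟨h, fun v hv => h v fun w => by rw [form_apply, pair_symm]; exact hv w⟩

omit h3 in
/-- conjugation on members -/
def cjD (g : G) (d : ↥D) : ↥D := ⟨g * d * g⁻¹, C.grp.2.1 g d d.2⟩

omit h3 in
theorem phi_cjD (g : G) (d e : ↥D) : phi (cjD C g d) e = phi d (cjD C g⁻¹ e) := by
  classical
  have hc : Commute ((cjD C g d : ↥D) : G) e ↔ Commute (d : G) (cjD C g⁻¹ e) := by
    conv_lhs => rw [show (e : G) = g * (cjD C g⁻¹ e) * g⁻¹ by simp only [cjD]; group]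
    exact Basic.commute_conj
  simp only [phi]
  by_cases h : Commute (d : G) (cjD C g⁻¹ e)
  · rw [if_pos (hc.2 h), if_pos h]
  · rw [if_neg (mt hc.1 h), if_neg h]

/-- the action on the space -/
noncomputable def act (g : G) : ↥(space C h3) →ₗ[ZMod 2] ↥(space C h3) :=
  (LinearMap.funLeft (ZMod 2) (ZMod 2) (cjD C g⁻¹)).restrict (by
    rintro v (rfl | ⟨d, rfl⟩)
    · rw [map_zero]; exact Submodule.zero_mem _
    · exact Or.inr ⟨cjD C g d, funext fun e => phi_cjD C g d e⟩)

theorem act_apply (g : G) (v : ↥(space C h3)) (e : ↥D) :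
    (act C h3 g v : ↥D → ZMod 2) e = (v : ↥D → ZMod 2) (cjD C g⁻¹ e) := rfl

theorem act_vec (g : G) (d : ↥D) : act C h3 g (vec C h3 d) = vec C h3 (cjD C g d) :=
  Subtype.ext (funext fun e => (phi_cjD C g d e).symm)

theorem act_mul (g h : G) (v : ↥(space C h3)) :
    act C h3 (g * h) v = act C h3 g (act C h3 h v) := by
  refine Subtype.ext (funext fun e => ?_)
  rw [act_apply, act_apply, act_apply]
  refine congrArg _ (Subtype.ext ?_); simp only [cjD]; group

theorem act_one (v : ↥(space C h3)) : act C h3 1 v = v := by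
  refine Subtype.ext (funext fun e => ?_)
  rw [act_apply]
  refine congrArg _ (Subtype.ext ?_); simp only [cjD]; group

theorem act_pair (g : G) (v w : ↥(space C h3)) :
    form C h3 (act C h3 g v) (act C h3 g w) = form C h3 v w := by
  rcases vec_cases C h3 v with rfl | ⟨d, rfl⟩
  · simp
  rw [act_vec, form_apply, form_apply, pair_vec, pair_vec, act_apply]
  refine congrArg _ (Subtype.ext ?_); simp only [cjD]; group

theorem act_member (d : ↥D) (v : ↥(space C h3)) :
    act C h3 (d : G) v = v + form C h3 v (vec C h3 d) • vec C h3 d := by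
  rcases vec_cases C h3 v with rfl | ⟨e, rfl⟩
  · simp
  rw [act_vec, form_apply, pair_vec]
  show _ = _ + phi d e • _
  classical
  by_cases hde : Commute (d : G) (e : G)
  · rw [phi_eq_zero.2 hde, zero_smul, add_zero]
    refine congrArg _ (Subtype.ext ?_)
    show (d : G) * e * (d : G)⁻¹ = e
    rw [hde.eq, mul_inv_cancel_right]
  · have h1 : phi d e = 1 := by simp [phi, hde]
    rw [h1, one_smul]
    refine Subtype.ext (funext fun u => ?_)
    have e' : cjD C (d : G) e = ⟨d * e * d, C.cj_mem d.2 e.2⟩ := Subtype.ext (by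
      show (d : G) * e * (d : G)⁻¹ = d * e * d
      rw [C.inv d.2])
    show phi (cjD C (d : G) e) u = phi e u + phi d u
    rw [e']
    simp only [phi]
    have hed : ¬ Commute (e : G) (d : G) := fun h => hde h.symm
    by_cases hd : Commute (d : G) u
    · have h := third_iff C d.2 e.2 hde hd.symm
      by_cases he : Commute (e : G) u
      · simp [hd, he, (h.2 he.symm).symm]
      · have : ¬ Commute ((d : G) * e * d) u := fun h' => he (h.1 h'.symm).symm
        simp [hd, he, this]
    · by_cases he : Commute (e : G) u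
      · have h := third_iff C e.2 d.2 hed he.symm
        rw [← C.braid d.2 e.2 hde] at h
        have : ¬ Commute ((d : G) * e * d) u := fun h' => hd (h.1 h'.symm).symm
        simp [hd, he, this]
      · have := (parity C h3 d.2 e.2 u.2 hde (fun h => hd h.symm) fun h => he h.symm).symm
        simp [hd, he, this]
        decide

/-- the conclusion -/
theorem main : ∃ m : ℕ, Nonempty (G ≃* Matrix.symplecticGroup (Fin m) (ZMod 2)) := by
  classical
  obtain ⟨m, hm⟩ := Forms.Bases.even_finrank_of_alt (form C h3) (form_alt C h3) (form_nondeg C h3)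
  obtain ⟨b, h12, h11, h22⟩ :=
    Forms.Bases.exists_sympBasis (form C h3) (form_alt C h3) (form_nondeg C h3) hm
  let co : ↥(space C h3) ≃ₗ[ZMod 2] (Fin m ⊕ Fin m → ZMod 2) := b.equivFun
  have hform : ∀ v w, Cfsg.sympForm m (ZMod 2) (co v) (co w) = form C h3 v w := by
    intro v w
    have e : (Forms.SympStd.sympB m (ZMod 2)).compl₁₂ co.toLinearMap co.toLinearMap =
        form C h3 := by
      refine LinearMap.ext_basis b b fun i j => ?_
      have one : ∀ t : ZMod 2, -t = t := by decide
      have sw : ∀ i j, form C h3 (b i) (b j) = form C h3 (b j) (b i) := fun i j => by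
        simp only [form_apply]; exact pair_symm C h3 _ _
      simp only [LinearMap.compl₁₂_apply, LinearEquiv.coe_coe, Forms.SympStd.sympB_apply, co,
        Module.Basis.equivFun_apply, Module.Basis.repr_self, Finsupp.single_eq_pi_single]
      rcases i with i | i <;> rcases j with j | j
      · rw [h11, Forms.SympStd.sympForm_inl_inl]
      · rw [h12, Forms.SympStd.sympForm_inl_inr]
        split <;> simp [one]
      · rw [sw, h12, Forms.SympStd.sympForm_inr_inl]
        split <;> split <;> simp_all
      · rw [h22, Forms.SympStd.sympForm_inr_inr]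
    rw [← e]
    simp [Forms.SympStd.sympB_apply]
  let actL : G → (↥(space C h3) ≃ₗ[ZMod 2] ↥(space C h3)) := fun g =>
    { act C h3 g with
      invFun := act C h3 g⁻¹
      left_inv := fun v => by
        show act C h3 g⁻¹ (act C h3 g v) = v
        rw [← act_mul, inv_mul_cancel, act_one]
      right_inv := fun v => by
        show act C h3 g (act C h3 g⁻¹ v) = v
        rw [← act_mul, mul_inv_cancel, act_one] }
  have actL_apply : ∀ g v, actL g v = act C h3 g v := fun _ _ => rfl
  let actE : G → ((Fin m ⊕ Fin m → ZMod 2) ≃ₗ[ZMod 2] (Fin m ⊕ Fin m → ZMod 2)) := fun g =>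
    co.symm.trans ((actL g).trans co)
  have hpres : ∀ g u v, Cfsg.sympForm m (ZMod 2) (actE g u) (actE g v) =
      Cfsg.sympForm m (ZMod 2) u v := by
    intro g u v
    simp only [actE, LinearEquiv.trans_apply, actL_apply]
    rw [hform, act_pair, ← hform, LinearEquiv.apply_symm_apply, LinearEquiv.apply_symm_apply]
  let ρ : G →* Matrix.symplecticGroup (Fin m) (ZMod 2) :=
    { toFun := fun g => Forms.SympStd.ofEquiv (actE g) (hpres g)
      map_one' := Forms.SympStd.sp_ext fun v => by
        rw [Forms.SympStd.ofEquiv_mulVec]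
        simp [actE, actL_apply, act_one]
      map_mul' := fun g h => Forms.SympStd.sp_ext fun v => by
        rw [Forms.SympStd.mul_mulVec_sp, Forms.SympStd.ofEquiv_mulVec,
          Forms.SympStd.ofEquiv_mulVec, Forms.SympStd.ofEquiv_mulVec]
        simp [actE, actL_apply, act_mul] }
  refine ⟨m, ⟨MulEquiv.ofBijective ρ ⟨?_, ?_⟩⟩⟩
  · rw [injective_iff_map_eq_one]
    intro g hg
    have hfix : ∀ v, act C h3 g v = v := by
      intro v
      have h1 : (ρ g : Matrix (Fin m ⊕ Fin m) (Fin m ⊕ Fin m) (ZMod 2)) *ᵥ co v = co v := by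
        rw [hg]; simp
      rw [show (ρ g) = Forms.SympStd.ofEquiv (actE g) (hpres g) from rfl,
        Forms.SympStd.ofEquiv_mulVec] at h1
      simpa [actE, actL_apply] using h1
    have hcen : g ∈ Subgroup.center G := by
      rw [← Subgroup.centralizer_univ, ← Subgroup.coe_top, ← C.grp.2.2,
        Subgroup.centralizer_closure, Subgroup.mem_centralizer_iff]
      intro d hd
      have := hfix (vec C h3 ⟨d, hd⟩)
      rw [act_vec] at this
      have e := congrArg Subtype.val (phi_inj C (congrArg Subtype.val this))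
      exact (mul_inv_eq_iff_eq_mul.1 e).symm
    rwa [C.cent, Subgroup.mem_bot] at hcen
  · rw [← MonoidHom.range_eq_top, eq_top_iff, ← Forms.SympStd.closure_tvSet_eq_top,
      Subgroup.closure_le]
    rintro A ⟨w, c, -, hA⟩
    by_cases h0 : c • w = 0
    · refine ⟨1, ?_⟩
      rw [map_one]
      refine Forms.SympStd.sp_ext fun x => ?_
      rw [hA, Forms.SympStd.transvection_mulVec]
      rcases smul_eq_zero.1 h0 with h | h <;> simp [h]
    · have hc : c = 1 := ((by decide : ∀ i : ZMod 2, i = 0 ∨ i = 1) c).resolve_left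
        fun h => h0 (by simp [h])
      subst hc
      rw [one_smul] at h0
      obtain ⟨d, hd⟩ := (vec_cases C h3 (co.symm w)).resolve_left
        (fun h => h0 (by simpa using congrArg co h))
      refine ⟨d, Forms.SympStd.sp_ext fun x => ?_⟩
      rw [hA, Forms.SympStd.transvection_mulVec,
        show ρ (d : G) = Forms.SympStd.ofEquiv (actE d) (hpres d) from rfl,
        Forms.SympStd.ofEquiv_mulVec]
      simp only [actE, LinearEquiv.trans_apply, actL_apply]
      rw [act_member, map_add, map_smul, LinearEquiv.apply_symm_apply, ← hform,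
        LinearEquiv.apply_symm_apply, hd, LinearEquiv.apply_symm_apply, one_mul]

end Cfsg.Agent.ThreeTransp.Polar.Symp
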