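import Cfsg.Agent.Lib.ThreeTransp.Polar.UnitModel
import Cfsg.Agent.Lib.Forms.Bases
import Cfsg.Agent.GroupStructure3.ThreeTransUnitary

/-!
Lines with five members: the group is the projective special unitary group over the field with four
elements.
-/

set_option autoImplicit false
set_option linter.unusedSectionVars false

namespace Cfsg.Agent.ThreeTransp.Polar.Unit

open Cfsg.Agent.ThreeTransp Cfsg.Agent.ThreeTransp.Polar
open Matrix Cfsg.Agent.Classical.Unitary
open Cfsg.Agent.GroupStructure3.ThreeTransUnitary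

variable {G : Type*} [Group G] [Finite G] {D : Set G} {a b : G}
variable (F : Frame D a b)
include F

theorem Sim.symm' {u v : V F} (h : Sim F u v) : Sim F v u := by
  obtain ⟨c, hc, rfl⟩ := h
  exact ⟨c⁻¹, inv_ne_zero hc, by rw [smul_smul, inv_mul_cancel₀ hc, one_smul]⟩

theorem Sim.trans' {u v w : V F} (h : Sim F u v) (h' : Sim F v w) : Sim F u w := by
  obtain ⟨c, hc, rfl⟩ := h
  obtain ⟨c', hc', rfl⟩ := h'
  exact ⟨c * c', mul_ne_zero hc hc', smul_smul c c' w⟩

theorem four_le_finrank : 4 ≤ Module.finrank K (V F) := by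
  obtain ⟨r₀, hr₀D, har₀, hr₀b⟩ := RankThree.exists_common F.ctx.grp F.ctx.prim F.ctx.wide F.ha
    F.hb F.hab
  obtain ⟨x, hx⟩ := fib_nonempty F (⟨hr₀D, har₀, hr₀b.symm⟩ : InR D a b r₀)
  obtain ⟨t, ht, hrt⟩ := exists_far F (xR F hx.1)
  obtain ⟨hy, -, hp⟩ := partner_spec F hx.1 ht hrt
  set y : Xs D a b := ⟨_, hy⟩
  let v : Fin 4 → V F := ![(1, 0, 0), (0, 1, 0), (0, 0, wv F ⟨x, hx.1⟩), (0, 0, wv F y)]
  have hli : LinearIndependent K v := by
    rw [Fintype.linearIndependent_iff]
    intro g hg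
    simp only [Fin.sum_univ_four, v, Matrix.cons_val_zero, Matrix.cons_val_one,
      Matrix.cons_val_two, Matrix.cons_val_three, Matrix.tail_cons, Matrix.head_cons] at hg
    have h0 : g 0 = 0 := by simpa using congrArg (fun u : V F => u.1) hg
    have h1 : g 1 = 0 := by simpa using congrArg (fun u : V F => u.2.1) hg
    have h23 : g 2 • wv F ⟨x, hx.1⟩ + g 3 • wv F y = 0 := by
      simpa using congrArg (fun u : V F => u.2.2) hg
    have e := congrArg (fun u : ↥(W F) => HW F (wv F ⟨x, hx.1⟩) u) h23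
    simp [HW_wv, hf_self, hf_one F hp, y] at e
    have e' := congrArg (fun u : ↥(W F) => HW F (wv F y) u) h23
    simp [HW_wv, hf_self, hf_one F (pi_symm F hp), y] at e'
    intro i
    fin_cases i
    exacts [h0, h1, e', e]
  have := hli.fintype_card_le_finrank
  simpa using this

theorem transvection_T (d : G) (u : V F) : T F (Psi F d) u = u + H F (Psi F d) u • Psi F d := rfl

/-- The group is a projective special unitary group over the field with four elements. -/
theorem main : ∃ n : ℕ, Nonempty (G ≃* Cfsg.PSU n K 2) := by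
  classical
  obtain ⟨n, hn4, e, he⟩ : ∃ n, 4 ≤ n ∧ ∃ e : Module.Basis (Fin n) K (V F),
      ∀ i j, H F (e i) (e j) = if i = j then 1 else 0 :=
    ⟨_, four_le_finrank F,
      Forms.Bases.exists_orthonormal_basis σ σ_ne_id σ_σ (H F) (H_isSymm F) (H_sep F)⟩
  have hK : Fintype.card K = 2 ^ 2 := by rw [card_K]; norm_num
  let co : V F ≃ₗ[K] (Fin n → K) := e.equivFun
  have hform : ∀ u v : V F, Cfsg.hermForm n K 2 (co u) (co v) = H F v u := by
    intro u v
    conv_rhs => rw [← e.sum_equivFun u, ← e.sum_equivFun v]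
    simp only [map_sum, LinearMap.sum_apply, LinearMap.map_smulₛₗ, LinearMap.smul_apply,
      RingHom.id_apply, smul_eq_mul]
    simp only [he, Cfsg.hermForm, co, Finset.mul_sum, mul_ite, mul_one, mul_zero, ite_mul, zero_mul,
      Finset.sum_ite_eq', Finset.sum_ite_eq, Finset.mem_univ, if_true, σ_apply, pow_two, smul_eq_mul]
  let act : Cfsg.SU n K 2 → V F → V F := fun g v => co.symm (mat g *ᵥ co v)
  have act_smul : ∀ g (c : K) v, act g (c • v) = c • act g v := fun g c v => by
    simp [act, Matrix.mulVec_smul]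
  have act_one : ∀ v, act 1 v = v := fun v => by simp [act, mat_one]
  have act_mul : ∀ g h v, act (g * h) v = act g (act h v) := fun g h v => by
    simp [act, mul_mulVec]
  have act_sim : ∀ g u v, Sim F u v → Sim F (act g u) (act g v) := by
    rintro g u v ⟨c, hc, rfl⟩
    exact ⟨c, hc, act_smul g c v⟩
  have act_iso : ∀ g v, v ≠ 0 → H F v v = 0 → act g v ≠ 0 ∧ H F (act g v) (act g v) = 0 := by
    intro g v hv0 hv
    refine ⟨fun h => hv0 ?_, ?_⟩
    · have h2 := congrArg (act g⁻¹) h
      rw [← act_mul, inv_mul_cancel, act_one] at h2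
      rw [h2]
      simp [act]
    · rw [← hform]
      simp only [act, LinearEquiv.apply_symm_apply]
      rw [SU_H, hform, hv]
  -- the permutation of the members
  have ex : ∀ (g : Cfsg.SU n K 2) (d : ↥D), ∃ p : ↥D, Sim F (act g (Psi F d)) (Psi F p) := by
    intro g d
    obtain ⟨h0, h1⟩ := act_iso g _ (Psi_ne_zero F d) (Psi_iso F d.2)
    obtain ⟨p, hp, h⟩ := Psi_surj F h0 h1
    exact ⟨⟨p, hp⟩, h⟩
  choose pm hpm using ex
  have pm_eq : ∀ g (d p : ↥D), Sim F (act g (Psi F d)) (Psi F p) → pm g d = p := fun g d p h =>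
    Subtype.ext (Psi_inj F (pm g d).2 p.2 (Sim.trans' F (Sim.symm' F (hpm g d)) h))
  have pm_one : ∀ d, pm 1 d = d := fun d => pm_eq 1 d d (by rw [act_one]; exact Sim.refl F _)
  have pm_mul : ∀ g h d, pm (g * h) d = pm g (pm h d) := fun g h d => pm_eq _ d _ (by
    rw [act_mul]
    exact Sim.trans' F (act_sim g _ _ (hpm h d)) (hpm g (pm h d)))
  let Θ : Cfsg.SU n K 2 →* Equiv.Perm ↥D :=
    { toFun := fun g => ⟨pm g, pm g⁻¹,
        fun d => by rw [← pm_mul, inv_mul_cancel, pm_one],
        fun d => by rw [← pm_mul, mul_inv_cancel, pm_one]⟩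
      map_one' := Equiv.ext pm_one
      map_mul' := fun g h => Equiv.ext (pm_mul g h) }
  let cj : G → ↥D → ↥D := fun g d => ⟨g * d * g⁻¹, F.ctx.grp.2.1 g d d.2⟩
  let ι : G →* Equiv.Perm ↥D :=
    { toFun := fun g => Equiv.mk (cj g) (cj g⁻¹)
        (fun d => Subtype.ext (by simp only [cj]; group))
        (fun d => Subtype.ext (by simp only [cj]; group))
      map_one' := Equiv.ext fun d => Subtype.ext (by simp [cj])
      map_mul' := fun g h => Equiv.ext fun d => Subtype.ext (by
        simp only [cj, Equiv.Perm.mul_apply, Equiv.coe_fn_mk]; group) }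
  have hι : Function.Injective ι := by
    rw [injective_iff_map_eq_one]
    intro g hg
    have hcen : g ∈ Subgroup.center G := by
      rw [← Subgroup.centralizer_univ, ← Subgroup.coe_top, ← F.ctx.grp.2.2,
        Subgroup.centralizer_closure, Subgroup.mem_centralizer_iff]
      intro d hd
      have h : g * d * g⁻¹ = d :=
        congrArg (fun π : Equiv.Perm ↥D => ((π ⟨d, hd⟩ : ↥D) : G)) hg
      exact (mul_inv_eq_iff_eq_mul.1 h).symm
    rwa [F.ctx.cent, Subgroup.mem_bot] at hcen
  have hiso : ∀ d : ↥D, Cfsg.hermForm n K 2 (co (Psi F d)) (co (Psi F d)) = 0 := fun d => by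
    rw [hform, Psi_iso F d.2]
  have hgen : ∀ d : ↥D, Θ (tr hK (hiso d)) = ι d := by
    intro d
    refine Equiv.ext fun q => pm_eq _ q _ ?_
    have e1 : act (tr hK (hiso d)) (Psi F q) = T F (Psi F d) (Psi F q) := by
      apply co.injective
      simp only [act, LinearEquiv.apply_symm_apply, tr_mulVec, hform, transvection_T, map_add,
        map_smul]
    rw [e1]
    have h := (main_props F d d.2).1 q q.2
    show Sim F _ (Psi F ((d : G) * q * (d : G)⁻¹))
    rwa [F.ctx.inv d.2]
  have hpt : ∀ (v : Fin n → K) (hv : Cfsg.hermForm n K 2 v v = 0), v ≠ 0 →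
      ∃ d : ↥D, tr hK hv = tr hK (hiso d) := by
    intro v hv hv0
    obtain ⟨p, hp, c, hc, hce⟩ := Psi_surj F (v := co.symm v) (by simpa using hv0)
      (by rw [← hform, LinearEquiv.apply_symm_apply, hv])
    have e : v = c • co (Psi F p) := by rw [← map_smul, ← hce, LinearEquiv.apply_symm_apply]
    refine ⟨⟨p, hp⟩, ?_⟩
    subst e
    exact tr_smul hK (hiso ⟨p, hp⟩) hc hv
  set S : Set (Cfsg.SU n K 2) := {g | ∃ d : ↥D, g = tr hK (hiso d)}
  have hS : Subgroup.closure S = ⊤ := by
    rw [eq_top_iff, ← tvGroup_eq_top (q := 2) hK (show 1 ≤ n by omega) (by omega)]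
    refine (Subgroup.closure_le _).2 ?_
    rintro g ⟨v, c, hv, hc, hg⟩
    have hgx : ∀ x, mat g *ᵥ x = x + (c * Cfsg.hermForm n K 2 x v) • v := fun x => by
      rw [hg, Cfsg.Agent.Forms.HermStd.transvection_mulVec]
    by_cases h0 : c = 0 ∨ v = 0
    · have : g = 1 := SU_ext fun x => by
        rw [hgx, mat_one, one_mulVec]
        rcases h0 with rfl | rfl <;> simp
      rw [this]; exact one_mem _
    push Not at h0
    have h1 : c * (1 + c) = 0 := by linear_combination hc
    have hc1 : c = 1 := (eq_of_add_eq_zero ((mul_eq_zero.1 h1).resolve_left h0.1)).symm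
    obtain ⟨d, hd⟩ := hpt v hv h0.2
    refine Subgroup.subset_closure ⟨d, ?_⟩
    rw [← hd]
    refine SU_ext fun x => ?_
    rw [hgx, tr_mulVec, hc1, one_mul]
  have hrange : Θ.range = ι.range := by
    apply le_antisymm
    · rw [MonoidHom.range_eq_map, ← hS, MonoidHom.map_closure, Subgroup.closure_le]
      rintro _ ⟨g, ⟨d, rfl⟩, rfl⟩
      exact ⟨d, (hgen d).symm⟩
    · rw [MonoidHom.range_eq_map, ← F.ctx.grp.2.2, MonoidHom.map_closure, Subgroup.closure_le]
      rintro _ ⟨g, hg, rfl⟩
      exact ⟨_, hgen ⟨g, hg⟩⟩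
  have hker : Θ.ker = Subgroup.center (Cfsg.SU n K 2) := by
    ext g
    constructor
    · intro hg
      rw [← Subgroup.centralizer_univ, ← Subgroup.coe_top, ← hS, Subgroup.centralizer_closure,
        Subgroup.mem_centralizer_iff]
      rintro _ ⟨d, rfl⟩
      have h := hpm g d
      rw [show pm g d = d from congrArg (fun π : Equiv.Perm ↥D => π d) hg] at h
      obtain ⟨c, hc, hce⟩ := h
      have hcv : Cfsg.hermForm n K 2 (c • co (Psi F d)) (c • co (Psi F d)) = 0 := by
        rw [← map_smul, hform]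
        simp [LinearMap.map_smulₛₗ, Psi_iso F d.2]
      have := tr_conj hK g (hiso d) hcv (by
        rw [← map_smul, ← hce]; simp [act])
      rw [tr_smul hK (hiso d) hc hcv] at this
      exact (mul_inv_eq_iff_eq_mul.1 this).symm
    · intro hg
      obtain ⟨k, hk⟩ := (mem_center_iff hK (by omega) g).1 hg
      refine Equiv.ext fun d => pm_eq g d d ?_
      have e : act g (Psi F d) = k • Psi F d := by
        simp [act, hk, Matrix.smul_mulVec]
      refine ⟨k, fun hk0 => ?_, e⟩
      rw [hk0, zero_smul] at e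
      exact (act_iso g _ (Psi_ne_zero F d) (Psi_iso F d.2)).1 e
  exact ⟨n, ⟨(MonoidHom.ofInjective hι).trans ((MulEquiv.subgroupCongr hrange.symm).trans
    ((QuotientGroup.quotientKerEquivRange Θ).symm.trans
      (QuotientGroup.quotientMulEquivOfEq hker)))⟩⟩

end Cfsg.Agent.ThreeTransp.Polar.Unit
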