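import Cfsg.Agent.Lib.ThreeTransp.RankThree

/-!
The lines of a centreless primitive 3-transposition group and the "one or all" property when all
lines have odd size.
-/

set_option autoImplicit false
set_option linter.unusedSectionVars false

namespace Cfsg.Agent.ThreeTransp.Polar

open Cfsg.Agent.ThreeTransp

variable {G : Type*} [Group G] [Finite G] {D : Set G}

/-- The standing hypotheses. -/
structure Ctx (D : Set G) : Prop where
  grp : Cfsg.IsThreeTranspositionGroup D
  prim : Cfsg.IsPrimitiveUnderConj D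
  wide : ∃ a ∈ D, ∃ b ∈ D, a ≠ b ∧ Commute a b
  core : Cfsg.pCore 2 G = ⊥
  cent : Subgroup.center G = ⊥

/-- The line through two commuting members: the members commuting with their common neighbours. -/
def line (D : Set G) (x y : G) : Set G :=
  {z | z ∈ D ∧ ∀ d ∈ D, Commute d x → Commute d y → Commute d z}

variable (C : Ctx D)
include C

theorem Ctx.sq {a : G} (ha : a ∈ D) : a * a = 1 := Classes.sq C.grp ha

theorem Ctx.inv {a : G} (ha : a ∈ D) : a⁻¹ = a := Classes.inv C.grp ha

theorem Ctx.cj_mem {a x : G} (ha : a ∈ D) (hx : x ∈ D) : a * x * a ∈ D :=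
  Classes.conj_mem C.grp ha hx

theorem Ctx.cj_cj {a : G} (ha : a ∈ D) (x : G) : a * (a * x * a) * a = x := by
  calc a * (a * x * a) * a = (a * a) * x * (a * a) := by group
    _ = x := by rw [C.sq ha, one_mul, mul_one]

theorem Ctx.commute_cj {a x y : G} (ha : a ∈ D) :
    Commute (a * x * a) (a * y * a) ↔ Commute x y := by
  have h := Basic.commute_conj (g := a) (a := x) (b := y)
  rwa [C.inv ha] at h

theorem Ctx.cj_inj {a x y : G} (h : a * x * a = a * y * a) : x = y :=
  mul_left_cancel (mul_right_cancel h)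

omit [Finite G] in
theorem Ctx.cj_fix {a x : G} (ha : a ∈ D) (h : Commute a x) : a * x * a = x := by
  rw [h.eq, mul_assoc, Classes.sq C.grp ha, mul_one]

/-- moving the conjugation across `Commute` -/
theorem Ctx.commute_cj_left {a x y : G} (ha : a ∈ D) :
    Commute (a * x * a) y ↔ Commute x (a * y * a) := by
  conv_lhs => rw [← C.cj_cj ha y, C.commute_cj ha]

theorem Ctx.braid {a b : G} (ha : a ∈ D) (hb : b ∈ D) (h : ¬ Commute a b) :
    a * b * a = b * a * b := Basic.braid C.grp.1 ha hb h

theorem Ctx.eq_of_sameComm {x y : G} (hx : x ∈ D) (hy : y ∈ D)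
    (h : ∀ d ∈ D, Commute y d ↔ Commute x d) : y = x := by
  have := ((Classes.sameComm_iff_mem C.grp hx).1 ⟨hy, h⟩).2
  rw [C.core, Subgroup.mem_bot] at this
  exact (eq_of_inv_mul_eq_one this).symm

/-- a member is determined by its neighbours, one inclusion being enough -/
theorem Ctx.eq_of_subset {x y : G} (hx : x ∈ D) (hy : y ∈ D)
    (h : ∀ d ∈ D, Commute d x → Commute d y) : x = y := by
  obtain ⟨g, hg⟩ := C.prim.1 x hx y hy
  have hsub : {d | d ∈ D ∧ Commute d x} ⊆ {d | d ∈ D ∧ Commute d y} :=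
    fun d hd => ⟨hd.1, h d hd.1 hd.2⟩
  have hcard : {d | d ∈ D ∧ Commute d y}.ncard ≤ {d | d ∈ D ∧ Commute d x}.ncard := by
    rw [← Primitive.cB_ncard g {d | d ∈ D ∧ Commute d x}]
    refine Set.ncard_le_ncard (fun d hd => ⟨g⁻¹ * d * g, ⟨Classes.inv_conj_mem C.grp g hd.1, ?_⟩,
      by group⟩) (Set.toFinite _)
    have h1 := (Basic.commute_conj (g := g⁻¹)).2 hd.2
    rwa [← hg, show g⁻¹ * (g * x * g⁻¹) * g⁻¹⁻¹ = x by group, inv_inv] at h1
  have heq := Set.eq_of_subset_of_ncard_le hsub hcard (Set.toFinite _)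
  exact (C.eq_of_sameComm hx hy fun d hd =>
    ⟨fun h' => ((Set.ext_iff.1 heq d).2 ⟨hd, h'.symm⟩).2.symm,
      fun h' => (h d hd h'.symm).symm⟩).symm

theorem Ctx.z2 : Cfsg.pCore 2 G ≤ Subgroup.center G := by rw [C.core]; exact bot_le

theorem Ctx.linked {x y z : G} (hx : x ∈ D) (hy : y ∈ D) (hz : z ∈ D) (hxy : Commute x y)
    (hxz : Commute x z) (hyx : y ≠ x) (hzx : z ≠ x) : RankThree.Linked D x y z :=
  RankThree.linked_inner C.grp C.prim C.wide C.z2 hx hy hz hxy hxz hyx hzx

omit [Finite G] C in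
theorem mem_line_left {x y : G} (hx : x ∈ D) : x ∈ line D x y := ⟨hx, fun _ _ h _ => h⟩

omit [Finite G] C in
theorem mem_line_right {x y : G} (hy : y ∈ D) : y ∈ line D x y := ⟨hy, fun _ _ _ h => h⟩

omit [Finite G] C in
theorem line_comm (x y : G) : line D x y = line D y x := by
  ext z
  exact ⟨fun h => ⟨h.1, fun d hd a b => h.2 d hd b a⟩, fun h => ⟨h.1, fun d hd a b => h.2 d hd b a⟩⟩

omit [Finite G] C in
theorem line_commute_left {x y z : G} (hx : x ∈ D) (hxy : Commute x y) (hz : z ∈ line D x y) :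
    Commute x z := hz.2 x hx (Commute.refl x) hxy

omit [Finite G] C in
theorem line_commute_right {x y z : G} (hy : y ∈ D) (hxy : Commute x y) (hz : z ∈ line D x y) :
    Commute y z := hz.2 y hy hxy.symm (Commute.refl y)

omit [Finite G] C in
theorem line_commute {x y z w : G} (hx : x ∈ D) (hy : y ∈ D) (hxy : Commute x y)
    (hz : z ∈ line D x y) (hw : w ∈ line D x y) : Commute z w :=
  (hz.2 w hw.1 (line_commute_left hx hxy hw).symm (line_commute_right hy hxy hw).symm).symm

theorem line_eq_left {x y z : G} (hx : x ∈ D) (hy : y ∈ D) (hxy : Commute x y) (hne : x ≠ y)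
    (hz : z ∈ line D x y) (hzx : z ≠ x) : line D x z = line D x y := by
  have hxz := line_commute_left hx hxy hz
  have h := RankThree.common_ncard C.grp C.prim C.wide
    (C.linked hx hy hz.1 hxy hxz hne.symm hzx)
  have hsub : {u : G | u ∈ D ∧ Commute x u ∧ Commute u y} ⊆
      {u : G | u ∈ D ∧ Commute x u ∧ Commute u z} :=
    fun u hu => ⟨hu.1, hu.2.1, hz.2 u hu.1 hu.2.1.symm hu.2.2⟩
  have heq := Set.eq_of_subset_of_ncard_le hsub h.le (Set.toFinite _)
  ext w
  refine ⟨fun hw => ⟨hw.1, fun d hd h1 h2 => hw.2 d hd h1 (hz.2 d hd h1 h2)⟩,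
    fun hw => ⟨hw.1, fun d hd h1 h2 => hw.2 d hd h1 ?_⟩⟩
  exact ((Set.ext_iff.1 heq d).2 ⟨hd, h1.symm, h2⟩).2.2

theorem line_eq {x y z w : G} (hx : x ∈ D) (hy : y ∈ D) (hxy : Commute x y) (hne : x ≠ y)
    (hz : z ∈ line D x y) (hw : w ∈ line D x y) (hzw : z ≠ w) : line D z w = line D x y := by
  by_cases hzx : z = x
  · subst hzx
    exact line_eq_left C hx hy hxy hne hw hzw.symm
  have h1 := line_eq_left C hx hy hxy hne hz hzx
  rw [← h1, line_comm x z] at hw ⊢
  exact line_eq_left C hz.1 hx (line_commute_left hx hxy hz).symm hzx hw hzw.symm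

omit [Finite G] in
theorem line_image {a x y z : G} (ha : a ∈ D) (hz : z ∈ line D x y) :
    a * z * a ∈ line D (a * x * a) (a * y * a) := by
  refine ⟨Classes.conj_mem C.grp ha hz.1, fun d hd h1 h2 => ?_⟩
  have hs := Classes.sq C.grp ha
  have e : ∀ u, a * (a * u * a) * a = u := fun u => by
    calc a * (a * u * a) * a = (a * a) * u * (a * a) := by group
      _ = u := by rw [hs, one_mul, mul_one]
  have k : ∀ u v, Commute (a * u * a) (a * v * a) ↔ Commute u v := fun u v => by
    have h := Basic.commute_conj (g := a) (a := u) (b := v)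
    rwa [Classes.inv C.grp ha] at h
  have h' := hz.2 (a * d * a) (Classes.conj_mem C.grp ha hd)
    (by rw [← k, e]; exact h1) (by rw [← k, e]; exact h2)
  rwa [← k, e] at h'

theorem line_conj (g : G) {x y z : G} :
    g * z * g⁻¹ ∈ line D (g * x * g⁻¹) (g * y * g⁻¹) ↔ z ∈ line D x y := by
  have fwd : ∀ (g : G) (x y z : G), z ∈ line D x y →
      g * z * g⁻¹ ∈ line D (g * x * g⁻¹) (g * y * g⁻¹) := by
    intro g x y z hz
    refine ⟨C.grp.2.1 g z hz.1, fun d hd h1 h2 => ?_⟩
    have hd' := Classes.inv_conj_mem C.grp g hd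
    have e : d = g * (g⁻¹ * d * g) * g⁻¹ := by group
    rw [e, Basic.commute_conj] at h1 h2 ⊢
    exact hz.2 _ hd' h1 h2
  refine ⟨fun h => ?_, fwd g x y z⟩
  have := fwd g⁻¹ _ _ _ h
  rwa [show g⁻¹ * (g * x * g⁻¹) * g⁻¹⁻¹ = x by group, show g⁻¹ * (g * y * g⁻¹) * g⁻¹⁻¹ = y by group,
    show g⁻¹ * (g * z * g⁻¹) * g⁻¹⁻¹ = z by group] at this

theorem line_card {x y x' y' : G} (hx : x ∈ D) (hy : y ∈ D) (hxy : Commute x y) (hne : x ≠ y)
    (hx' : x' ∈ D) (hy' : y' ∈ D) (hxy' : Commute x' y') (hne' : x' ≠ y') :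
    (line D x y).ncard = (line D x' y').ncard := by
  obtain ⟨g, hg⟩ := C.prim.1 x hx x' hx'
  have hgy : Commute x' (g * y * g⁻¹) := hg ▸ Basic.commute_conj.2 hxy
  have hgne : g * y * g⁻¹ ≠ x' := fun e =>
    hne (mul_left_cancel (mul_right_cancel (hg.trans e.symm)))
  obtain ⟨k, hk, hky⟩ := C.linked hx' (C.grp.2.1 g y hy) hy' hgy hxy' hgne hne'.symm
  have hkx := RankThree.conj_self_of_commute (RankThree.loc_commute hk)
  have e : line D x' y' = (fun z => (k * g) * z * (k * g)⁻¹) '' line D x y := by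
    have e1 : (k * g) * x * (k * g)⁻¹ = x' := by
      rw [show k * g * x * (k * g)⁻¹ = k * (g * x * g⁻¹) * k⁻¹ by group, hg, hkx]
    have e2 : (k * g) * y * (k * g)⁻¹ = y' := by
      rw [show k * g * y * (k * g)⁻¹ = k * (g * y * g⁻¹) * k⁻¹ by group, hky]
    ext z
    constructor
    · intro hz
      refine ⟨(k * g)⁻¹ * z * (k * g), (line_conj C (k * g)).1 ?_, by group⟩
      rwa [e1, e2, show k * g * ((k * g)⁻¹ * z * (k * g)) * (k * g)⁻¹ = z by group]
    · rintro ⟨w, hw, rfl⟩
      rw [← e1, ← e2]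
      exact (line_conj C _).2 hw
  rw [e, Set.ncard_image_of_injective _ fun u v h => mul_left_cancel (mul_right_cancel h)]

/-- all lines are odd -/
def OddLines (D : Set G) : Prop :=
  ∀ x ∈ D, ∀ y ∈ D, x ≠ y → Commute x y → Odd (line D x y).ncard

omit [Finite G] C in
theorem even_card_of_fpf {α : Type*} {T : Finset α} (f : α → α) (hmem : ∀ a ∈ T, f a ∈ T)
    (hinv : ∀ a ∈ T, f (f a) = a) (hne : ∀ a ∈ T, f a ≠ a) : Even T.card := by
  have h : ∑ _a ∈ T, (1 : ZMod 2) = 0 :=
    Finset.sum_involution (fun a _ => f a) (fun a _ => by decide) (fun a ha _ => hne a ha)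
      hmem hinv
  rw [Finset.sum_const, nsmul_one, ZMod.natCast_eq_zero_iff_even] at h
  exact h

omit [Finite G] in
/-- the swap of two members of a line by an element built from a third member -/
theorem swap_conj {p x y : G} (hp : p ∈ D) (hx : x ∈ D) (hy : y ∈ D) (hxy : Commute x y)
    (hpx : ¬ Commute p x) (hpy : ¬ Commute p y) :
    (p * (x * y) * p) * x * (p * (x * y) * p) = y := by
  have sp := Classes.sq C.grp hp
  have sx := Classes.sq C.grp hx
  have bx := Basic.braid C.grp.1 hp hx hpx
  have by' := Basic.braid C.grp.1 hp hy hpy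
  calc (p * (x * y) * p) * x * (p * (x * y) * p)
      = p * (y * x) * (p * x * p) * (x * y) * p := by rw [hxy.eq]; group
    _ = p * (y * x) * (x * p * x) * (x * y) * p := by rw [bx]
    _ = p * y * (x * x) * p * (x * x) * y * p := by group
    _ = p * (y * p * y) * p := by rw [sx]; group
    _ = p * (p * y * p) * p := by rw [by']
    _ = (p * p) * y * (p * p) := by group
    _ = y := by rw [sp, one_mul, mul_one]

omit [Finite G] in
theorem swap_mem {p x y : G} (hp : p ∈ D) (hx : x ∈ D) (hy : y ∈ D) (hxy : Commute x y)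
    (hpx : ¬ Commute p x) (hpy : ¬ Commute p y) {z : G} (hz : z ∈ line D x y) :
    (p * (x * y) * p) * z * (p * (x * y) * p) ∈ line D x y := by
  have sp := Classes.sq C.grp hp
  have h := line_image C hp (line_image C hy (line_image C hx (line_image C hp hz)))
  have h' := line_image C hp (line_image C hx (line_image C hy (line_image C hp hz)))
  have e : ∀ u, p * (x * (y * (p * u * p) * y) * x) * p =
      (p * (x * y) * p) * u * (p * (x * y) * p) := fun u => by
    rw [show p * (x * y) * p * u * (p * (x * y) * p) = p * x * y * p * u * p * (x * y) * p by group,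
      hxy.eq]
    group
  rw [e, e, e, swap_conj C hp hx hy hxy hpx hpy, hxy.eq,
    swap_conj C hp hy hx hxy.symm hpy hpx, line_comm] at h'
  rw [hxy.eq]
  exact h'

/-- the swap fixes no member of the line moved by the third member -/
theorem swap_ne {p x y : G} (hp : p ∈ D) (hx : x ∈ D) (hy : y ∈ D) (hxy : Commute x y)
    (hne : x ≠ y) (hpx : ¬ Commute p x) (hpy : ¬ Commute p y) {z : G} (hz : z ∈ line D x y)
    (hpz : ¬ Commute p z) : (p * (x * y) * p) * z * (p * (x * y) * p) ≠ z := by
  have sp := C.sq hp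
  have hxz := line_commute_left hx hxy hz
  have hyz := line_commute_right hy hxy hz
  set q := p * x * p with hq
  set r := p * y * p with hr
  have hqD := C.cj_mem hp hx
  have hrD := C.cj_mem hp hy
  have hqz : ¬ Commute q z := by
    rw [hq, C.braid hp hx hpx, C.commute_cj_left hx, C.cj_fix hx hxz]
    exact hpz
  have hrz : ¬ Commute r z := by
    rw [hr, C.braid hp hy hpy, C.commute_cj_left hy, C.cj_fix hy hyz]
    exact hpz
  have hqr : Commute q r := (C.commute_cj hp).2 hxy
  have e : p * (x * y) * p = q * r := by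
    rw [hq, hr, show p * x * p * (p * y * p) = p * x * (p * p) * (y * p) by group, sp]
    group
  intro h
  rw [e] at h
  have h2 : q * (r * z * r) * q = z := by
    calc q * (r * z * r) * q = q * r * z * (r * q) := by group
      _ = z := by rw [← hqr.eq]; exact h
  have h3 : r * z * r = q * z * q := by
    calc r * z * r = q * (q * (r * z * r) * q) * q := (C.cj_cj hqD _).symm
      _ = q * z * q := by rw [h2]
  rw [C.braid hrD hz.1 hrz, C.braid hqD hz.1 hqz] at h3
  have h4 : q = r := (C.cj_inj h3).symm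
  exact hne (C.cj_inj h4)

/-- a member commutes with one or all members of a line -/
theorem one_or_all (hodd : OddLines D) {p x y : G} (hp : p ∈ D) (hx : x ∈ D) (hy : y ∈ D)
    (hxy : Commute x y) (hne : x ≠ y) : ∃ z ∈ line D x y, Commute p z := by
  classical
  have := Fintype.ofFinite G
  by_contra hcon
  push Not at hcon
  set h := p * (x * y) * p with hh
  have hpx := hcon x (mem_line_left hx)
  have hpy := hcon y (mem_line_right hy)
  have hh2 : h * h = 1 := by
    rw [hh, show p * (x * y) * p * (p * (x * y) * p) = p * (x * y) * (p * p) * (x * y) * p by group,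
      C.sq hp, mul_one, show p * (x * y) * (x * y) * p = p * (x * y * (x * y)) * p by group,
      show x * y * (x * y) = (x * x) * (y * y) by
        rw [show x * y * (x * y) = x * (y * x) * y by group, ← hxy.eq]; group,
      C.sq hx, C.sq hy, one_mul, mul_one, C.sq hp]
  have hev : Even (line D x y).toFinset.card := by
    refine even_card_of_fpf (fun z => h * z * h) ?_ ?_ ?_
    · intro z hz
      rw [Set.mem_toFinset] at hz ⊢
      exact swap_mem C hp hx hy hxy hpx hpy hz
    · intro z _
      rw [show h * (h * z * h) * h = (h * h) * z * (h * h) by group, hh2, one_mul, mul_one]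
    · intro z hz
      rw [Set.mem_toFinset] at hz
      exact swap_ne C hp hx hy hxy hne hpx hpy hz (hcon z hz)
  rw [← Set.ncard_eq_toFinset_card'] at hev
  exact (Nat.not_even_iff_odd.2 (hodd x hx y hy hne hxy)) hev

omit [Finite G] C in
theorem commute_line {p x y z : G} (hp : p ∈ D) (hpx : Commute p x) (hpy : Commute p y)
    (hz : z ∈ line D x y) : Commute p z := hz.2 p hp hpx hpy

/-- two members of a line commuting with an outside member: all of them do -/
theorem commute_of_two {p x y z w u : G} (hp : p ∈ D) (hx : x ∈ D) (hy : y ∈ D)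
    (hxy : Commute x y) (hne : x ≠ y) (hz : z ∈ line D x y) (hw : w ∈ line D x y) (hzw : z ≠ w)
    (hpz : Commute p z) (hpw : Commute p w) (hu : u ∈ line D x y) : Commute p u := by
  rw [← line_eq C hx hy hxy hne hz hw hzw] at hu
  exact hu.2 p hp hpz hpw

/-- the member of a line fixed by `s` lies on the line through the images of two others -/
theorem concurrent {x r z s : G} (hs : s ∈ D) (hz : z ∈ line D x r)
    (hsz : Commute s z) : z ∈ line D (s * x * s) (s * r * s) := by
  have h := line_image C hs hz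
  rwa [C.cj_fix hs hsz] at h

end Cfsg.Agent.ThreeTransp.Polar
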