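import Cfsg.Agent.Lib.ThreeTransp.Polar.Lines

/-!
Odd lines have three or five members, and the members of a line of five have product one.
-/

set_option autoImplicit false
set_option linter.unusedSectionVars false

namespace Cfsg.Agent.ThreeTransp.Polar

open Cfsg.Agent.ThreeTransp

variable {G : Type*} [Group G] [Finite G] {D : Set G}

/-- a line with a member fixed by an outside member, which moves the others -/
structure Star (L : Set G) (z p : G) : Prop where
  pD : p ∈ D
  mem : z ∈ L
  comm : Commute p z
  ncomm : ∀ c ∈ L, c ≠ z → ¬ Commute p c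

namespace Star

variable (C : Ctx D) {x y z p : G} (hx : x ∈ D) (hy : y ∈ D) (hxy : Commute x y) (hne : x ≠ y)

/-- the translation given by two members -/
def tr (p a b c : G) : G := (p * (a * b) * p) * c * (p * (a * b) * p)

include C hx hy hxy hne

theorem exists_star {z : G} (hz : z ∈ line D x y) : ∃ p, Star (D := D) (line D x y) z p := by
  obtain ⟨w, hw, hwz⟩ : ∃ w ∈ line D x y, w ≠ z := by
    by_cases h : x = z
    · exact ⟨y, mem_line_right hy, fun e => hne (h.trans e.symm)⟩
    · exact ⟨x, mem_line_left hx, h⟩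
  obtain ⟨p, hp, hpz, hpw⟩ : ∃ p ∈ D, Commute p z ∧ ¬ Commute p w := by
    by_contra! hcon
    exact hwz (C.eq_of_subset hz.1 hw.1 hcon).symm
  exact ⟨p, hp, hz, hpz, fun c hc hcz hpc =>
    hpw (commute_of_two C hp hx hy hxy hne hz hc hcz.symm hpz hpc hw)⟩

variable (S : Star (D := D) (line D x y) z p)
include S

theorem comm_line {a b : G} (ha : a ∈ line D x y) (hb : b ∈ line D x y) : Commute a b :=
  line_commute hx hy hxy ha hb

theorem h_sq {a b : G} (ha : a ∈ line D x y) (hb : b ∈ line D x y) :
    (p * (a * b) * p) * (p * (a * b) * p) = 1 := by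
  rw [show p * (a * b) * p * (p * (a * b) * p) = p * (a * b) * (p * p) * (a * b) * p by group,
    C.sq S.pD, mul_one, show p * (a * b) * (a * b) * p = p * (a * (b * a) * b) * p by group,
    ← (comm_line C hx hy hxy hne S ha hb).eq,
    show a * (a * b) * b = (a * a) * (b * b) by group, C.sq ha.1, C.sq hb.1, one_mul, mul_one,
    C.sq S.pD]

theorem h_mul {a b c : G} (hb : b ∈ line D x y) :
    (p * (a * b) * p) * (p * (b * c) * p) = p * (a * c) * p := by
  rw [show p * (a * b) * p * (p * (b * c) * p) = p * a * b * (p * p) * b * c * p by group,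
    C.sq S.pD, mul_one, show p * a * b * b * c * p = p * a * (b * b) * c * p by group,
    C.sq hb.1, mul_one]
  group

theorem h_comm {a b c d : G} (ha : a ∈ line D x y) (hb : b ∈ line D x y) (hc : c ∈ line D x y)
    (hd : d ∈ line D x y) : Commute (p * (a * b) * p) (p * (c * d) * p) := by
  have k := fun {u v : G} => comm_line C hx hy hxy hne S (a := u) (b := v)
  exact (C.commute_cj S.pD).2
    (((k ha hc).mul_right (k ha hd)).mul_left ((k hb hc).mul_right (k hb hd)))

theorem tr_self {a b : G} (ha : a ∈ line D x y) (hb : b ∈ line D x y) (haz : a ≠ z) (hbz : b ≠ z) :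
    tr p a b a = b :=
  swap_conj C S.pD ha.1 hb.1 (comm_line C hx hy hxy hne S ha hb) (S.ncomm a ha haz)
    (S.ncomm b hb hbz)

theorem tr_id {a c : G} (ha : a ∈ line D x y) : tr p a a c = c := by
  simp [tr, C.sq ha.1, C.sq S.pD]

theorem tr_z {a b : G} (ha : a ∈ line D x y) (hb : b ∈ line D x y) : tr p a b z = z := by
  have hc : Commute (p * (a * b) * p) z := ((S.comm.mul_left
    ((comm_line C hx hy hxy hne S ha S.mem).mul_left
      (comm_line C hx hy hxy hne S hb S.mem))).mul_left S.comm)
  unfold tr
  rw [hc.eq, mul_assoc, h_sq C hx hy hxy hne S ha hb, mul_one]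

theorem tr_tr {a b c : G} (ha : a ∈ line D x y) (hb : b ∈ line D x y) :
    tr p a b (tr p a b c) = c := by
  unfold tr
  have := h_sq C hx hy hxy hne S ha hb
  rw [show p * (a * b) * p * (p * (a * b) * p * c * (p * (a * b) * p)) * (p * (a * b) * p) =
    (p * (a * b) * p * (p * (a * b) * p)) * c * (p * (a * b) * p * (p * (a * b) * p)) by group,
    this, one_mul, mul_one]

theorem tr_mem {a b c : G} (ha : a ∈ line D x y) (hb : b ∈ line D x y) (haz : a ≠ z) (hbz : b ≠ z)
    (hc : c ∈ line D x y) (hcz : c ≠ z) :
    tr p a b c ∈ line D x y ∧ tr p a b c ≠ z := by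
  refine ⟨?_, fun e => hcz ?_⟩
  · by_cases hab : a = b
    · subst hab; rwa [tr_id C hx hy hxy hne S ha]
    have hl := line_eq C hx hy hxy hne ha hb hab
    rw [← hl] at hc ⊢
    exact swap_mem C S.pD ha.1 hb.1 (comm_line C hx hy hxy hne S ha hb) (S.ncomm a ha haz)
      (S.ncomm b hb hbz) hc
  · rw [← tr_tr C hx hy hxy hne S (c := c) ha hb, e, tr_z C hx hy hxy hne S ha hb]

theorem tr_comm {a b c d u : G} (ha : a ∈ line D x y) (hb : b ∈ line D x y) (hc : c ∈ line D x y)
    (hd : d ∈ line D x y) : tr p a b (tr p c d u) = tr p c d (tr p a b u) := by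
  have h := h_comm C hx hy hxy hne S ha hb hc hd
  unfold tr
  generalize p * (a * b) * p = A at *
  generalize p * (c * d) * p = B at *
  calc A * (B * u * B) * A = (A * B) * u * (B * A) := by group
    _ = (B * A) * u * (A * B) := by rw [h.eq]
    _ = B * (A * u * A) * B := by group

theorem tr_ne {a b c : G} (ha : a ∈ line D x y) (hb : b ∈ line D x y) (haz : a ≠ z) (hbz : b ≠ z)
    (hab : a ≠ b) (hc : c ∈ line D x y) (hcz : c ≠ z) : tr p a b c ≠ c := by
  have hl := line_eq C hx hy hxy hne ha hb hab
  exact swap_ne C S.pD ha.1 hb.1 (comm_line C hx hy hxy hne S ha hb) hab (S.ncomm a ha haz)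
    (S.ncomm b hb hbz) (by rw [hl]; exact hc) (S.ncomm c hc hcz)

/-- the two-member product along a translation -/
theorem pair_prod_comm {a b c d e f : G} (ha : a ∈ line D x y) (hb : b ∈ line D x y)
    (haz : a ≠ z) (hbz : b ≠ z) (hc : c ∈ line D x y) (hcz : c ≠ z) (hd : d ∈ line D x y)
    (hdz : d ≠ z) (he : e ∈ line D x y) (hf : f ∈ line D x y) :
    p * ((c * tr p a b c) * (d * tr p a b d)) * p = (a * tr p c d a) * (b * tr p c d b) ∧
      Commute ((c * tr p a b c) * (d * tr p a b d)) (p * (e * f) * p) := by
  have k := fun {u v : G} => comm_line C hx hy hxy hne S (a := u) (b := v)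
  have sp := C.sq S.pD
  have val : ∀ a b c d : G, a ∈ line D x y → b ∈ line D x y → a ≠ z → b ≠ z →
      c ∈ line D x y → c ≠ z → d ∈ line D x y → d ≠ z →
      (c * tr p a b c) * (d * tr p a b d) =
        (p * (a * b) * p) * (c * d) * (p * (a * b) * p) * (c * d) := by
    intro a b c d ha hb haz hbz hc hcz hd hdz
    have t1 := (tr_mem C hx hy hxy hne S ha hb haz hbz hc hcz).1
    have t2 := (tr_mem C hx hy hxy hne S ha hb haz hbz hd hdz).1
    have e1 : tr p a b c * tr p a b d = (p * (a * b) * p) * (c * d) * (p * (a * b) * p) := by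
      unfold tr
      rw [show p * (a * b) * p * c * (p * (a * b) * p) * (p * (a * b) * p * d * (p * (a * b) * p)) =
        p * (a * b) * p * c * ((p * (a * b) * p) * (p * (a * b) * p)) * d * (p * (a * b) * p)
        by group, h_sq C hx hy hxy hne S ha hb]
      group
    calc (c * tr p a b c) * (d * tr p a b d) = (c * d) * (tr p a b c * tr p a b d) := by
          rw [show c * tr p a b c * (d * tr p a b d) = c * (tr p a b c * d) * tr p a b d by group,
            (k t1 hd).eq]
          group
      _ = (tr p a b c * tr p a b d) * (c * d) :=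
          ((((k hc t1).mul_right (k hc t2)).mul_left ((k hd t1).mul_right (k hd t2)))).eq
      _ = _ := by rw [e1]
  have first : p * ((c * tr p a b c) * (d * tr p a b d)) * p =
      (a * tr p c d a) * (b * tr p c d b) := by
    rw [val a b c d ha hb haz hbz hc hcz hd hdz, val c d a b hc hd hcz hdz ha haz hb hbz]
    set v := a * b
    set u := c * d
    have hu : u * u = 1 := by
      rw [show u * u = c * (d * c) * d by simp only [u]; group, ← (k hc hd).eq,
        show c * (c * d) * d = (c * c) * (d * d) by group, C.sq hc.1, C.sq hd.1, one_mul]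
    have hv : v * v = 1 := by
      rw [show v * v = a * (b * a) * b by simp only [v]; group, ← (k ha hb).eq,
        show a * (a * b) * b = (a * a) * (b * b) by group, C.sq ha.1, C.sq hb.1, one_mul]
    have hw : (p * u * p) * (p * u * p) = 1 := h_sq C hx hy hxy hne S hc hd
    -- both sides are involutions
    have t1 := (tr_mem C hx hy hxy hne S hc hd hcz hdz ha haz).1
    have t2 := (tr_mem C hx hy hxy hne S hc hd hcz hdz hb hbz).1
    have hinv : ((p * u * p) * v * (p * u * p) * v) * ((p * u * p) * v * (p * u * p) * v) = 1 := by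
      rw [← val c d a b hc hd hcz hdz ha haz hb hbz]
      have c1 : Commute (a * tr p c d a) (b * tr p c d b) :=
        ((k ha hb).mul_right (k ha t2)).mul_left ((k t1 hb).mul_right (k t1 t2))
      rw [show a * tr p c d a * (b * tr p c d b) * (a * tr p c d a * (b * tr p c d b)) =
        a * tr p c d a * ((b * tr p c d b) * (a * tr p c d a)) * (b * tr p c d b) by group, ← c1.eq,
        show a * tr p c d a * (a * tr p c d a * (b * tr p c d b)) * (b * tr p c d b) =
          a * (tr p c d a * a) * tr p c d a * (b * (tr p c d b * b) * tr p c d b) by group,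
        (k t1 ha).eq, (k t2 hb).eq,
        show a * (a * tr p c d a) * tr p c d a = (a * a) * (tr p c d a * tr p c d a) by group,
        show b * (b * tr p c d b) * tr p c d b = (b * b) * (tr p c d b * tr p c d b) by group,
        C.sq ha.1, C.sq hb.1, C.sq t1.1, C.sq t2.1]
      simp
    calc p * (p * v * p * u * (p * v * p) * u) * p
        = v * (p * u * p) * v * (p * u * p) := by
          rw [show p * (p * v * p * u * (p * v * p) * u) * p =
            (p * p) * v * (p * u * p) * v * (p * u * p) by group, sp, one_mul]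
      _ = ((p * u * p) * v * (p * u * p) * v)⁻¹ := by
          generalize p * u * p = w at hw
          clear_value v
          rw [mul_inv_rev, mul_inv_rev, mul_inv_rev, inv_eq_of_mul_eq_one_left hv,
            inv_eq_of_mul_eq_one_left hw]
          group
      _ = _ := inv_eq_of_mul_eq_one_left hinv
  refine ⟨first, ?_⟩
  have hm : Commute (p * ((c * tr p a b c) * (d * tr p a b d)) * p) (e * f) := by
    rw [first]
    have t1 := (tr_mem C hx hy hxy hne S hc hd hcz hdz ha haz).1
    have t2 := (tr_mem C hx hy hxy hne S hc hd hcz hdz hb hbz).1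
    exact (((k ha he).mul_right (k ha hf)).mul_left ((k t1 he).mul_right (k t1 hf))).mul_left
      (((k hb he).mul_right (k hb hf)).mul_left ((k t2 he).mul_right (k t2 hf)))
  have := (C.commute_cj S.pD).2 hm
  rwa [C.cj_cj S.pD] at this

/-- the key relation -/
theorem pair_prod_shift {a b c d e f : G} (ha : a ∈ line D x y) (hb : b ∈ line D x y)
    (haz : a ≠ z) (hbz : b ≠ z) (hc : c ∈ line D x y) (hcz : c ≠ z) (hd : d ∈ line D x y)
    (hdz : d ≠ z) (he : e ∈ line D x y) (hf : f ∈ line D x y) :
    (c * tr p a b c) * (d * tr p a b d) =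
      (tr p e f c * tr p a b (tr p e f c)) * (tr p e f d * tr p a b (tr p e f d)) := by
  have h := (pair_prod_comm C hx hy hxy hne S ha hb haz hbz hc hcz hd hdz he hf).2
  have hh := h_sq C hx hy hxy hne S he hf
  rw [tr_comm C hx hy hxy hne S ha hb he hf, tr_comm C hx hy hxy hne S ha hb he hf]
  generalize tr p a b c = c' at *
  generalize tr p a b d = d' at *
  unfold tr
  generalize p * (e * f) * p = k at *
  calc c * c' * (d * d') = (c * c' * (d * d')) * (k * k) := by rw [hh, mul_one]
    _ = k * (c * c' * (d * d')) * k := by rw [← mul_assoc, h.eq]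
    _ = k * c * 1 * c' * 1 * d * 1 * d' * k := by group
    _ = _ := by rw [← hh]; group

end Star

end Cfsg.Agent.ThreeTransp.Polar
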