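import Cfsg.Agent.Lib.ThreeTransp.Polar.Size

/-!
The translations of a line form an elementary abelian group; lines have three or five members.
-/

set_option autoImplicit false
set_option linter.unusedSectionVars false

namespace Cfsg.Agent.ThreeTransp.Polar

open Cfsg.Agent.ThreeTransp
open scoped IsMulCommutative

variable {G : Type*} [Group G] [Finite G] {D : Set G}

/-- the product over a line -/
noncomputable def el (K : Subgroup G) [IsMulCommutative K] (a : G) : K :=
  letI := Classical.dec (a ∈ K)
  if h : a ∈ K then ⟨a, h⟩ else 1

theorem el_coe {K : Subgroup G} [IsMulCommutative K] {a : G} (h : a ∈ K) : (el K a : G) = a := by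
  simp [el, h]

variable (C : Ctx D) {x y z p : G} (hx : x ∈ D) (hy : y ∈ D) (hxy : Commute x y) (hne : x ≠ y)

include C hx hy hxy hne

theorem line_isMulCommutative : IsMulCommutative (Subgroup.closure (line D x y)) :=
  Subgroup.isMulCommutative_closure fun a ha b hb => (line_commute hx hy hxy ha hb).eq

set_option maxHeartbeats 1600000 in
/-- the structure of a star -/
theorem star_dichotomy [Fintype ↥(line D x y)] [DecidableEq G] (hodd : OddLines D)
    (S : Star (D := D) (line D x y) z p) [IsMulCommutative (Subgroup.closure (line D x y))] :
    ((line D x y).toFinset.erase z).card ≤ 4 ∧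
      (((line D x y).toFinset.erase z).card = 4 →
        Commute p
          ((∏ a ∈ (line D x y).toFinset.erase z, el (Subgroup.closure (line D x y)) a :
            Subgroup.closure (line D x y)) : G)) ∨
    (4 < ((line D x y).toFinset.erase z).card ∧
      ∏ a ∈ (line D x y).toFinset.erase z, el (Subgroup.closure (line D x y)) a = 1) := by
  set K := Subgroup.closure (line D x y) with hK
  set A := (line D x y).toFinset.erase z with hA
  have memA : ∀ {a}, a ∈ A ↔ a ≠ z ∧ a ∈ line D x y := fun {a} => by simp [hA]
  have hev : Even A.card := by
    have h1 := hodd x hx y hy hne hxy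
    have h2 : A.card + 1 = (line D x y).toFinset.card :=
      Finset.card_erase_add_one (Set.mem_toFinset.2 S.mem)
    rw [← Set.ncard_eq_toFinset_card'] at h2
    rw [← h2] at h1
    exact Nat.not_odd_iff_even.1 (Nat.odd_add_one.1 h1)
  have hne0 : A.Nonempty := by
    by_cases h : x = z
    · exact ⟨y, memA.2 ⟨fun e => hne (h.trans e.symm), mem_line_right hy⟩⟩
    · exact ⟨x, memA.2 ⟨h, mem_line_left hx⟩⟩
  obtain ⟨c0, hc0⟩ := hne0
  obtain ⟨hc0z, hc0L⟩ := memA.1 hc0
  -- addition
  let add : G → G → G := fun a b => Star.tr p c0 a b
  have add_mem : ∀ {a b}, a ∈ A → b ∈ A → add a b ∈ A := fun {a b} ha hb => by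
    obtain ⟨h1, h2⟩ := Star.tr_mem C hx hy hxy hne S hc0L (memA.1 ha).2 hc0z (memA.1 ha).1
      (memA.1 hb).2 (memA.1 hb).1
    exact memA.2 ⟨h2, h1⟩
  have add_zero' : ∀ {a}, a ∈ A → add a c0 = a := fun {a} ha =>
    Star.tr_self C hx hy hxy hne S hc0L (memA.1 ha).2 hc0z (memA.1 ha).1
  have zero_add' : ∀ b, add c0 b = b := fun b => Star.tr_id C hx hy hxy hne S hc0L
  have add_comm' : ∀ {a b}, a ∈ A → b ∈ A → add a b = add b a := fun {a b} ha hb => by
    conv_lhs => rw [← add_zero' hb]
    conv_rhs => rw [← add_zero' ha]
    exact Star.tr_comm C hx hy hxy hne S hc0L (memA.1 ha).2 hc0L (memA.1 hb).2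
  have add_left : ∀ {a b} (u : G), a ∈ A → b ∈ A → add a (add b u) = add b (add a u) :=
    fun {a b} u ha hb => Star.tr_comm C hx hy hxy hne S hc0L (memA.1 ha).2 hc0L (memA.1 hb).2
  have add_self' : ∀ {a} (u : G), a ∈ A → add a (add a u) = u := fun {a} u ha =>
    Star.tr_tr C hx hy hxy hne S hc0L (memA.1 ha).2
  have add_assoc' : ∀ {a b u}, a ∈ A → b ∈ A → u ∈ A → add (add a b) u = add a (add b u) := by
    intro a b u ha hb hu
    rw [add_comm' (add_mem ha hb) hu, add_left b hu ha, add_comm' hu hb]
  have add_ne : ∀ {a u}, a ∈ A → u ∈ A → a ≠ c0 → add a u ≠ u := fun {a u} ha hu hac =>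
    Star.tr_ne C hx hy hxy hne S hc0L (memA.1 ha).2 hc0z (memA.1 ha).1 hac.symm
      (memA.1 hu).2 (memA.1 hu).1
  have inK : ∀ {a}, a ∈ A → a ∈ K := fun {a} ha => Subgroup.subset_closure (memA.1 ha).2
  set f := el K with hf
  have hfc : ∀ {a}, a ∈ A → (f a : G) = a := fun {a} ha => el_coe (inK ha)
  have fsq : ∀ {a}, a ∈ A → f a * f a = 1 := fun {a} ha => Subtype.ext (by
    rw [Subgroup.coe_mul, hfc ha, C.sq (memA.1 ha).2.1]; rfl)
  -- the pair products are shift invariant
  have shift : ∀ {a c d e}, a ∈ A → c ∈ A → d ∈ A → e ∈ A →
      f c * f (add a c) * (f d * f (add a d)) =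
        f (add e c) * f (add a (add e c)) * (f (add e d) * f (add a (add e d))) := by
    intro a c d e ha hc hd he
    refine Subtype.ext ?_
    simp only [Subgroup.coe_mul, hfc hc, hfc hd, hfc (add_mem ha hc), hfc (add_mem ha hd),
      hfc (add_mem he hc), hfc (add_mem he hd), hfc (add_mem ha (add_mem he hc)),
      hfc (add_mem ha (add_mem he hd))]
    exact Star.pair_prod_shift C hx hy hxy hne S hc0L (memA.1 ha).2 hc0z (memA.1 ha).1 (memA.1 hc).2
      (memA.1 hc).1 (memA.1 hd).2 (memA.1 hd).1 hc0L (memA.1 he).2
  have four : ∀ {a b c d}, a ∈ A → b ∈ A → c ∈ A → d ∈ A →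
      f c * f (add a c) * (f (add b c) * f (add a (add b c))) =
        f d * f (add a d) * (f (add b d) * f (add a (add b d))) := by
    intro a b c d ha hb hc hd
    have h := shift ha hc hd hb
    have sq4 : ∀ {u v : K}, u * u = 1 → v * v = 1 → (u * v) * (u * v) = 1 := fun {u v} hu hv => by
      rw [mul_mul_mul_comm, hu, hv, one_mul]
    have hd' := sq4 (fsq hd) (fsq (add_mem ha hd))
    have hB := sq4 (fsq (add_mem hb hc)) (fsq (add_mem ha (add_mem hb hc)))
    calc f c * f (add a c) * (f (add b c) * f (add a (add b c)))
        = f c * f (add a c) * (f d * f (add a d) * (f d * f (add a d))) *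
            (f (add b c) * f (add a (add b c))) := by rw [hd', mul_one]
      _ = (f c * f (add a c) * (f d * f (add a d))) * (f d * f (add a d)) *
            (f (add b c) * f (add a (add b c))) := by simp only [mul_assoc]
      _ = (f (add b c) * f (add a (add b c)) * (f (add b d) * f (add a (add b d)))) *
            (f d * f (add a d)) * (f (add b c) * f (add a (add b c))) := by rw [h]
      _ = (f (add b c) * f (add a (add b c)) * (f (add b c) * f (add a (add b c)))) *
            (f d * f (add a d) * (f (add b d) * f (add a (add b d)))) := by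
          simp only [mul_assoc, mul_comm, mul_left_comm]
      _ = _ := by rw [hB, one_mul]
  by_cases hcard : A.card ≤ 4
  · refine Or.inl ⟨hcard, fun h4 => ?_⟩
    obtain ⟨a, ha, hac⟩ := Finset.exists_mem_ne (show 1 < A.card by omega) c0
    obtain ⟨b, hb, hb2⟩ := Finset.exists_mem_notMem_of_card_lt_card
      (show ({c0, a} : Finset G).card < A.card by
        have : ({c0, a} : Finset G).card ≤ 2 := Finset.card_le_two
        omega)
    simp only [Finset.mem_insert, Finset.mem_singleton, not_or] at hb2
    have hab := add_mem ha hb
    have e1 : add a b ≠ b := add_ne ha hb hac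
    have e2 : add a b ≠ a := by rw [add_comm' ha hb]; exact add_ne hb ha hb2.1
    have e3 : add a b ≠ c0 := fun e => hb2.2 (by
      rw [← add_self' b ha, e, add_zero' ha])
    have hset : ({c0, a, b, add a b} : Finset G) = A := by
      refine Finset.eq_of_subset_of_card_le ?_ ?_
      · intro u hu
        simp only [Finset.mem_insert, Finset.mem_singleton] at hu
        rcases hu with rfl | rfl | rfl | rfl <;> assumption
      · rw [h4, Finset.card_insert_of_notMem (by simp [hac.symm, Ne.symm hb2.1, e3.symm]),
          Finset.card_insert_of_notMem (by simp [Ne.symm hb2.2, e2.symm]),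
          Finset.card_insert_of_notMem (by simp [e1.symm]), Finset.card_singleton]
    rw [← hset, Finset.prod_insert (by simp [hac.symm, Ne.symm hb2.1, e3.symm]),
      Finset.prod_insert (by simp [Ne.symm hb2.2, e2.symm]),
      Finset.prod_insert (by simp [e1.symm]), Finset.prod_singleton]
    have h := (Star.pair_prod_comm C hx hy hxy hne S hc0L (memA.1 ha).2 hc0z (memA.1 ha).1 hc0L hc0z
      (memA.1 hb).2 (memA.1 hb).1 hc0L hc0L).1
    have h1 : Star.tr p c0 a c0 = a := add_zero' ha
    have h2 : Star.tr p c0 b c0 = b := add_zero' hb
    have h3 : Star.tr p c0 b a = add a b := add_comm' hb ha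
    rw [h1, h2, h3] at h
    change p * (c0 * a * (b * add a b)) * p = c0 * b * (a * add a b) at h
    have e : ((f c0 * (f a * (f b * f (add a b))) : K) : G) = c0 * a * (b * add a b) := by
      simp [hfc hc0, hfc ha, hfc hb, hfc hab, mul_assoc]
    have e' : c0 * b * (a * add a b) = c0 * a * (b * add a b) := by
      rw [show c0 * b * (a * add a b) = c0 * (b * a) * add a b by group,
        (Star.comm_line C hx hy hxy hne S (memA.1 hb).2 (memA.1 ha).2).eq]
      group
    rw [e', ← e] at h
    generalize ((f c0 * (f a * (f b * f (add a b))) : K) : G) = m at h ⊢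
    show p * m = m * p
    calc p * m = p * m * (p * p) := by rw [C.sq S.pD, mul_one]
      _ = (p * m * p) * p := by group
      _ = m * p := by rw [h]
  · refine Or.inr ⟨by omega, ?_⟩
    obtain ⟨a, ha, hac⟩ := Finset.exists_mem_ne (show 1 < A.card by omega) c0
    obtain ⟨b, hb, hb2⟩ := Finset.exists_mem_notMem_of_card_lt_card
      (show ({c0, a} : Finset G).card < A.card by
        have : ({c0, a} : Finset G).card ≤ 2 := Finset.card_le_two
        omega)
    simp only [Finset.mem_insert, Finset.mem_singleton, not_or] at hb2
    have hab := add_mem ha hb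
    obtain ⟨e, he, he2⟩ := Finset.exists_mem_notMem_of_card_lt_card
      (show ({c0, a, b, add a b} : Finset G).card < A.card by
        have : ({c0, a, b, add a b} : Finset G).card ≤ 4 := Finset.card_le_four
        omega)
    simp only [Finset.mem_insert, Finset.mem_singleton, not_or] at he2
    let O : G → Finset G := fun c =>
      ({c, add a c, add b c, add a (add b c)} : Finset G) ∪
        {add e c, add a (add e c), add b (add e c), add a (add b (add e c))}
    have O_le : ∀ c ∈ A, ∀ u ∈ O c, u ∈ A := by
      intro c hc u hu
      simp only [O, Finset.mem_union, Finset.mem_insert, Finset.mem_singleton] at hu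
      rcases hu with (rfl | rfl | rfl | rfl) | rfl | rfl | rfl | rfl
      exacts [hc, add_mem ha hc, add_mem hb hc, add_mem ha (add_mem hb hc), add_mem he hc,
        add_mem ha (add_mem he hc), add_mem hb (add_mem he hc),
        add_mem ha (add_mem hb (add_mem he hc))]
    have O_shift : ∀ g ∈ ({a, b, e} : Finset G), ∀ c ∈ A, O (add g c) = O c := by
      intro g hg c hc
      simp only [Finset.mem_insert, Finset.mem_singleton] at hg
      ext u
      simp only [O, Finset.mem_union, Finset.mem_insert, Finset.mem_singleton]
      rcases hg with rfl | rfl | rfl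
      · rw [add_self' c ha, add_left c hb ha, add_self' _ ha, add_left c he ha, add_self' _ ha,
          add_left (add e c) hb ha, add_self' _ ha]
        tauto
      · rw [add_self' c hb, add_left c he hb, add_self' (add e c) hb]
        tauto
      · rw [add_self' c he, add_left c hb he, add_left c ha he]
        tauto
    have O_eq : ∀ c ∈ A, ∀ u ∈ O c, O u = O c := by
      intro c hc u hu
      simp only [O, Finset.mem_union, Finset.mem_insert, Finset.mem_singleton] at hu
      have sa := fun c hc => O_shift a (by simp) c hc
      have sb := fun c hc => O_shift b (by simp) c hc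
      have se := fun c hc => O_shift e (by simp) c hc
      rcases hu with (rfl | rfl | rfl | rfl) | rfl | rfl | rfl | rfl
      · rfl
      · exact sa c hc
      · exact sb c hc
      · rw [sa _ (add_mem hb hc), sb c hc]
      · exact se c hc
      · rw [sa _ (add_mem he hc), se c hc]
      · rw [sb _ (add_mem he hc), se c hc]
      · rw [sa _ (add_mem hb (add_mem he hc)), sb _ (add_mem he hc), se c hc]
    rw [← Finset.prod_fiberwise_of_maps_to (g := O) (t := A.image O)
      (fun c hc => Finset.mem_image_of_mem O hc)]
    refine Finset.prod_eq_one fun o ho => ?_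
    obtain ⟨c, hc, rfl⟩ := Finset.mem_image.1 ho
    have hfib : A.filter (fun u => O u = O c) = O c := by
      ext u
      simp only [Finset.mem_filter]
      refine ⟨fun h => ?_, fun h => ⟨O_le c hc u h, O_eq c hc u h⟩⟩
      rw [← h.2]
      simp [O]
    rw [hfib]
    -- the translations move every member
    have mv : ∀ {g u}, g ∈ A → u ∈ A → g ≠ c0 → u ≠ add g u := fun hg hu hgc =>
      (add_ne hg hu hgc).symm
    have nab : add a b ≠ c0 := fun h => hb2.2 (by rw [← add_self' b ha, h, add_zero' ha])
    have nae : add a e ≠ c0 := fun h => he2.2.1 (by rw [← add_self' e ha, h, add_zero' ha])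
    have nbe : add b e ≠ c0 := fun h => he2.2.2.1 (by rw [← add_self' e hb, h, add_zero' hb])
    have nabe : add a (add b e) ≠ c0 := fun h => he2.2.2.2 (by
      have := congrArg (fun t => add b (add a t)) h
      simp only [add_self' _ ha, add_self' _ hb, add_zero' ha] at this
      rw [this, add_comm' hb ha])
    have hce := add_mem he hc
    have d1 : ∀ {u}, u ∈ A →
        ({u, add a u, add b u, add a (add b u)} : Finset G).prod f =
          f u * f (add a u) * (f (add b u) * f (add a (add b u))) := by
      intro u hu
      have p1 : u ≠ add a u := mv ha hu hac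
      have p2 : u ≠ add b u := mv hb hu hb2.1
      have p3 : u ≠ add a (add b u) := by
        rw [← add_assoc' ha hb hu]; exact mv hab hu nab
      have p4 : add a u ≠ add b u := fun h => p3 (by rw [← h, add_self' u ha])
      have p5 : add a u ≠ add a (add b u) := fun h => p2 (by
        have := congrArg (add a) h
        simpa only [add_self' _ ha] using this)
      have p6 : add b u ≠ add a (add b u) := mv ha (add_mem hb hu) hac
      rw [Finset.prod_insert (by simp [p1, p2, p3]), Finset.prod_insert (by simp [p4, p5]),
        Finset.prod_insert (by simp [p6]), Finset.prod_singleton]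
      simp only [mul_assoc]
      rfl
    have hdisj : Disjoint ({c, add a c, add b c, add a (add b c)} : Finset G)
        {add e c, add a (add e c), add b (add e c), add a (add b (add e c))} := by
      have hse : c ≠ add e c := mv he hc he2.1
      have hsa : c ≠ add a (add e c) := by
        rw [← add_assoc' ha he hc]; exact mv (add_mem ha he) hc nae
      have hsb : c ≠ add b (add e c) := by
        rw [← add_assoc' hb he hc]; exact mv (add_mem hb he) hc nbe
      have hsab : c ≠ add a (add b (add e c)) := by
        rw [← add_assoc' hb he hc, ← add_assoc' ha (add_mem hb he) hc]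
        exact mv (add_mem ha (add_mem hb he)) hc nabe
      rw [Finset.disjoint_left]
      intro u hu hu'
      simp only [Finset.mem_insert, Finset.mem_singleton] at hu hu'
      have ca : ∀ {u v : G}, add a u = add a v → u = v := fun {u v} h => by
        rw [← add_self' u ha, h, add_self' v ha]
      have cb : ∀ {u v : G}, add b u = add b v → u = v := fun {u v} h => by
        rw [← add_self' u hb, h, add_self' v hb]
      have ab : ∀ u, add b (add a u) = add a (add b u) := fun u => add_left u hb ha
      rcases hu with rfl | rfl | rfl | rfl
      · rcases hu' with h | h | h | h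
        exacts [hse h, hsa h, hsb h, hsab h]
      · rcases hu' with h | h | h | h
        · exact hsa (by rw [← h, add_self' c ha])
        · exact hse (ca h)
        · exact hsab (by rw [← h, add_self' c ha])
        · exact hsb (ca h)
      · rcases hu' with h | h | h | h
        · exact hsb (by rw [← h, add_self' c hb])
        · refine hsab (cb ?_)
          rw [h, ab (add b (add e c)), add_self' _ hb]
        · exact hse (cb h)
        · refine hsa (cb ?_)
          rw [h, ab]
      · rcases hu' with h | h | h | h
        · have := congrArg (fun t => add b (add a t)) h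
          simp only [add_self' _ ha, add_self' _ hb] at this
          exact hsab (this.trans (ab _))
        · exact hsb (by rw [← ca h, add_self' c hb])
        · have := congrArg (fun t => add b (add a t)) h
          simp only [add_self' _ ha, add_self' _ hb] at this
          rw [ab, add_self' _ hb] at this
          exact hsa this
        · exact hse (cb (ca h))
    show (O c).prod f = 1
    simp only [O]
    rw [Finset.prod_union hdisj, d1 hc, d1 hce, ← four ha hb hc hce]
    have hu := add_mem ha hc
    have hbc := add_mem hb hc
    calc f c * f (add a c) * (f (add b c) * f (add a (add b c))) *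
          (f c * f (add a c) * (f (add b c) * f (add a (add b c))))
        = (f c * f c) * (f (add a c) * f (add a c)) *
            ((f (add b c) * f (add b c)) * (f (add a (add b c)) * f (add a (add b c)))) := by
          simp only [mul_assoc, mul_comm, mul_left_comm]
      _ = 1 := by rw [fsq hc, fsq hu, fsq hbc, fsq (add_mem ha hbc)]; simp

/-- all odd lines have three or five members -/
theorem line_size (hodd : OddLines D) : (line D x y).ncard = 3 ∨ (line D x y).ncard = 5 := by
  classical
  have := Fintype.ofFinite G
  have := line_isMulCommutative C hx hy hxy hne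
  have hlt : (line D x y).ncard ≤ 5 := by
    by_contra hbig
    have hx' : x ∈ line D x y := mem_line_left hx
    have hy' : y ∈ line D x y := mem_line_right hy
    have h1 : ∀ z ∈ line D x y, (∏ a ∈ (line D x y).toFinset.erase z,
        el (Subgroup.closure (line D x y)) a) = 1 := by
      intro z hz
      obtain ⟨p, S⟩ := Star.exists_star C hx hy hxy hne hz
      rcases star_dichotomy C hx hy hxy hne hodd S with h | h
      · have h' := h.1
        rw [Finset.card_erase_of_mem (Set.mem_toFinset.2 hz),
          ← Set.ncard_eq_toFinset_card'] at h'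
        omega
      · convert h.2 using 2
    have e : el (Subgroup.closure (line D x y)) x = el (Subgroup.closure (line D x y)) y := by
      have a := Finset.mul_prod_erase (line D x y).toFinset (el (Subgroup.closure (line D x y)))
        (Set.mem_toFinset.2 hx')
      have b := Finset.mul_prod_erase (line D x y).toFinset (el (Subgroup.closure (line D x y)))
        (Set.mem_toFinset.2 hy')
      rw [h1 x hx', mul_one] at a
      rw [h1 y hy', mul_one] at b
      rw [a, b]
    have e' := congrArg Subtype.val e
    rw [el_coe (Subgroup.subset_closure hx'), el_coe (Subgroup.subset_closure hy')] at e'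
    exact hne e'
  obtain ⟨k, hk⟩ := hodd x hx y hy hne hxy
  have h2 : 2 ≤ (line D x y).ncard := by
    rw [← Set.ncard_pair hne]
    refine Set.ncard_le_ncard ?_ (Set.toFinite _)
    rintro u (rfl | rfl)
    exacts [mem_line_left hx, mem_line_right hy]
  omega

/-- the members of a line of five have product one -/
theorem line_prod (hodd : OddLines D) (h5 : (line D x y).ncard = 5) {z : G}
    (hz : z ∈ line D x y) {a b c d : G} (ha : a ∈ line D x y) (hb : b ∈ line D x y)
    (hc : c ∈ line D x y) (hd : d ∈ line D x y) (hnd : [z, a, b, c, d].Nodup) :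
    z * a * b * c * d = 1 := by
  classical
  have := Fintype.ofFinite G
  have := line_isMulCommutative C hx hy hxy hne
  set K := Subgroup.closure (line D x y) with hK
  set T := ∏ u ∈ (line D x y).toFinset, el K u with hT
  have hcen : (T : G) ∈ Subgroup.center G := by
    rw [← Subgroup.centralizer_univ, ← Subgroup.coe_top, ← C.grp.2.2, Subgroup.centralizer_closure,
      Subgroup.mem_centralizer_iff]
    intro q hq
    show q * (T : G) = T * q
    by_cases hall : ∀ u ∈ line D x y, Commute q u
    · exact (Subgroup.closure_induction (p := fun v _ => Commute q v) hall (Commute.one_right q)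
        (fun _ _ _ _ h1 h2 => h1.mul_right h2) (fun _ _ h1 => h1.inv_right) T.2).eq
    push Not at hall
    obtain ⟨w, hw, hqw⟩ := hall
    obtain ⟨z₀, hz₀, hqz₀⟩ := one_or_all C hodd hq hx hy hxy hne
    have S : Star (D := D) (line D x y) z₀ q := ⟨hq, hz₀, hqz₀, fun u hu huz hqu =>
      hqw (commute_of_two C hq hx hy hxy hne hz₀ hu (Ne.symm huz) hqz₀ hqu hw)⟩
    have hcard : ((line D x y).toFinset.erase z₀).card = 4 := by
      rw [Finset.card_erase_of_mem (Set.mem_toFinset.2 hz₀), ← Set.ncard_eq_toFinset_card', h5]
    rcases star_dichotomy C hx hy hxy hne hodd S with h | h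
    · have hc1 : Commute q ((∏ u ∈ (line D x y).toFinset.erase z₀, el K u : K) : G) := by
        convert h.2 (by convert hcard using 3) using 4
      rw [hT, ← Finset.mul_prod_erase (line D x y).toFinset (el K) (Set.mem_toFinset.2 hz₀),
        Subgroup.coe_mul, el_coe (Subgroup.subset_closure hz₀)]
      exact (hqz₀.mul_right hc1).eq
    · have h' := h.1
      rw [show ((line D x y).toFinset.erase z₀).card = 4 from hcard] at h'
      omega
  rw [C.cent, Subgroup.mem_bot] at hcen
  have hset : (line D x y).toFinset = [z, a, b, c, d].toFinset := by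
    refine (Finset.eq_of_subset_of_card_le ?_ ?_).symm
    · intro u hu
      simp only [List.mem_toFinset, List.mem_cons, List.not_mem_nil, or_false] at hu
      rw [Set.mem_toFinset]
      rcases hu with rfl | rfl | rfl | rfl | rfl <;> assumption
    · rw [← Set.ncard_eq_toFinset_card', h5, List.toFinset_card_of_nodup hnd]
      rfl
  rw [hT, hset, List.prod_toFinset _ hnd] at hcen
  simp only [List.map_cons, List.map_nil, List.prod_cons, List.prod_nil, mul_one,
    Subgroup.coe_mul] at hcen
  rw [el_coe (Subgroup.subset_closure hz), el_coe (Subgroup.subset_closure ha),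
    el_coe (Subgroup.subset_closure hb), el_coe (Subgroup.subset_closure hc),
    el_coe (Subgroup.subset_closure hd)] at hcen
  simpa [mul_assoc] using hcen

end Cfsg.Agent.ThreeTransp.Polar
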