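import Mathlib

/-!
The field with four elements.
-/

set_option autoImplicit false

namespace Cfsg.Agent.ThreeTransp.Polar.Unit

/-- the field with four elements -/
abbrev K : Type := GaloisField 2 2

noncomputable instance instFintypeK : Fintype K := Fintype.ofFinite K

theorem card_K : Fintype.card K = 4 := by
  rw [← Nat.card_eq_fintype_card, GaloisField.card 2 2 (by norm_num)]; norm_num

theorem two_zero : (2 : K) = 0 := CharTwo.two_eq_zero

theorem add_self (x : K) : x + x = 0 := CharTwo.add_self_eq_zero x

theorem eq_of_add_eq_zero {x y : K} (h : x + y = 0) : x = y := CharTwo.add_eq_zero.1 h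

theorem cube {x : K} (hx : x ≠ 0) : x ^ 3 = 1 := by
  have := FiniteField.pow_card_sub_one_eq_one x hx
  rwa [card_K] at this

theorem exists_omega : ∃ w : K, w * w = w + 1 := by
  obtain ⟨w, h0, h1⟩ : ∃ w : K, w ≠ 0 ∧ w ≠ 1 := by
    by_contra! h
    classical
    have : (Finset.univ : Finset K) ⊆ {0, 1} := fun x _ => by
      by_cases hx : x = 0
      · simp [hx]
      · simp [h x hx]
    have := Finset.card_le_card this
    rw [Finset.card_univ, card_K] at this
    simp at this
  refine ⟨w, ?_⟩
  have h := cube h0
  have h2 : (w - 1) * (w * w + w + 1) = 0 := by linear_combination h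
  have h3 := (mul_eq_zero.1 h2).resolve_left (sub_ne_zero.2 h1)
  linear_combination h3 - (w + 1) * two_zero

/-- a primitive element -/
noncomputable def ω : K := exists_omega.choose

theorem om_sq : ω * ω = ω + 1 := exists_omega.choose_spec

theorem om_ne_zero : ω ≠ 0 := fun h => by
  have := om_sq
  simp [h] at this

theorem om_ne_one : ω ≠ 1 := fun h => by
  have := om_sq
  rw [h, mul_one, eq_comm, add_self] at this
  exact zero_ne_one this

theorem om_add_one_ne_zero : ω + 1 ≠ 0 := fun h => om_ne_one (eq_of_add_eq_zero h)

theorem om_ne_add_one : ω ≠ ω + 1 := fun h => by simp at h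

theorem add_one_ne_one : ω + 1 ≠ 1 := fun h => om_ne_zero (by simpa using h)

theorem om_cube : ω * (ω + 1) = 1 := by linear_combination om_sq + ω * two_zero

theorem K_cases (x : K) : x = 0 ∨ x = 1 ∨ x = ω ∨ x = ω + 1 := by
  classical
  have h : ({0, 1, ω, ω + 1} : Finset K) = Finset.univ := by
    refine Finset.eq_univ_of_card _ ?_
    rw [card_K, Finset.card_insert_of_notMem, Finset.card_insert_of_notMem,
      Finset.card_insert_of_notMem, Finset.card_singleton]
    · simp [om_ne_add_one]
    · simp [om_ne_one.symm, om_ne_zero]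
    · simp [om_ne_zero.symm, om_add_one_ne_zero.symm, (zero_ne_one : (0 : K) ≠ 1)]
  have := Finset.mem_univ x
  rw [← h] at this
  simpa using this

/-- the involution of the field -/
noncomputable def σ : K →+* K := frobenius K 2

theorem σ_apply (x : K) : σ x = x * x := by rw [σ, frobenius_def, pow_two]

theorem σ_om : σ ω = ω + 1 := by rw [σ_apply, om_sq]

theorem σ_om_one : σ (ω + 1) = ω := by
  rw [σ_apply]; linear_combination om_sq + (ω + 1) * two_zero

theorem σ_σ (x : K) : σ (σ x) = x := by
  rcases K_cases x with rfl | rfl | rfl | rfl <;> simp only [map_zero, map_one, σ_om, σ_om_one]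

theorem σ_ne_id : σ ≠ RingHom.id K := fun h => om_ne_add_one (by
  have := σ_om
  rwa [h, RingHom.id_apply] at this)

/-- trace to the prime field -/
theorem σ_add_eq_zero {x : K} : x + σ x = 0 ↔ x = 0 ∨ x = 1 := by
  rcases K_cases x with rfl | rfl | rfl | rfl
  · simp
  · simp [add_self]
  · rw [σ_om, ← add_assoc, add_self, zero_add]; simp [om_ne_zero, om_ne_one]
  · rw [σ_om_one, show ω + 1 + ω = (1 : K) by linear_combination ω * two_zero]
    simp [om_add_one_ne_zero, om_ne_zero]

theorem mul_σ_self {x : K} (hx : x ≠ 0) : x * σ x = 1 := by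
  rw [σ_apply, ← pow_three, cube hx]

theorem σ_eq_inv {x : K} : σ x = x⁻¹ := by
  by_cases hx : x = 0
  · simp [hx]
  · exact eq_inv_of_mul_eq_one_right (mul_σ_self hx)

theorem sum_distinct {x y z : K} (hx : x ≠ 0) (hy : y ≠ 0) (hz : z ≠ 0) (hxy : x ≠ y) (hxz : x ≠ z)
    (hyz : y ≠ z) : x + y = z := by
  rcases K_cases x with rfl | rfl | rfl | rfl <;>
    rcases K_cases y with rfl | rfl | rfl | rfl <;>
      rcases K_cases z with rfl | rfl | rfl | rfl <;>
        first
          | exact (hx rfl).elim
          | exact (hy rfl).elim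
          | exact (hz rfl).elim
          | exact (hxy rfl).elim
          | exact (hxz rfl).elim
          | exact (hyz rfl).elim
          | ring1
          | linear_combination (1 : K) * two_zero
          | linear_combination ω * two_zero
          | linear_combination (ω + 1) * two_zero

end Cfsg.Agent.ThreeTransp.Polar.Unit
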