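import Cfsg.Agent.Lib.ThreeTransp.Polar.UnitOrient
import Cfsg.Agent.Lib.ThreeTransp.Polar.UnitField

/-!
Lines with five members: the values of the hermitian form on the neighbours of one member.
-/

set_option autoImplicit false
set_option linter.unusedSectionVars false

namespace Cfsg.Agent.ThreeTransp.Polar.Unit

open Cfsg.Agent.ThreeTransp Cfsg.Agent.ThreeTransp.Polar

variable {G : Type*} [Group G] [Finite G] {D : Set G} {a b : G}

/-- the neighbours of the first member, as a type -/
abbrev Xs (D : Set G) (a b : G) : Type _ := {x : G // InX D a b x}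

variable (F : Frame D a b)
include F

/-- the scalar rotation of a fibre -/
noncomputable def J (x : G) : G := (exists_orientation F).choose (rep D a b x) x

theorem J_fib {r x : G} (hx : x ∈ fib D a b r) : J F x ∈ fib D a b r := by
  have h := ((exists_orientation F).choose_spec.1 _ (xR F hx.1)).1
  rw [hx.2] at h
  have h2 := h hx
  rwa [J, hx.2]

theorem J_mem {x : G} (hx : InX D a b x) : InX D a b (J F x) := (J_fib F ⟨hx, rfl⟩).1

theorem rep_J {x : G} (hx : InX D a b x) : rep D a b (J F x) = rep D a b x :=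
  (J_fib F ⟨hx, rfl⟩).2

theorem J_ne {x : G} (hx : InX D a b x) : J F x ≠ x :=
  ((exists_orientation F).choose_spec.1 _ (xR F hx)).2.2 x ⟨hx, rfl⟩

theorem J_inj {x y : G} (hx : InX D a b x) (hy : InX D a b y) (hr : rep D a b x = rep D a b y)
    (h : J F x = J F y) : x = y := by
  rw [J, J, ← hr] at h
  exact ((exists_orientation F).choose_spec.1 _ (xR F hx)).2.1 ⟨hx, rfl⟩ ⟨hy, hr.symm⟩ h

theorem Pi_J {x y : G} (h : Pi D a b x y) : Pi D a b (J F x) (J F y) :=
  (exists_orientation F).choose_spec.2 _ _ (xR F h.1) (xR F h.2.1) (pi_rep_ne F h) x ⟨h.1, rfl⟩ y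
    ⟨h.2.1, rfl⟩ h

theorem JJ_ne {x : G} (hx : InX D a b x) : J F (J F x) ≠ x := by
  intro e
  obtain ⟨z, hz, hz'⟩ := Set.exists_mem_notMem_of_ncard_lt_ncard
    (s := ({x, J F x} : Set G)) (t := fib D a b (rep D a b x))
    (by rw [fib_card F (xR F hx), Set.ncard_pair (J_ne F hx).symm]; norm_num)
  simp only [Set.mem_insert_iff, Set.mem_singleton_iff, not_or] at hz'
  have hJz := J_fib F hz
  have hJz1 : J F z ≠ x := fun h => hz'.2 (J_inj F hz.1 (J_mem F hx)
    (by rw [hz.2, rep_J F hx]) (h.trans e.symm))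
  have hJz2 : J F z ≠ J F x := fun h => hz'.1 (J_inj F hz.1 hx hz.2 h)
  have hset : ({x, J F x, z} : Set G) = fib D a b (rep D a b x) := by
    refine Set.eq_of_subset_of_ncard_le ?_ ?_ (Set.toFinite _)
    · rintro u (rfl | rfl | rfl)
      exacts [⟨hx, rfl⟩, J_fib F ⟨hx, rfl⟩, hz]
    · rw [fib_card F (xR F hx), Set.ncard_eq_three.2 ⟨x, J F x, z, (J_ne F hx).symm,
        Ne.symm hz'.1, Ne.symm hz'.2, rfl⟩]
  rw [← hset] at hJz
  rcases hJz with h | h | h
  exacts [hJz1 h, hJz2 h, J_ne F hz.1 h]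

theorem fib_eq {x : G} (hx : InX D a b x) :
    fib D a b (rep D a b x) = {x, J F x, J F (J F x)} := by
  refine (Set.eq_of_subset_of_ncard_le ?_ ?_ (Set.toFinite _)).symm
  · rintro u (rfl | rfl | rfl)
    exacts [⟨hx, rfl⟩, J_fib F ⟨hx, rfl⟩, J_fib F (J_fib F ⟨hx, rfl⟩)]
  · rw [fib_card F (xR F hx), Set.ncard_eq_three.2 ⟨x, J F x, J F (J F x), (J_ne F hx).symm,
      (JJ_ne F hx).symm, (J_ne F (J_mem F hx)).symm, rfl⟩]

theorem fib_cases {x y : G} (hx : InX D a b x) (hy : InX D a b y)
    (h : rep D a b y = rep D a b x) : y = x ∨ y = J F x ∨ y = J F (J F x) := by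
  have : y ∈ fib D a b (rep D a b x) := ⟨hy, h⟩
  rwa [fib_eq F hx] at this

theorem J_three {x : G} (hx : InX D a b x) : J F (J F (J F x)) = x := by
  have h := J_fib F (J_fib F (J_fib F (r := rep D a b x) ⟨hx, rfl⟩))
  rcases fib_cases F hx h.1 h.2 with e | e | e
  · exact e
  · exact absurd (J_inj F (J_mem F (J_mem F hx)) hx (by rw [rep_J F (J_mem F hx), rep_J F hx]) e)
      (JJ_ne F hx)
  · exact absurd e (J_ne F (J_mem F (J_mem F hx)))

theorem comm_J {x y : G} (hx : InX D a b x) (hy : InX D a b y) :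
    Commute (J F x) y ↔ Commute x y := by
  rw [comm_iff F (J_mem F hx) hy, comm_iff F hx hy, rep_J F hx]

theorem comm_J' {x y : G} (hx : InX D a b x) (hy : InX D a b y) :
    Commute x (J F y) ↔ Commute x y := by
  rw [comm_iff F hx (J_mem F hy), comm_iff F hx hy, rep_J F hy]

theorem pi_exists {x y : G} (hx : InX D a b x) (hy : InX D a b y) (hn : ¬ Commute x y) :
    Pi D a b x y ∨ Pi D a b (J F x) y ∨ Pi D a b (J F (J F x)) y := by
  have h := partner_spec F hy (xR F hx) fun e => hn ((comm_iff F hx hy).2 e.symm)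
  have hp := pi_symm F h.2.2
  rcases fib_cases F hx h.1 h.2.1 with e | e | e <;> rw [e] at hp
  exacts [Or.inl hp, Or.inr (Or.inl hp), Or.inr (Or.inr hp)]

theorem pi_not_J {x y : G} (h : Pi D a b x y) : ¬ Pi D a b (J F x) y := fun h' =>
  J_ne F h.1 (pi_unique F (pi_symm F h') (pi_symm F h) (rep_J F h.1))

theorem pi_not_JJ {x y : G} (h : Pi D a b x y) : ¬ Pi D a b (J F (J F x)) y := fun h' =>
  JJ_ne F h.1 (pi_unique F (pi_symm F h') (pi_symm F h)
    (by rw [rep_J F (J_mem F h.1), rep_J F h.1]))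

open Classical in
/-- the hermitian form -/
noncomputable def hf (x y : G) : K :=
  if Commute x y then 0
  else if Pi D a b x y then 1
  else if Pi D a b (J F x) y then ω
  else ω + 1

theorem hf_zero {x y : G} : hf F x y = 0 ↔ Commute x y := by
  classical
  unfold hf
  split_ifs with h1 h2 h3
  · simp [h1]
  · simp [h1]
  · simp [h1, om_ne_zero]
  · simp [h1, om_add_one_ne_zero]

theorem hf_one {x y : G} (h : Pi D a b x y) : hf F x y = 1 := by
  classical
  rw [hf, if_neg h.2.2.1, if_pos h]

theorem hf_om {x y : G} (hx : InX D a b x) (h : Pi D a b (J F x) y) : hf F x y = ω := by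
  classical
  rw [hf, if_neg fun e => h.2.2.1 ((comm_J F hx h.2.1).2 e),
    if_neg fun e => pi_not_J F e h, if_pos h]

theorem hf_om_one {x y : G} (hx : InX D a b x) (h : Pi D a b (J F (J F x)) y) :
    hf F x y = ω + 1 := by
  classical
  rw [hf, if_neg fun e => h.2.2.1 ((comm_J F (J_mem F hx) h.2.1).2 ((comm_J F hx h.2.1).2 e)),
    if_neg fun e => pi_not_JJ F e h, if_neg fun e => pi_not_J F e h]

theorem hf_eq_one {x y : G} (hx : InX D a b x) (hy : InX D a b y) :
    hf F x y = 1 ↔ Pi D a b x y := by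
  refine ⟨fun h => ?_, hf_one F⟩
  have hn : ¬ Commute x y := fun e => by
    rw [(hf_zero F).2 e] at h
    exact zero_ne_one h
  rcases pi_exists F hx hy hn with e | e | e
  · exact e
  · rw [hf_om F hx e] at h; exact absurd h om_ne_one
  · rw [hf_om_one F hx e] at h; exact absurd h add_one_ne_one

theorem hf_J_left {x y : G} (hx : InX D a b x) (hy : InX D a b y) :
    hf F (J F x) y = (ω + 1) * hf F x y := by
  by_cases hn : Commute x y
  · rw [(hf_zero F).2 hn, (hf_zero F).2 ((comm_J F hx hy).2 hn), mul_zero]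
  rcases pi_exists F hx hy hn with e | e | e
  · rw [hf_one F e, mul_one, hf_om_one F (J_mem F hx) (by rwa [J_three F hx])]
  · rw [hf_om F hx e, hf_one F e, mul_comm, om_cube]
  · rw [hf_om_one F hx e, hf_om F (J_mem F hx) e]
    linear_combination -om_sq - (ω + 1) * two_zero

theorem hf_J_right {x y : G} (hx : InX D a b x) (hy : InX D a b y) :
    hf F x (J F y) = ω * hf F x y := by
  by_cases hn : Commute x y
  · rw [(hf_zero F).2 hn, (hf_zero F).2 ((comm_J' F hx hy).2 hn), mul_zero]
  rcases pi_exists F hx hy hn with e | e | e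
  · rw [hf_one F e, mul_one, hf_om F hx (Pi_J F e)]
  · rw [hf_om F hx e, hf_om_one F hx (Pi_J F e), om_sq]
  · have h3 := Pi_J F e
    rw [J_three F hx] at h3
    rw [hf_om_one F hx e, hf_one F h3, om_cube]

theorem hf_symm {x y : G} (hx : InX D a b x) (hy : InX D a b y) :
    hf F y x = σ (hf F x y) := by
  by_cases hn : Commute x y
  · rw [(hf_zero F).2 hn, (hf_zero F).2 hn.symm, map_zero]
  rcases pi_exists F hx hy hn with e | e | e
  · rw [hf_one F e, map_one, hf_one F (pi_symm F e)]
  · rw [hf_om F hx e, σ_om]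
    have h := Pi_J F (Pi_J F (pi_symm F e))
    rw [J_three F hx] at h
    exact hf_om_one F hy h
  · rw [hf_om_one F hx e, σ_om_one]
    have h := Pi_J F (pi_symm F e)
    rw [J_three F hx] at h
    exact hf_om F hy h

theorem hf_self {x : G} : hf F x x = 0 := (hf_zero F).2 (Commute.refl x)

theorem hf_conjR {u q y : G} (hu : InR D a b u) (hq : InX D a b q) (hy : InX D a b y)
    (huq : Commute u q) (hn : ¬ Commute q y) : hf F q (u * y * u) = hf F q y := by
  have hc : ∀ q', InX D a b q' → Commute u q' → Pi D a b q' y →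
      Pi D a b q' (u * y * u) := fun q' _ huq' h => by
    have := pi_cjR F hu h
    rwa [F.ctx.cj_fix hu.1 huq'] at this
  have hJ : ∀ q', InX D a b q' → Commute u q' → Commute u (J F q') := fun q' hq' h => by
    rw [comm_rep F hu.1 hu.2.1.symm (J_mem F hq'), rep_J F hq']
    exact (comm_rep F hu.1 hu.2.1.symm hq').1 h
  rcases pi_exists F hq hy hn with e | e | e
  · rw [hf_one F e, hf_one F (hc _ hq huq e)]
  · rw [hf_om F hq e, hf_om F hq (hc _ (J_mem F hq) (hJ _ hq huq) e)]
  · rw [hf_om_one F hq e,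
      hf_om_one F hq (hc _ (J_mem F (J_mem F hq)) (hJ _ (J_mem F hq) (hJ _ hq huq)) e)]

/-- equal values against two paired members force a line -/
theorem hf_same {q x y : G} (hq : InX D a b q) (h : Pi D a b x y)
    (hu : ¬ Commute (rep D a b q) (rep D a b x * rep D a b y * rep D a b x))
    (hn : ¬ Commute q x) : hf F q x ≠ hf F q y := by
  intro e
  have key : ∀ q', InX D a b q' → rep D a b q' = rep D a b q → Pi D a b q' x → ¬ Pi D a b q' y :=
    fun q' _ hrep h1 h2 =>
      triangle_false F h (pi_symm F h2) (pi_symm F h1) (by rwa [hrep])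
  rcases pi_exists F hq h.1 hn with p | p | p
  · rw [hf_one F p, eq_comm, hf_eq_one F hq h.2.1] at e
    exact key q hq rfl p e
  · refine key _ (J_mem F hq) (rep_J F hq) p ((hf_eq_one F (J_mem F hq) h.2.1).1 ?_)
    rw [hf_J_left F hq h.2.1, ← e, hf_om F hq p, mul_comm, om_cube]
  · refine key _ (J_mem F (J_mem F hq)) (by rw [rep_J F (J_mem F hq), rep_J F hq]) p
      ((hf_eq_one F (J_mem F (J_mem F hq)) h.2.1).1 ?_)
    rw [hf_J_left F (J_mem F hq) h.2.1, hf_J_left F hq h.2.1, ← e, hf_om_one F hq p]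
    linear_combination (ω + 2) * om_sq + (ω * ω + 3 * ω + 1) * two_zero

theorem hf_add {q x y : G} (hq : InX D a b q) (h : Pi D a b x y) :
    hf F q (rep D a b y * x * rep D a b y) = hf F q x + hf F q y := by
  obtain ⟨key, hxz, hyz, hrep⟩ := pi_third F h
  set r := rep D a b x with hr
  set s := rep D a b y with hs
  set z := s * x * s with hz
  set u := rep D a b q with hu
  have hrR : InR D a b r := xR F h.1
  have hsR : InR D a b s := xR F h.2.1
  have htR := inR_third F hrR hsR
  have hrs := pi_rep_ne F h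
  have cx : Commute q x ↔ Commute u r := comm_iff F hq h.1
  have cy : Commute q y ↔ Commute u s := comm_iff F hq h.2.1
  have cz : Commute q z ↔ Commute u (r * s * r) := by rw [comm_iff F hq hxz.2.1, hrep]
  have e1 : r * (r * s * r) * r = s := F.ctx.cj_cj hrR.1 s
  have e2 : s * (r * s * r) * s = r := by
    rw [F.ctx.braid hrR.1 hsR.1 hrs, F.ctx.cj_cj hsR.1]
  by_cases hur : Commute u r
  · by_cases hus : Commute u s
    · rw [(hf_zero F).2 (cx.2 hur), (hf_zero F).2 (cy.2 hus),
        (hf_zero F).2 (cz.2 ((hur.mul_right hus).mul_right hur)), add_zero]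
    · rw [(hf_zero F).2 (cx.2 hur), zero_add, ← key]
      exact hf_conjR F hrR hq h.2.1 ((comm_rep F hrR.1 hrR.2.1.symm hq).2 hur.symm)
        fun e => hus (cy.1 e)
  · by_cases hus : Commute u s
    · rw [(hf_zero F).2 (cy.2 hus), add_zero]
      exact hf_conjR F hsR hq h.1 ((comm_rep F hsR.1 hsR.2.1.symm hq).2 hus.symm)
        fun e => hur (cx.1 e)
    · by_cases hut : Commute u (r * s * r)
      · have hxr : Commute r x := (comm_rep F hrR.1 hrR.2.1.symm h.1).2 (Commute.refl r)
        have e : r * s * r * y * (r * s * r) = x := by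
          have e3 : r * y * r = z := key
          calc r * s * r * y * (r * s * r) = r * s * (r * y * r) * s * r := by group
            _ = r * (s * (s * x * s) * s) * r := by rw [e3, hz]; group
            _ = x := by rw [F.ctx.cj_cj hsR.1, F.ctx.cj_fix hrR.1 hxr]
        have hc := hf_conjR F htR hq h.2.1 ((comm_rep F htR.1 htR.2.1.symm hq).2 hut.symm)
          fun e => hus (cy.1 e)
        rw [e] at hc
        rw [(hf_zero F).2 (cz.2 hut), hc, add_self]
      · have n1 : hf F q x ≠ 0 := fun e => hur (cx.1 ((hf_zero F).1 e))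
        have n2 : hf F q y ≠ 0 := fun e => hus (cy.1 ((hf_zero F).1 e))
        have n3 : hf F q z ≠ 0 := fun e => hut (cz.1 ((hf_zero F).1 e))
        refine (sum_distinct n1 n2 n3 (hf_same F hq h hut fun e => hur (cx.1 e))
          (hf_same F hq hxz ?_ fun e => hur (cx.1 e))
          (hf_same F hq hyz ?_ fun e => hus (cy.1 e))).symm
        · rw [hrep, ← hr, e1]; exact hus
        · rw [hrep, ← hs, e2]; exact hur

end Cfsg.Agent.ThreeTransp.Polar.Unit
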