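import Cfsg.Agent.Lib.ThreeTransp.Polar.UnitMu

/-!
Lines with five members: the members as isotropic points, with conjugation given by transvections.
-/

set_option autoImplicit false
set_option linter.unusedSectionVars false

namespace Cfsg.Agent.ThreeTransp.Polar.Unit

open Cfsg.Agent.ThreeTransp Cfsg.Agent.ThreeTransp.Polar

variable {G : Type*} [Group G] [Finite G] {D : Set G} {a b : G}
variable (F : Frame D a b)
include F

open Classical in
/-- the point of a member -/
noncomputable def Psi (p : G) : V F :=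
  if Commute a p then psi F p else (mu F p, 1, fn F p)

theorem Psi_in {p : G} (h : Commute a p) : Psi F p = psi F p := by
  classical
  rw [Psi, if_pos h]

theorem Psi_out {p : G} (h : ¬ Commute a p) : Psi F p = (mu F p, 1, fn F p) := by
  classical
  rw [Psi, if_neg h]

theorem Psi_ne_zero (p : G) : Psi F p ≠ 0 := by
  by_cases h : Commute a p
  · rw [Psi_in F h]; exact psi_ne_zero F p
  · rw [Psi_out F h]
    intro e
    exact one_ne_zero (congrArg (fun v : V F => v.2.1) e)

theorem Sim.refl (v : V F) : Sim F v v := ⟨1, one_ne_zero, (one_smul K v).symm⟩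

theorem Psi_a : Psi F a = (1, 0, 0) := by rw [Psi_in F (Commute.refl a), psi_a]

theorem Psi_b : Psi F b = (0, 1, 0) := by
  rw [Psi_out F F.hab, mu_b F (Commute.refl b), fn_b]

theorem Psi_c : Psi F (sw a b) = (1, 1, 0) := by
  rw [Psi_out F (c_mem F).2, (mu_c F (c_mem F) (Commute.refl _)).1, fn_c]

theorem T_c (v : V F) : T F (Psi F (sw a b)) v = (v.2.1, v.1, v.2.2) := by
  rw [Psi_c]
  refine Prod.ext ?_ (Prod.ext ?_ ?_)
  · simp [T, H_apply]; linear_combination v.1 * two_zero
  · simp [T, H_apply]; linear_combination v.2.1 * two_zero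
  · simp [T]

theorem mu_trace {d : G} (hd : InA D a d) :
    mu F d + σ (mu F d) = HW F (fn F d) (fn F d) := by
  rcases A_cases F hd with h | h | h
  · rw [mu_b F h, fn_iso_of_b F hd h]; simp
  · have := fn_iso_of_b F (conj_A F F.ha (Commute.refl a) hd) ((cja_b F).2 h)
    rw [fn_cj_a F hd] at this
    rw [(mu_c F hd h).1, this]; simp [add_self]
  · obtain ⟨h0, h1, -⟩ := mu_gen_cases F h
    rw [gen_aniso F h]
    rcases K_cases (mu F d) with k | k | k | k
    · exact absurd k h0
    · exact absurd k h1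
    · rw [k, σ_om]; linear_combination ω * two_zero
    · rw [k, σ_om_one]; linear_combination ω * two_zero

theorem equiv_a {d : G} (hd : InA D a d) :
    Psi F (a * d * a) = T F (Psi F a) (Psi F d) := by
  rw [Psi_out F (conj_A F F.ha (Commute.refl a) hd).2, Psi_out F hd.2, mu_cj_a F hd,
    fn_cj_a F hd, Psi_a]
  refine Prod.ext ?_ (Prod.ext ?_ ?_) <;> simp [T, H_apply]

theorem mu_R {r d : G} (hr : InR D a b r) (hd : InA D a d) : mu F (r * d * r) = mu F d := by
  have hd' := conj_A F hr.1 hr.2.1 hd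
  have hb : Commute b (r * d * r) ↔ Commute b d := by
    conv_lhs => rw [← cj_b F hr.1 hr.2.2.symm, F.ctx.commute_cj hr.1]
  have hc : Commute (sw a b) (r * d * r) ↔ Commute (sw a b) d := by
    conv_lhs => rw [← F.ctx.cj_fix hr.1 (cjc_R F hr).symm, F.ctx.commute_cj hr.1]
  rcases A_cases F hd with h | h | h
  · rw [mu_b F h, mu_b F (hb.2 h)]
  · rw [(mu_c F hd h).1, (mu_c F hd' (hc.2 h)).1]
  · obtain ⟨-, -, e⟩ := mu_gen_cases F h
    obtain ⟨hp, hp', eR⟩ := psi_R F hr
    have h' : Gen D a b (r * d * r) := ⟨hd', mt hb.1 h.2.1, mt hc.1 h.2.2⟩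
    rw [mu_gen F h' (ρ := (mu F d)⁻¹), inv_inv]
    have hcom : sw a b * (r * d * r) * sw a b = r * (sw a b * d * sw a b) * r := by
      calc sw a b * (r * d * r) * sw a b = (sw a b * r) * d * (r * sw a b) := by group
        _ = (r * sw a b) * d * (sw a b * r) := by rw [(cjc_R F hr).eq]
        _ = _ := by group
    rw [hcom, fn_conj F hr.1 hr.2.1 (Gen.cjc F h).1, fn_conj F hr.1 hr.2.1 hd, e, eR, smul_add,
      smul_smul]
    congr 2
    simp [H_apply]

theorem equiv_R {r d : G} (hr : InR D a b r) (hd : InA D a d) :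
    Psi F (r * d * r) = T F (Psi F r) (Psi F d) := by
  obtain ⟨hp, -, eR⟩ := psi_R F hr
  rw [Psi_out F (conj_A F hr.1 hr.2.1 hd).2, Psi_out F hd.2, mu_R F hr hd,
    fn_conj F hr.1 hr.2.1 hd, Psi_in F hr.2.1, eR]
  refine Prod.ext ?_ (Prod.ext ?_ ?_) <;> simp [T, H_apply]

theorem sub_field {t : K} : t + σ t = 0 ∨ t = ω ∨ t = ω + 1 := by
  rcases K_cases t with h | h | h | h
  · left; simp [h]
  · left; simp [h, add_self]
  · exact Or.inr (Or.inl h)
  · exact Or.inr (Or.inr h)

theorem sum_mem_sub {s t : K} (hs : s = ω ∨ s = ω + 1) (ht : t = ω ∨ t = ω + 1) :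
    s + t = 0 ∨ s + t = 1 := by
  rcases hs with rfl | rfl <;> rcases ht with rfl | rfl
  · exact Or.inl (add_self _)
  · exact Or.inr (by linear_combination ω * two_zero)
  · exact Or.inr (by linear_combination ω * two_zero)
  · exact Or.inl (add_self _)

theorem sub_iff {t : K} : t + σ t = 0 ↔ t = 0 ∨ t = 1 := σ_add_eq_zero

/-- a member deciding the remaining coordinate -/
theorem exists_test {x d : G} (hx : InX D a b x) (hd : InA D a d)
    (h1 : (fn F d : Xs D a b → K) ⟨x, hx⟩ ≠ 1)
    (ht : mu F d + (1 + (fn F d : Xs D a b → K) ⟨x, hx⟩) = ω ∨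
      mu F d + (1 + (fn F d : Xs D a b → K) ⟨x, hx⟩) = ω + 1) :
    ∃ q : Xs D a b, hf F x q.1 = 1 ∧
      ((fn F d : Xs D a b → K) q = mu F d ∨ (fn F d : Xs D a b → K) q = mu F d + 1) := by
  set w := fn F d with hw
  set δ := (w : Xs D a b → K) ⟨x, hx⟩ with hδ
  set m := mu F d with hm
  obtain ⟨t, htR, hxt⟩ := exists_far F (xR F hx)
  obtain ⟨hf1, -, hf2⟩ := partner_spec F hx htR hxt
  set f : Xs D a b := ⟨_, hf1⟩
  set v := wv F ⟨x, hx⟩ with hv
  have hxf : hf F x f.1 = 1 := hf_one F hf2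
  have hfx : hf F f.1 x = 1 := hf_one F (pi_symm F hf2)
  set ε := HW F (wv F f) w with hε
  have εq : (w : Xs D a b → K) f = ε := (hw_wv F f w).symm
  have fin : ∀ u : ↥(W F), HW F u u = 0 → HW F v u = 1 → (HW F u w + m = 0 ∨ HW F u w + m = 1) →
      ∃ q : Xs D a b, hf F x q.1 = 1 ∧
        ((w : Xs D a b → K) q = m ∨ (w : Xs D a b → K) q = m + 1) := by
    intro u hu hv1 hval
    obtain ⟨q, rfl⟩ := complete F (fun e => by rw [e] at hv1; simp at hv1) hu
    refine ⟨q, by rw [← hv1, hv, HW_wv], ?_⟩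
    rw [← hw_wv F q w, ← HW_apply]
    rcases hval with h | h
    · exact Or.inl (eq_of_add_eq_zero h)
    · right; linear_combination h - m * two_zero
  have hεc := sub_field F (t := ε)
  rcases K_cases δ with k | k | k | k
  · -- the coordinate is a proper field element
    rw [k, add_zero] at ht
    have hm' : m = ω ∨ m = ω + 1 := by
      rcases ht with h | h
      · right; linear_combination h - (1 : K) * two_zero
      · left; linear_combination h
    by_cases he : ε = ω ∨ ε = ω + 1
    · exact fin (wv F f) (by rw [HW_wv, hf_self]) (by rw [hv, HW_wv, hxf])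
        (by rw [← hε]; exact sum_mem_sub F he hm')
    have hN : HW F w w = 1 := by
      rw [← mu_trace F hd, ← hm]
      rcases hm' with h | h <;> rw [h]
      · rw [σ_om]; linear_combination ω * two_zero
      · rw [σ_om_one]; linear_combination ω * two_zero
    have hσε : σ ε = ε := by
      have := hεc.resolve_right he
      exact (eq_of_add_eq_zero this).symm
    have hwf : HW F w (wv F f) = ε := by rw [← hσε, hε, HW_apply, HW_apply, hw_symm]
    have hwv' : HW F v w = 0 := by rw [hv, HW_apply, hw_wv, ← hδ, k]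
    have hwv'' : HW F w v = 0 := by
      rw [HW_apply, ← hw_symm F v w, ← HW_apply, hwv', map_zero]
    have hf' : HW F (wv F f) v = 1 := by rw [hv, HW_wv, hfx]
    have hf'' : HW F v (wv F f) = 1 := by rw [hv, HW_wv, hxf]
    have hfo : HW F (wv F f) (wv F f) = 0 := by rw [HW_wv, hf_self]
    have hvv : HW F v v = 0 := by rw [hv, HW_wv, hf_self]
    refine fin (wv F f + (ω + ω * ε) • v + ω • w) ?_ ?_ ?_
    · simp only [map_add, LinearMap.add_apply, LinearMap.map_smulₛₗ, LinearMap.smul_apply,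
        RingHom.id_apply, smul_eq_mul, map_mul, σ_om, hσε, hwf, hwv', hwv'', hf', hf'', hfo, hvv,
        hN, ← hε]
      linear_combination om_sq + (2 * ω * ε + 2 * ω + ε + 1) * two_zero
    · simp only [map_add, LinearMap.map_smulₛₗ, RingHom.id_apply, smul_eq_mul, hf'', hvv, hwv']
      ring
    · simp only [map_add, LinearMap.add_apply, LinearMap.map_smulₛₗ, LinearMap.smul_apply,
        RingHom.id_apply, smul_eq_mul, map_mul, σ_om, hwv', hN, ← hε]
      have he' : ε = 0 ∨ ε = 1 := (sub_iff F).1 (hεc.resolve_right he)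
      rcases he' with e | e <;> rcases hm' with g | g <;> rw [e, g]
      · right; linear_combination ω * two_zero
      · left; linear_combination (ω + 1) * two_zero
      · left; linear_combination (ω + 1) * two_zero
      · right; linear_combination (ω + 1) * two_zero
  · exact absurd k h1
  all_goals
    have hδ' : δ = ω ∨ δ = ω + 1 := by first | exact Or.inl k | exact Or.inr k
    have hm' : m = 0 ∨ m = 1 := by
      rcases sum_mem_sub F ht hδ' with h | h
      · right; linear_combination h - (δ + 1) * two_zero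
      · left; linear_combination h - δ * two_zero
    have hsub : ∀ t : K, t = 0 ∨ t = 1 → t + m = 0 ∨ t + m = 1 := by
      intro t ht
      rcases ht with rfl | rfl <;> rcases hm' with e | e <;> simp [e, add_self]
    by_cases he : ε = ω ∨ ε = ω + 1
    · refine fin (wv F f + v) ?_ ?_ (hsub _ ?_)
      · simp [hv, HW_wv, hf_self, hfx, hxf, add_self]
      · simp [hv, HW_wv, hf_self, hxf]
      · rw [map_add, LinearMap.add_apply, ← hε, show HW F v w = δ from hw_wv F _ w]
        exact sum_mem_sub F he hδ'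
    · exact fin (wv F f) (by rw [HW_wv, hf_self]) (by rw [hv, HW_wv, hxf])
        (by rw [← hε]; exact hsub _ ((sub_iff F).1 (hεc.resolve_right he)))

theorem mu_X {x d : G} (hx : InX D a b x) (hd : InA D a d) :
    mu F (x * d * x) = mu F d + (1 + (fn F d : Xs D a b → K) ⟨x, hx⟩) := by
  set δ := (fn F d : Xs D a b → K) ⟨x, hx⟩ with hδ
  have hd' := conj_A F hx.1 hx.2.1 hd
  by_cases h1 : δ = 1
  · have hc : Commute x d := ((fn_spec F hd x hx.1 hx.2.1).2 (by
      rw [H_X F hx, ← hδ, h1, add_self])).symm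
    rw [F.ctx.cj_fix hx.1 hc, h1, add_self, add_zero]
  have hbx : x * b * x = a * (sw a b * x * sw a b) * a := by
    rw [F.ctx.braid hx.1 F.hb fun e => hx.2.2.2 e.symm]
    calc b * x * b = (a * sw a b * a) * (a * x * a) * (a * sw a b * a) := by
          rw [a_c_a F, F.ctx.cj_fix F.ha hx.2.1]
      _ = a * sw a b * (a * a) * x * (a * a) * sw a b * a := by group
      _ = _ := by rw [F.ctx.sq F.ha]; group
  have hb : Commute b (x * d * x) ↔ δ = mu F d + 1 := by
    rw [← F.ctx.commute_cj_left hx.1, hbx, F.ctx.commute_cj_left F.ha]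
    rw [show mu F d + 1 = mu F (a * d * a) from (mu_cj_a F hd).symm]
    have := comm_test F (conj_A F F.ha (Commute.refl a) hd) hx
    rw [fn_cj_a F hd] at this
    exact ⟨fun h => this.1 h.symm, fun h => (this.2 h).symm⟩
  have hc : Commute (sw a b) (x * d * x) ↔ δ = mu F d := by
    rw [← F.ctx.commute_cj_left hx.1, F.ctx.braid hx.1 (c_mem F).1 fun e => not_comm_cX F hx e.symm]
    exact ⟨fun h => (comm_test F hd hx).1 h.symm, fun h => ((comm_test F hd hx).2 h).symm⟩
  by_cases c1 : δ = mu F d + 1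
  · rw [mu_b F (hb.2 c1), c1]
    linear_combination -(mu F d + 1) * two_zero
  by_cases c2 : δ = mu F d
  · rw [(mu_c F hd' (hc.2 c2)).1, c2]
    linear_combination -(mu F d) * two_zero
  have hG : Gen D a b (x * d * x) := ⟨hd', mt hb.1 c1, mt hc.1 c2⟩
  obtain ⟨g0, g1, -⟩ := mu_gen_cases F hG
  have ht : mu F d + (1 + δ) = ω ∨ mu F d + (1 + δ) = ω + 1 := by
    rcases K_cases (mu F d + (1 + δ)) with h | h | h | h
    · exact absurd (by linear_combination h - (mu F d + 1) * two_zero) c1
    · exact absurd (by linear_combination h - (mu F d) * two_zero) c2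
    · exact Or.inl h
    · exact Or.inr h
  obtain ⟨⟨q, hq⟩, hxq, hval⟩ := exists_test F hx hd h1 ht
  have hm : mu F (x * d * x) = ω ∨ mu F (x * d * x) = ω + 1 :=
    ((K_cases _).resolve_left g0).resolve_left g1
  have hxe : Commute x (sw a b * q * sw a b) := by
    have h2 := fn_spec F (cxc_A F hq).1 x hx.1 hx.2.1
    rw [(cxc_A F hq).2, H_X F hx] at h2
    exact (h2.2 (by show 1 + hf F x q = 0; rw [hxq, add_self])).symm
  have key : Commute (x * d * x) (sw a b * q * sw a b) ↔ Commute d (sw a b * q * sw a b) := by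
    rw [F.ctx.commute_cj_left hx.1, F.ctx.cj_fix hx.1 hxe]
  rw [comm_test F hd' hq, comm_test F hd hq] at key
  have hw' : (fn F (x * d * x) : Xs D a b → K) ⟨q, hq⟩ =
      (fn F d : Xs D a b → K) ⟨q, hq⟩ + (1 + δ) := by
    rw [fn_conj F hx.1 hx.2.1 hd, H_X F hx, psi_X F hx, ← hδ]
    have hqx : hf F q x = 1 := by rw [hf_symm F hx hq, hxq, map_one]
    simp [wv, phi, hqx]
  rw [hw'] at key
  rcases sum_mem_sub F hm ht with h | h
  · exact eq_of_add_eq_zero h
  · exfalso
    rcases hval with v | v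
    · have := key.2 v
      rw [v] at this
      rw [← this, add_self] at h
      exact zero_ne_one h
    · have := key.1 (by rw [v]; linear_combination -h + (mu F d + 1 + δ) * two_zero)
      rw [v] at this
      exact one_ne_zero (left_eq_add.1 this.symm)

theorem equiv_X {x d : G} (hx : InX D a b x) (hd : InA D a d) :
    Psi F (x * d * x) = T F (Psi F x) (Psi F d) := by
  rw [Psi_out F (conj_A F hx.1 hx.2.1 hd).2, Psi_out F hd.2, mu_X F hx hd,
    fn_conj F hx.1 hx.2.1 hd, Psi_in F hx.2.1, T, H_psi_mid F x (mu F d), H_X F hx, psi_X F hx]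
  refine Prod.ext ?_ (Prod.ext ?_ ?_) <;> simp

/-- conjugation by a member realised by its transvection -/
def Equiv' (p : G) : Prop := ∀ q ∈ D, Sim F (T F (Psi F p) (Psi F q)) (Psi F (p * q * p))

theorem equiv_local {p : G} (hp : p ∈ D) (hap : Commute a p) : Equiv' F p := by
  intro q hq
  by_cases haq : Commute a q
  · rw [Psi_in F hap, Psi_in F haq, Psi_in F ((hap.mul_right haq).mul_right hap)]
    exact psi_equiv F hp hap hq haq
  by_cases hpa : p = a
  · subst hpa; rw [equiv_a F ⟨hq, haq⟩]; exact Sim.refl F _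
  by_cases hb : Commute b p
  · rw [equiv_R F ⟨hp, hap, hb⟩ ⟨hq, haq⟩]; exact Sim.refl F _
  · rw [equiv_X F ⟨hp, hap, hpa, hb⟩ ⟨hq, haq⟩]; exact Sim.refl F _

theorem equiv_swap : Equiv' F (sw a b) := by
  intro q hq
  rw [T_c]
  by_cases hqa : q = a
  · rw [hqa, c_a_c F, Psi_a, Psi_b]; exact Sim.refl F _
  by_cases haq : Commute a q
  · by_cases hb : Commute b q
    · rw [F.ctx.cj_fix (c_mem F).1 (cjc_R F ⟨hq, haq, hb⟩), Psi_in F haq]
      obtain ⟨h, -, e⟩ := psi_R F (⟨hq, haq, hb⟩ : InR D a b q)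
      rw [e]
      exact Sim.refl F _
    · have hX : InX D a b q := ⟨hq, haq, hqa, hb⟩
      rw [Psi_in F haq, psi_X F hX, Psi_out F (cxc_A F hX).1.2, (cxc_A F hX).2,
        mu_b F ((cjc_b F).2 haq)]
      exact Sim.refl F _
  have hA : InA D a q := ⟨hq, haq⟩
  rw [Psi_out F haq]
  rcases A_cases F hA with h | h | h
  · rcases A_comm_b F hA h with rfl | ⟨x, hx, rfl⟩
    · rw [c_b_c F, Psi_a, mu_b F h, fn_b F]; exact Sim.refl F _
    · rw [F.ctx.cj_cj (c_mem F).1, Psi_in F hx.2.1, psi_X F hx, (cxc_A F hx).2, mu_b F h]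
      exact Sim.refl F _
  · rw [F.ctx.cj_fix (c_mem F).1 h, Psi_out F haq, (mu_c F hA h).1]
    exact Sim.refl F _
  · obtain ⟨h0, -, e⟩ := mu_gen_cases F h
    have h' := Gen.cjc F h
    rw [Psi_out F h'.1.2, e, mu_gen F h' (ρ := mu F q) (by
      rw [F.ctx.cj_cj (c_mem F).1, e, smul_smul, mul_inv_cancel₀ h0, one_smul])]
    exact ⟨mu F q, h0, Prod.ext (by simp [h0]) (Prod.ext (by simp) (by simp [smul_smul, h0]))⟩

theorem iso_out {d : G} (hd : InA D a d) : H F (Psi F d) (Psi F d) = 0 := by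
  rw [Psi_out F hd.2, H_apply]
  simp only [map_one, one_mul, mul_one]
  rw [← mu_trace F hd]
  linear_combination (mu F d + σ (mu F d)) * two_zero

theorem Psi_iso {p : G} (hp : p ∈ D) : H F (Psi F p) (Psi F p) = 0 := by
  by_cases h : Commute a p
  · rw [Psi_in F h]; exact psi_iso F hp h
  · exact iso_out F ⟨hp, h⟩

theorem T_T {u : V F} (hu : H F u u = 0) (v : V F) : T F u (T F u v) = v := by
  simp only [T, map_add, map_smul, smul_eq_mul, hu, mul_zero, add_zero]
  rw [add_assoc, ← add_smul, add_self, zero_smul, add_zero]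

theorem T_conj {u : V F} (hu : H F u u = 0) (v w : V F) :
    T F (T F u v) w = T F u (T F v (T F u w)) := by
  conv_rhs => rw [show T F v (T F u w) = T F u w + H F v (T F u w) • v from rfl]
  rw [T_add, T_smul_right, T_T F hu, ← H_T']
  rfl

/-- every member commutes with another exactly when their points are orthogonal -/
theorem main_props : ∀ p ∈ D, Equiv' F p ∧
    ∀ q ∈ D, (Commute p q ↔ H F (Psi F p) (Psi F q) = 0) := by
  set X : Set G := {p | p ∈ D ∧ Equiv' F p ∧
    ∀ q ∈ D, (Commute p q ↔ H F (Psi F p) (Psi F q) = 0)} with hX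
  have step : ∀ g, g ∈ D → Equiv' F g → ∀ p ∈ X, g * p * g⁻¹ ∈ X := by
    rintro g hg hE p ⟨hp, hEp, hpc⟩
    rw [F.ctx.inv hg]
    have iso := Psi_iso F hg
    obtain ⟨c, hc, ec⟩ := hE p hp
    have hmem := F.ctx.cj_mem hg hp
    refine ⟨hmem, fun q hq => ?_, fun q hq => ?_⟩
    · -- the transvection of the image
      obtain ⟨c1, hc1, e1⟩ := hE q hq
      obtain ⟨c2, hc2, e2⟩ := hEp (g * q * g) (F.ctx.cj_mem hg hq)
      obtain ⟨c3, hc3, e3⟩ := hE (p * (g * q * g) * p) (F.ctx.cj_mem hp (F.ctx.cj_mem hg hq))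
      refine ⟨c1 * c2 * c3, mul_ne_zero (mul_ne_zero hc1 hc2) hc3, ?_⟩
      rw [← T_smul F hc (Psi F q), ← ec, T_conj F iso, e1, T_smul_right, e2, smul_smul,
        T_smul_right, e3, smul_smul]
      congr 2
      group
    · obtain ⟨c1, hc1, e1⟩ := hE q hq
      rw [F.ctx.commute_cj_left hg, hpc _ (F.ctx.cj_mem hg hq), ← H_T F iso, ec]
      have e1' : Psi F (g * q * g) = c1⁻¹ • T F (Psi F g) (Psi F q) := by
        rw [e1, smul_smul, inv_mul_cancel₀ hc1, one_smul]
      rw [e1', T_smul_right, T_T F iso]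
      simp only [LinearMap.map_smulₛₗ, LinearMap.smul_apply, RingHom.id_apply, smul_eq_mul,
        mul_eq_zero, map_eq_zero, or_iff_right hc, or_iff_right (inv_ne_zero hc1)]
  have ha : a ∈ X := by
    refine ⟨F.ha, equiv_local F F.ha (Commute.refl a), fun q hq => ?_⟩
    by_cases haq : Commute a q
    · simp [Psi_a, H_apply, Psi_in F haq, psi_mid, haq]
    · simp [Psi_a, H_apply, Psi_out F haq, haq]
  have hall := RankThree.invariant_eq F.ctx.grp F.ctx.prim F.ctx.wide F.ha (c_mem F).1 (c_mem F).2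
    (X := X) (fun p hp => hp.1) ha (fun y hy hay => step y hy (equiv_local F hy hay))
    (step _ (c_mem F).1 (equiv_swap F))
  exact fun p hp => ⟨(hall p hp).2.1, (hall p hp).2.2⟩

theorem Psi_inj {p q : G} (hp : p ∈ D) (hq : q ∈ D) (h : Sim F (Psi F p) (Psi F q)) : p = q :=
  F.ctx.eq_of_subset hp hq fun d hd hdp => by
    have h1 := ((main_props F p hp).2 d hd).1 hdp.symm
    rw [Sim_zero F h] at h1
    exact (((main_props F q hq).2 d hd).2 h1).symm

/-- every isotropic point comes from a member -/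
theorem Psi_surj {v : V F} (hv0 : v ≠ 0) (hv : H F v v = 0) :
    ∃ p ∈ D, Sim F v (Psi F p) := by
  obtain ⟨l, m, w⟩ := v
  by_cases hm : m = 0
  · subst hm
    have hw : HW F w w = 0 := by simpa [H_apply] using hv
    by_cases hw0 : w = 0
    · subst hw0
      have hl : l ≠ 0 := fun e => hv0 (by rw [e]; rfl)
      exact ⟨a, F.ha, l, hl, by rw [Psi_a]; simp⟩
    by_cases hl : l = 0
    · subst hl
      obtain ⟨⟨x, hx⟩, rfl⟩ := complete F hw0 hw
      have := sim_psi_R F (xR F hx) hx rfl
      exact ⟨_, (xR F hx).1, by rwa [Psi_in F (xR F hx).2.1]⟩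
    obtain ⟨⟨x, hx⟩, hxw⟩ := complete F (w := l⁻¹ • w) (by simp [hl, hw0])
      (by simp [LinearMap.map_smulₛₗ, hw])
    refine ⟨x, hx.1, l, hl, ?_⟩
    rw [Psi_in F hx.2.1, psi_X F hx, hxw]
    exact Prod.ext (by simp) (Prod.ext (by simp) (by simp [smul_smul, hl]))
  set u := m⁻¹ • w with hu
  set k := m⁻¹ * l with hk
  have hv' : H F (k, 1, u) (k, 1, u) = 0 := by
    have e : ((k, 1, u) : V F) = m⁻¹ • ((l, m, w) : V F) :=
      Prod.ext (by simp [hk]) (Prod.ext (by simp [hm]) (by simp [hu]))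
    rw [e]
    simp only [LinearMap.map_smulₛₗ, LinearMap.smul_apply, RingHom.id_apply, hv, smul_zero]
  obtain ⟨d, hd, hdu⟩ := fn_surj F u
  have hiso := iso_out F hd
  rw [Psi_out F hd.2, hdu, H_apply] at hiso
  rw [H_apply] at hv'
  have hsum : mu F d + k = 0 ∨ mu F d + k = 1 := by
    rw [← σ_add_eq_zero, map_add]
    simp only [map_one, one_mul, mul_one] at hiso hv'
    linear_combination hiso + hv' - HW F u u * two_zero
  rcases hsum with h | h
  · refine ⟨d, hd.1, m, hm, ?_⟩
    rw [Psi_out F hd.2, hdu, eq_of_add_eq_zero h]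
    exact Prod.ext (by simp [hk, hm]) (Prod.ext (by simp) (by simp [hu, hm, smul_smul]))
  · have hd' := conj_A F F.ha (Commute.refl a) hd
    refine ⟨a * d * a, hd'.1, m, hm, ?_⟩
    rw [Psi_out F hd'.2, fn_cj_a F hd, hdu, mu_cj_a F hd,
      show mu F d + 1 = k by linear_combination (mu F d) * two_zero - h]
    exact Prod.ext (by simp [hk, hm]) (Prod.ext (by simp) (by simp [hu, hm, smul_smul]))

end Cfsg.Agent.ThreeTransp.Polar.Unit
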