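import Cfsg.Agent.Lib.ThreeTransp.Polar.UnitOuter

/-!
Lines with five members: the remaining coordinate of an outer member.
-/

set_option autoImplicit false
set_option linter.unusedSectionVars false

namespace Cfsg.Agent.ThreeTransp.Polar.Unit

open Cfsg.Agent.ThreeTransp Cfsg.Agent.ThreeTransp.Polar

variable {G : Type*} [Group G] [Finite G] {D : Set G} {a b : G}

/-- the third member of the base pair -/
abbrev sw (a b : G) : G := a * b * a

variable (F : Frame D a b)
include F

theorem c_mem : InA D a (sw a b) := conj_A F F.ha (Commute.refl a) (b_mem F)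

theorem fn_c : fn F (sw a b) = 0 := (fn_cj_a F (b_mem F)).trans (fn_b F)

theorem a_c_a : a * sw a b * a = b := F.ctx.cj_cj F.ha b

theorem c_a_c : sw a b * a * sw a b = b := by
  rw [← F.ctx.braid F.ha (c_mem F).1 (c_mem F).2, a_c_a F]

theorem c_not_b : ¬ Commute b (sw a b) := fun h => F.hab <| by
  rw [sw, F.ctx.braid F.ha F.hb F.hab] at h
  have := (F.ctx.commute_cj_left F.hb (x := b) (y := b * a * b))
  rw [F.ctx.cj_fix F.hb (Commute.refl b), F.ctx.cj_cj F.hb] at this
  exact (this.1 h).symm

theorem c_b_c : sw a b * b * sw a b = a := by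
  have h := congrArg (fun t => sw a b * t * sw a b) (c_a_c F)
  simp only [F.ctx.cj_cj (c_mem F).1] at h
  exact h.symm

theorem cjc_a {u : G} : Commute a (sw a b * u * sw a b) ↔ Commute b u := by
  rw [← F.ctx.commute_cj (c_mem F).1 (x := b) (y := u), c_b_c F]

theorem cjc_b {u : G} : Commute b (sw a b * u * sw a b) ↔ Commute a u := by
  rw [← F.ctx.commute_cj (c_mem F).1 (x := a) (y := u), c_a_c F]

theorem cjc_R {r : G} (hr : InR D a b r) : Commute (sw a b) r :=
  (hr.2.1.symm.mul_right hr.2.2.symm |>.mul_right hr.2.1.symm).symm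

theorem cjc_c {u : G} : Commute (sw a b) (sw a b * u * sw a b) ↔ Commute (sw a b) u := by
  have h := F.ctx.commute_cj (c_mem F).1 (x := sw a b) (y := u)
  rwa [F.ctx.cj_fix (c_mem F).1 (Commute.refl _)] at h

theorem cja_b {u : G} : Commute b (a * u * a) ↔ Commute (sw a b) u := by
  rw [← F.ctx.commute_cj F.ha (x := sw a b) (y := u), a_c_a F]

theorem cja_c {u : G} : Commute (sw a b) (a * u * a) ↔ Commute b u := by
  rw [← F.ctx.commute_cj F.ha (x := b) (y := u)]

theorem not_comm_cX {x : G} (hx : InX D a b x) : ¬ Commute (sw a b) x := by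
  intro h
  have := (fn_spec F (c_mem F) x hx.1 hx.2.1).1 h
  rw [fn_c F, H_X F hx] at this
  simp at this

theorem cxc_A {x : G} (hx : InX D a b x) : InA D a (sw a b * x * sw a b) ∧
    fn F (sw a b * x * sw a b) = wv F ⟨x, hx⟩ := by
  rw [F.ctx.braid (c_mem F).1 hx.1 (not_comm_cX F hx)]
  refine ⟨conj_A F hx.1 hx.2.1 (c_mem F), ?_⟩
  rw [fn_conj F hx.1 hx.2.1 (c_mem F), fn_c F, H_X F hx, psi_X F hx]
  simp

/-- the outer members commuting with the second one -/
theorem A_comm_b {d : G} (hd : InA D a d) (h : Commute b d) :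
    d = b ∨ ∃ x, InX D a b x ∧ d = sw a b * x * sw a b := by
  have hc := (c_mem F).1
  by_cases he : sw a b * d * sw a b = a
  · left
    rw [← F.ctx.cj_cj hc d, he, c_a_c F]
  · exact Or.inr ⟨_, ⟨F.ctx.cj_mem hc hd.1, (cjc_a F).2 h, he, fun e => hd.2 ((cjc_b F).1 e)⟩,
      (F.ctx.cj_cj hc d).symm⟩

theorem fn_iso_of_b {d : G} (hd : InA D a d) (h : Commute b d) :
    HW F (fn F d) (fn F d) = 0 := by
  rcases A_comm_b F hd h with rfl | ⟨x, hx, rfl⟩
  · rw [fn_b F]; simp
  · rw [(cxc_A F hx).2, HW_wv, hf_self]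

/-- an outer member commuting with neither base member -/
def Gen (D : Set G) (a b d : G) : Prop :=
  InA D a d ∧ ¬ Commute b d ∧ ¬ Commute (sw a b) d

theorem Gen.cja {d : G} (h : Gen D a b d) : Gen D a b (a * d * a) :=
  ⟨conj_A F F.ha (Commute.refl a) h.1, fun e => h.2.2 ((cja_b F).1 e),
    fun e => h.2.1 ((cja_c F).1 e)⟩

theorem Gen.cjc {d : G} (h : Gen D a b d) : Gen D a b (sw a b * d * sw a b) :=
  ⟨⟨F.ctx.cj_mem (c_mem F).1 h.1.1, fun e => h.2.1 ((cjc_a F).1 e)⟩,
    fun e => h.1.2 ((cjc_b F).1 e), fun e => h.2.2 ((cjc_c F).1 e)⟩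

theorem lev_eq {d d' : G} (hd : InA D a d) (hd' : InA D a d') (h : fn F d' = fn F d) :
    d' = d ∨ d' = a * d * a := by
  have hne : d ≠ a * d * a := fun e => hd.2 <| by
    show a * d = d * a
    calc a * d = a * (a * d * a) := by rw [← e]
      _ = d * a := by rw [← mul_assoc, ← mul_assoc, F.ctx.sq F.ha, one_mul]
  have hset : ({d, a * d * a} : Set G) = lev F (fn F d) := by
    refine Set.eq_of_subset_of_ncard_le ?_ ?_ (Set.toFinite _)
    · rintro u (rfl | rfl)
      exacts [⟨hd, rfl⟩, ⟨conj_A F F.ha (Commute.refl a) hd, fn_cj_a F hd⟩]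
    · rw [lev_pair, Set.ncard_pair hne]
  have : d' ∈ lev F (fn F d) := ⟨hd', h⟩
  rwa [← hset] at this

theorem gen_aniso {d : G} (h : Gen D a b d) : HW F (fn F d) (fn F d) = 1 := by
  have h0 : HW F (fn F d) (fn F d) ≠ 0 := by
    intro h0
    have key : ∀ d', InA D a d' → fn F d' = fn F d → Commute b d' → False := fun d' hd' he hb => by
      rcases lev_eq F hd' h.1 he.symm with e | e
      · exact h.2.1 (e ▸ hb)
      · exact h.2.2 (by rw [e]; exact (cja_c F).2 hb)
    by_cases hw : fn F d = 0
    · exact key b (b_mem F) (by rw [hw, fn_b F]) (Commute.refl b)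
    · obtain ⟨⟨x, hx⟩, hxw⟩ := complete F hw h0
      exact key _ (cxc_A F hx).1 (by rw [(cxc_A F hx).2, hxw]) ((cjc_b F).2 hx.2.1)
  have hs : σ (HW F (fn F d) (fn F d)) = HW F (fn F d) (fn F d) := hw_symm F _ _
  rcases K_cases (HW F (fn F d) (fn F d)) with e | e | e | e
  · exact absurd e h0
  · exact e
  · rw [e, σ_om] at hs; exact absurd hs.symm om_ne_add_one
  · rw [e, σ_om_one] at hs; exact absurd hs om_ne_add_one

theorem normal_fib (w : ↥(W F)) {x : G} (hx : InX D a b x)
    (h : (w : Xs D a b → K) ⟨x, hx⟩ ≠ 0) :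
    ∃ (y : G) (hy : InX D a b y) (k : K), k ≠ 0 ∧ wv F ⟨y, hy⟩ = k • wv F ⟨x, hx⟩ ∧
      (w : Xs D a b → K) ⟨y, hy⟩ = 1 := by
  rcases K_cases ((w : Xs D a b → K) ⟨x, hx⟩) with e | e | e | e
  · exact absurd e h
  · exact ⟨x, hx, 1, one_ne_zero, (one_smul K _).symm, e⟩
  · exact ⟨J F x, J_mem F hx, ω, om_ne_zero, Subtype.ext (phi_J F hx),
      by rw [w_J F w hx, e, mul_comm, om_cube]⟩
  · exact ⟨J F (J F x), J_mem F (J_mem F hx), ω + 1, om_add_one_ne_zero,
      Subtype.ext (by simp [wv, phi_J F (J_mem F hx), phi_J F hx, smul_smul, om_sq]),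
      by rw [w_J F w (J_mem F hx), w_J F w hx, e]
         linear_combination (ω + 2) * om_sq + (ω * ω + 3 * ω + 1) * two_zero⟩

theorem gen_rho {d : G} (h : Gen D a b d) :
    ∃ ρ : K, ρ ≠ 0 ∧ ρ ≠ 1 ∧ fn F (sw a b * d * sw a b) = ρ • fn F d := by
  have hd' := (Gen.cjc F h).1
  set c := sw a b with hc
  set w := fn F d with hwdef
  set w' := fn F (c * d * c) with hw'def
  have ev : ∀ (v : ↥(W F)) (q : Xs D a b), HW F (wv F q) v = (v : Xs D a b → K) q :=
    fun v q => hw_wv F q v
  have zero : ∀ q : Xs D a b, (w' : Xs D a b → K) q = 0 ↔ (w : Xs D a b → K) q = 0 := by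
    rintro ⟨x, hx⟩
    have hr := xR F hx
    obtain ⟨p, p', e1⟩ := H_R F hr w
    obtain ⟨_, -, e2⟩ := H_R F hr w'
    have s1 := fn_spec F h.1 _ hr.1 hr.2.1
    have s2 := fn_spec F hd' _ hr.1 hr.2.1
    rw [← hwdef, e1, w_fib F w hx p p'] at s1
    rw [← hw'def, e2, w_fib F w' hx p p', F.ctx.commute_cj_left (c_mem F).1,
      F.ctx.cj_fix (c_mem F).1 (cjc_R F hr)] at s2
    rw [← s2, s1]
  -- a value one is never repeated
  have ne1 : ∀ q : Xs D a b, (w : Xs D a b → K) q = 1 → (w' : Xs D a b → K) q ≠ 1 := by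
    rintro ⟨x, hx⟩ e e'
    have hdx : Commute d x := (fn_spec F h.1 x hx.1 hx.2.1).2 (by
      rw [H_X F hx, ← hwdef, e, add_self])
    have hdx' : Commute (c * d * c) x := (fn_spec F hd' x hx.1 hx.2.1).2 (by
      rw [H_X F hx, ← hw'def, e', add_self])
    rw [F.ctx.commute_cj_left (c_mem F).1] at hdx'
    have hb := F.ctx.braid (c_mem F).1 hx.1 (not_comm_cX F hx)
    have key := (hdx.mul_right hdx').mul_right hdx
    rw [hb, F.ctx.cj_cj hx.1] at key
    exact h.2.2 key.symm
  -- two normalised neighbours have the same value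
  have same0 : ∀ q q' : Xs D a b, (w : Xs D a b → K) q = 1 → (w : Xs D a b → K) q' = 1 →
      HW F (wv F q) (wv F q') + HW F (wv F q') (wv F q) = 0 →
      (w' : Xs D a b → K) q = (w' : Xs D a b → K) q' := by
    intro q q' e e' hi
    by_cases hv : wv F q + wv F q' = 0
    · have : wv F q = wv F q' := by
        have h2 := congrArg (fun t => t + wv F q') hv
        simpa [add_assoc, show wv F q' + wv F q' = 0 by
          rw [← two_smul K, two_zero, zero_smul]] using h2
      rw [← ev w' q, ← ev w' q', this]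
    · obtain ⟨z, hz⟩ := complete F hv (by
        simp only [map_add, LinearMap.add_apply, HW_wv, hf_self]
        rw [HW_wv, HW_wv] at hi
        linear_combination hi)
      have hz0 : (w : Xs D a b → K) z = 0 := by
        rw [← ev w z, hz, map_add, LinearMap.add_apply, ev, ev, e, e', add_self]
      have := (zero z).2 hz0
      rw [← ev w' z, hz, map_add, LinearMap.add_apply, ev, ev] at this
      exact eq_of_add_eq_zero this
  have same : ∀ q q' : Xs D a b, (w : Xs D a b → K) q = 1 → (w : Xs D a b → K) q' = 1 →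
      (w' : Xs D a b → K) q = (w' : Xs D a b → K) q' := by
    intro q q' e e'
    by_contra hne
    set η := HW F (wv F q) (wv F q') with hη
    have hη' : HW F (wv F q') (wv F q) = σ η := (hw_symm F (wv F q) (wv F q')).symm
    have h01 : η ≠ 0 ∧ η ≠ 1 := by
      constructor <;> intro hh <;> refine hne (same0 q q' e e' ?_) <;>
        rw [hη', ← hη, hh] <;> simp [add_self]
    have hη1 : η * η = η + 1 := by
      rcases K_cases η with h | h | h | h
      · exact absurd h h01.1
      · exact absurd h h01.2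
      · rw [h, om_sq]
      · rw [h]; linear_combination om_sq + ω * two_zero
    have hσ : σ η = η + 1 := by rw [σ_apply, hη1]
    set v := (η + 1) • wv F q + η • wv F q' with hv
    have hv1 : HW F v w = 1 := by
      rw [hv, map_add, LinearMap.add_apply, LinearMap.map_smulₛₗ, LinearMap.map_smulₛₗ,
        LinearMap.smul_apply, LinearMap.smul_apply, ev, ev, e, e', smul_eq_mul, smul_eq_mul,
        map_add, map_one, hσ]
      linear_combination (η + 1) * two_zero
    have hviso : HW F v v = 0 := by
      rw [hv]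
      simp only [map_add, LinearMap.add_apply, LinearMap.map_smulₛₗ, LinearMap.smul_apply,
        RingHom.id_apply, smul_eq_mul, HW_wv, hf_self, map_one, hσ]
      rw [HW_wv] at hη hη'
      rw [← hη, hη']
      simp only [hσ]
      linear_combination (2 * η + 7) * hη1 + (6 * η + 4) * two_zero
    obtain ⟨z, hz⟩ := complete F (fun h => by rw [h] at hv1; simp at hv1) hviso
    have hz1 : (w : Xs D a b → K) z = 1 := by rw [← ev w z, hz, hv1]
    have hz' : (w' : Xs D a b → K) z =
        η * (w' : Xs D a b → K) q + (η + 1) * (w' : Xs D a b → K) q' := by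
      rw [← ev w' z, hz, hv, map_add, LinearMap.add_apply, LinearMap.map_smulₛₗ,
        LinearMap.map_smulₛₗ, LinearMap.smul_apply, LinearMap.smul_apply, ev, ev, smul_eq_mul,
        smul_eq_mul, map_add, map_one, hσ]
      linear_combination ((w' : Xs D a b → K) q) * two_zero
    have n1 := ne1 q e
    have n2 := ne1 q' e'
    have n3 := ne1 z hz1
    have m1 : (w' : Xs D a b → K) q ≠ 0 := fun h => by rw [(zero q).1 h] at e; exact zero_ne_one e
    have m2 : (w' : Xs D a b → K) q' ≠ 0 := fun h => by
      rw [(zero q').1 h] at e'; exact zero_ne_one e'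
    have m3 : (w' : Xs D a b → K) z ≠ 0 := fun h => by
      rw [(zero z).1 h] at hz1; exact zero_ne_one hz1
    rw [hz'] at n3 m3
    have mid : ∀ u : K, u ≠ 0 → u ≠ 1 → u = ω ∨ u = ω + 1 := fun u h0 h1 =>
      ((K_cases u).resolve_left h0).resolve_left h1
    have hvu : (w' : Xs D a b → K) q' = (w' : Xs D a b → K) q + 1 := by
      rcases mid _ m1 n1 with g | g <;> rcases mid _ m2 n2 with k | k
      · exact absurd (g.trans k.symm) hne
      · rw [g, k]
      · rw [g, k]; linear_combination -two_zero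
      · exact absurd (g.trans k.symm) hne
    have hsum : η * (w' : Xs D a b → K) q + (η + 1) * (w' : Xs D a b → K) q' =
        (w' : Xs D a b → K) q + η + 1 := by
      rw [hvu]; linear_combination (η * (w' : Xs D a b → K) q) * two_zero
    rw [hsum] at n3 m3
    rcases mid _ h01.1 h01.2 with h | h <;> rcases mid _ m1 n1 with g | g <;> rw [h, g] at n3 m3
    · exact n3 (by linear_combination ω * two_zero)
    · exact m3 (by linear_combination (ω + 1) * two_zero)
    · exact m3 (by linear_combination (ω + 1) * two_zero)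
    · exact n3 (by linear_combination (ω + 1) * two_zero)
  have hw0 : w ≠ 0 := fun e => by
    have := gen_aniso F h
    rw [← hwdef, e] at this
    simp at this
  obtain ⟨q₀, hq₀⟩ : ∃ q, (w : Xs D a b → K) q ≠ 0 := by
    by_contra! hh
    exact hw0 (Subtype.ext (funext hh))
  obtain ⟨y, hy, -, -, -, hy1⟩ := normal_fib F w q₀.2 hq₀
  refine ⟨(w' : Xs D a b → K) ⟨y, hy⟩, fun e => ?_, ne1 _ hy1, Subtype.ext (funext fun q => ?_)⟩
  · rw [(zero _).1 e] at hy1
    exact zero_ne_one hy1
  · show (w' : Xs D a b → K) q = (w' : Xs D a b → K) ⟨y, hy⟩ * (w : Xs D a b → K) q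
    by_cases hq : (w : Xs D a b → K) q = 0
    · rw [hq, (zero q).2 hq, mul_zero]
    · obtain ⟨p, hp, k, hk, e, hp1⟩ := normal_fib F w q.2 hq
      have hwq : ∀ v : ↥(W F), (v : Xs D a b → K) ⟨p, hp⟩ = σ k * (v : Xs D a b → K) q := fun v => by
        rw [← ev v ⟨p, hp⟩, e, LinearMap.map_smulₛₗ, LinearMap.smul_apply, ev, smul_eq_mul]
      have hs := same _ _ hy1 hp1
      rw [hs, hwq w', mul_assoc, mul_comm ((w' : Xs D a b → K) q), ← mul_assoc, ← hwq w, hp1,
        one_mul]

open Classical in
/-- the coordinate along the first member -/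
noncomputable def mu (d : G) : K :=
  if Commute b d then 0 else if Commute (sw a b) d then 1
  else (Classical.epsilon fun ρ : K => fn F (sw a b * d * sw a b) = ρ • fn F d)⁻¹

theorem mu_b {d : G} (h : Commute b d) : mu F d = 0 := by
  classical
  rw [mu, if_pos h]

theorem mu_c {d : G} (hd : InA D a d) (h : Commute (sw a b) d) : mu F d = 1 ∧ ¬ Commute b d := by
  classical
  have hn : ¬ Commute b d := by
    intro hb
    rcases A_comm_b F hd hb with rfl | ⟨x, hx, rfl⟩
    · exact c_not_b F h.symm
    · exact not_comm_cX F hx ((cjc_c F).1 h)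
  exact ⟨by rw [mu, if_neg hn, if_pos h], hn⟩

theorem mu_gen {d : G} (h : Gen D a b d) {ρ : K}
    (hρ : fn F (sw a b * d * sw a b) = ρ • fn F d) : mu F d = ρ⁻¹ := by
  classical
  have hw0 : fn F d ≠ 0 := fun e => by
    have := gen_aniso F h
    rw [e] at this
    simp at this
  have hs := Classical.epsilon_spec (p := fun ρ : K => fn F (sw a b * d * sw a b) = ρ • fn F d)
    ⟨ρ, hρ⟩
  rw [mu, if_neg h.2.1, if_neg h.2.2, smul_left_injective K hw0 (hs.symm.trans hρ)]

theorem mu_gen_cases {d : G} (h : Gen D a b d) :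
    mu F d ≠ 0 ∧ mu F d ≠ 1 ∧ fn F (sw a b * d * sw a b) = (mu F d)⁻¹ • fn F d := by
  obtain ⟨ρ, h0, h1, e⟩ := gen_rho F h
  rw [mu_gen F h e, inv_inv]
  exact ⟨inv_ne_zero h0, fun e' => h1 (inv_eq_one.1 e'), e⟩

theorem A_cases {d : G} (hd : InA D a d) :
    Commute b d ∨ Commute (sw a b) d ∨ Gen D a b d := by
  by_cases h1 : Commute b d
  · exact Or.inl h1
  by_cases h2 : Commute (sw a b) d
  exacts [Or.inr (Or.inl h2), Or.inr (Or.inr ⟨hd, h1, h2⟩)]

theorem mu_cj_a {d : G} (hd : InA D a d) : mu F (a * d * a) = mu F d + 1 := by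
  rcases A_cases F hd with h | h | h
  · rw [mu_b F h, zero_add,
      (mu_c F (conj_A F F.ha (Commute.refl a) hd) ((cja_c F).2 h)).1]
  · rw [(mu_c F hd h).1, mu_b F ((cja_b F).2 h), add_self]
  · obtain ⟨h0, h1, e⟩ := mu_gen_cases F h
    obtain ⟨g0, g1, g⟩ := mu_gen_cases F (Gen.cja F h)
    have hne : mu F (a * d * a) ≠ mu F d := by
      intro eq
      rw [eq, fn_cj_a F hd, ← e] at g
      have hc := (c_mem F).1
      rcases lev_eq F (Gen.cjc F h).1 (Gen.cjc F (Gen.cja F h)).1 g with k | k
      · refine hd.2 ?_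
        have := F.ctx.cj_inj k
        show a * d = d * a
        calc a * d = a * (a * d * a) := by rw [this]
          _ = d * a := by rw [← mul_assoc, ← mul_assoc, F.ctx.sq F.ha, one_mul]
      · have k2 := congrArg (fun t => a * t * a) k
        simp only [F.ctx.cj_cj F.ha] at k2
        have hd2 : b * (a * d * a) * b = d := by
          apply F.ctx.cj_inj (a := sw a b)
          rw [← k2]
          calc sw a b * (b * (a * d * a) * b) * sw a b
              = (sw a b * b) * (a * d * a) * (b * sw a b) := by group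
            _ = (a * sw a b) * (a * d * a) * (sw a b * a) := by
              have e1 : sw a b * b = a * sw a b := by
                calc sw a b * b = sw a b * b * (sw a b * sw a b) := by rw [F.ctx.sq hc, mul_one]
                  _ = (sw a b * b * sw a b) * sw a b := by group
                  _ = _ := by rw [c_b_c F]
              have e2 : b * sw a b = sw a b * a := by
                calc b * sw a b = (sw a b * sw a b) * b * sw a b := by rw [F.ctx.sq hc, one_mul]
                  _ = sw a b * (sw a b * b * sw a b) := by group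
                  _ = _ := by rw [c_b_c F]
              rw [e1, e2]
            _ = _ := by group
        have e3 : sw a b * d * sw a b = a * d * a := by
          conv_rhs => rw [← hd2]
          simp only [sw]; group
        rw [e3, fn_cj_a F hd] at e
        have hw0 : fn F d ≠ 0 := fun z => by
          have := gen_aniso F h
          rw [z] at this
          simp at this
        have := smul_left_injective K hw0 ((one_smul K (fn F d)).trans e)
        exact h1 (inv_eq_one.1 this.symm)
    rcases K_cases (mu F d) with k | k | k | k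
    · exact absurd k h0
    · exact absurd k h1
    all_goals
      rcases K_cases (mu F (a * d * a)) with l | l | l | l
      · exact absurd l g0
      · exact absurd l g1
      all_goals
        first
          | exact absurd (l.trans k.symm) hne
          | (rw [k, l]; linear_combination -two_zero)
          | rw [k, l]

/-- the test against a member commuting with the second one -/
theorem comm_test {d q : G} (hd : InA D a d) (hq : InX D a b q) :
    Commute d (sw a b * q * sw a b) ↔ (fn F d : Xs D a b → K) ⟨q, hq⟩ = mu F d := by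
  have hc := (c_mem F).1
  rw [← F.ctx.commute_cj_left hc]
  have key : ∀ e, InA D a e → (Commute e q ↔ (fn F e : Xs D a b → K) ⟨q, hq⟩ = 1) := fun e he => by
    rw [fn_spec F he q hq.1 hq.2.1, H_X F hq]
    exact ⟨fun h => (eq_of_add_eq_zero h).symm, fun h => by rw [h, add_self]⟩
  rcases A_cases F hd with h | h | h
  · rcases A_comm_b F hd h with rfl | ⟨x, hx, rfl⟩
    · rw [c_b_c F, fn_b F, mu_b F (Commute.refl _)]
      exact iff_of_true hq.2.1 rfl
    · rw [F.ctx.cj_cj hc, (cxc_A F hx).2, mu_b F h]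
      show _ ↔ hf F q x = 0
      rw [hf_zero]
      exact ⟨Commute.symm, Commute.symm⟩
  · rw [F.ctx.cj_fix hc h, (mu_c F hd h).1]
    exact key d hd
  · obtain ⟨h0, -, e⟩ := mu_gen_cases F h
    rw [key _ (Gen.cjc F h).1, e]
    show (mu F d)⁻¹ * _ = 1 ↔ _
    rw [inv_mul_eq_one₀ h0, eq_comm]

end Cfsg.Agent.ThreeTransp.Polar.Unit
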