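import Cfsg.Agent.Lib.ThreeTransp.Polar.UnitPairs

/-!
Lines with five members: a cyclic order on every fibre respected by the pairing.
-/

set_option autoImplicit false
set_option linter.unusedSectionVars false

namespace Cfsg.Agent.ThreeTransp.Polar.Unit

open Cfsg.Agent.ThreeTransp Cfsg.Agent.ThreeTransp.Polar

variable {G : Type*} [Group G] [Finite G] {D : Set G} {a b : G}

/-- a fibre -/
def fib (D : Set G) (a b r : G) : Set G := {x | InX D a b x ∧ rep D a b x = r}

/-- a fixed-point-free permutation of a fibre -/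
def Cyc (D : Set G) (a b r : G) (j : G → G) : Prop :=
  Set.MapsTo j (fib D a b r) (fib D a b r) ∧ Set.InjOn j (fib D a b r) ∧
    ∀ x ∈ fib D a b r, j x ≠ x

/-- the pairing respects two permutations -/
def Tr (D : Set G) (a b r s : G) (j k : G → G) : Prop :=
  ∀ x ∈ fib D a b r, ∀ y ∈ fib D a b s, Pi D a b x y → Pi D a b (j x) (k y)

variable (F : Frame D a b)
include F

theorem fib_card {r : G} (hr : InR D a b r) : (fib D a b r).ncard = 3 := by
  have e : fib D a b r = line D a r \ {a, r} := by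
    ext x
    simp only [fib, Set.mem_setOf_eq, Set.mem_diff, Set.mem_insert_iff, Set.mem_singleton_iff,
      not_or]
    constructor
    · rintro ⟨hx, rfl⟩
      exact ⟨x_mem_line F hx, hx.2.2.1, fun e => hx.2.2.2 (e ▸ (xR F hx).2.2)⟩
    · rintro ⟨hx, hxa, hxr⟩
      have hrep := rep_of_mem F hr hx hxa
      refine ⟨⟨hx.1, line_commute_left F.ha hr.2.1 hx, hxa, fun h => hxr ?_⟩, hrep⟩
      rw [← hrep]
      exact eq_rep F hx.1 (line_commute_left F.ha hr.2.1 hx) hxa (mem_line_right hx.1) h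
  rw [e, Set.ncard_diff (by
    rintro u (rfl | rfl)
    exacts [mem_line_left F.ha, mem_line_right hr.1]), F.five a F.ha r hr.1 (inR_ne F hr).symm
    hr.2.1, Set.ncard_pair (inR_ne F hr).symm]

omit [Finite G] F in
set_option synthInstance.maxSize 4096 in
/-- fixed-point-free permutations of three letters commute -/
theorem fin_three : ∀ f g : Fin 3 → Fin 3, (∀ i j, f i = f j → i = j) →
    (∀ i j, g i = g j → i = j) → (∀ i, f i ≠ i) → (∀ i, g i ≠ i) → ∀ i, f (g i) = g (f i) := by
  decide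

theorem cyc_commute {r : G} (hr : InR D a b r) {f g : G → G} (hf : Cyc D a b r f)
    (hg : Cyc D a b r g) {x : G} (hx : x ∈ fib D a b r) : f (g x) = g (f x) := by
  classical
  have := Fintype.ofFinite G
  have hc : Fintype.card ↥(fib D a b r) = 3 := by
    rw [← Nat.card_eq_fintype_card, Nat.card_coe_set_eq, fib_card F hr]
  let e := Fintype.equivFinOfCardEq hc
  let F' : (f : G → G) → Cyc D a b r f → Fin 3 → Fin 3 := fun f hf i =>
    e ⟨f (e.symm i), hf.1 (e.symm i).2⟩
  have inj : ∀ f hf, Function.Injective (F' f hf) := fun f hf i j h =>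
    e.symm.injective (Subtype.ext (hf.2.1 (e.symm i).2 (e.symm j).2
      (congrArg Subtype.val (e.injective h))))
  have fpf : ∀ f hf i, F' f hf i ≠ i := fun f hf i h => hf.2.2 _ (e.symm i).2 (by
    have := congrArg (fun t => (e.symm t : G)) h
    simpa [F'] using this)
  have h := fin_three _ _ (inj f hf) (inj g hg) (fpf f hf) (fpf g hg) (e ⟨x, hx⟩)
  have h' := congrArg (fun t => (e.symm t : G)) h
  simpa [F'] using h'

/-- the pairing as a map -/
theorem pr_spec {r s x : G} (hs : InR D a b s) (hrs : ¬ Commute r s) (hx : x ∈ fib D a b r) :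
    partner D a b x s ∈ fib D a b s ∧ Pi D a b x (partner D a b x s) := by
  have h := partner_spec F hx.1 hs (by rwa [hx.2])
  exact ⟨⟨h.1, h.2.1⟩, h.2.2⟩

theorem pi_partner {r s x y : G} (hy : y ∈ fib D a b s) (_hx : x ∈ fib D a b r)
    (h : Pi D a b x y) : y = partner D a b x s := by
  rw [eq_partner F h, hy.2]

theorem pr_back {r s x : G} (hr : InR D a b r) (hs : InR D a b s) (hrs : ¬ Commute r s)
    (hx : x ∈ fib D a b r) : partner D a b (partner D a b x s) r = x := by
  obtain ⟨hy, hp⟩ := pr_spec F hs hrs hx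
  exact (pi_partner F hx hy (pi_symm F hp)).symm

theorem Tr.symm {r s : G} {j k : G → G} (h : Tr D a b r s j k) : Tr D a b s r k j :=
  fun y hy x hx hp => pi_symm F (h x hx y hy (pi_symm F hp))

/-- transport of a permutation -/
noncomputable def transport (D : Set G) (a b r s : G) (j : G → G) : G → G :=
  fun y => partner D a b (j (partner D a b y r)) s

theorem transport_spec {r s : G} (hr : InR D a b r) (hs : InR D a b s) (hrs : ¬ Commute r s)
    {j : G → G} (hj : Cyc D a b r j) :
    Cyc D a b s (transport D a b r s j) ∧ Tr D a b r s j (transport D a b r s j) := by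
  have hsr : ¬ Commute s r := fun h => hrs h.symm
  have key : ∀ y ∈ fib D a b s, partner D a b y r ∈ fib D a b r := fun y hy =>
    (pr_spec F hr hsr hy).1
  refine ⟨⟨fun y hy => (pr_spec F hs hrs (hj.1 (key y hy))).1, fun y hy z hz h => ?_,
    fun y hy h => ?_⟩, fun x hx y hy hp => ?_⟩
  · have h2 := congrArg (fun t => partner D a b t r) h
    simp only [transport] at h2
    rw [pr_back F hr hs hrs (hj.1 (key y hy)), pr_back F hr hs hrs (hj.1 (key z hz))] at h2
    have h3 := congrArg (fun t => partner D a b t s) (hj.2.1 (key y hy) (key z hz) h2)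
    simp only [pr_back F hs hr hsr hy, pr_back F hs hr hsr hz] at h3
    exact h3
  · refine hj.2.2 _ (key y hy) ?_
    have h2 := congrArg (fun t => partner D a b t r) h
    simp only [transport] at h2
    rwa [pr_back F hr hs hrs (hj.1 (key y hy))] at h2
  · rw [transport, ← pi_partner F hx hy (pi_symm F hp)]
    exact (pr_spec F hs hrs (hj.1 hx)).2

theorem Tr.eq {r s : G} (hr : InR D a b r) (hs : InR D a b s) (hrs : ¬ Commute r s)
    {j k : G → G} (hj : Cyc D a b r j) (hk : Cyc D a b s k) (h : Tr D a b r s j k) :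
    ∀ y ∈ fib D a b s, k y = transport D a b r s j y := by
  intro y hy
  have hx := pr_spec F hr (fun h => hrs h.symm) hy
  exact pi_partner F (hk.1 hy) (hj.1 hx.1) (h _ hx.1 y hy (pi_symm F hx.2))

/-- transports compose around a triangle -/
theorem Tr.trans {r₁ r₂ r₃ : G} (h₁ : InR D a b r₁) (h₂ : InR D a b r₂) (h₃ : InR D a b r₃)
    (n12 : ¬ Commute r₁ r₂) (n23 : ¬ Commute r₂ r₃) (n13 : ¬ Commute r₁ r₃) {j k l : G → G}
    (hj : Cyc D a b r₁ j) (hk : Cyc D a b r₂ k) (hl : Cyc D a b r₃ l) (hjk : Tr D a b r₁ r₂ j k)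
    (hkl : Tr D a b r₂ r₃ k l) : Tr D a b r₁ r₃ j l := by
  intro x hx z hz hp
  obtain ⟨hy, hpy⟩ := pr_spec F h₂ n12 hx
  set y := partner D a b x r₂
  obtain ⟨hz', hpz⟩ := pr_spec F h₃ n23 hy
  set z' := partner D a b y r₃
  have hjy := hjk x hx y hy hpy
  have hkz := hkl y hy z' hz' hpz
  by_cases hc : Commute r₃ (r₁ * r₂ * r₁)
  · have hq := triangle_comm F hpy hpz (by rw [hx.2, hz'.2]; exact n13)
      (by rw [hx.2, hy.2, hz'.2]; exact hc)
    have : z = z' := by rw [pi_partner F hz hx hp, pi_partner F hz' hx hq]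
    subst this
    exact triangle_comm F hjy hkz (by rw [(hj.1 hx).2, (hl.1 hz).2]; exact n13)
      (by rw [(hj.1 hx).2, (hk.1 hy).2, (hl.1 hz).2]; exact hc)
  · -- the composite is fixed-point-free
    let f : G → G := fun u => partner D a b (partner D a b (partner D a b u r₂) r₁) r₃
    have n32 : ¬ Commute r₃ r₂ := fun h => n23 h.symm
    have n21 : ¬ Commute r₂ r₁ := fun h => n12 h.symm
    have s1 : ∀ u ∈ fib D a b r₃, partner D a b u r₂ ∈ fib D a b r₂ := fun u hu =>
      (pr_spec F h₂ n32 hu).1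
    have s2 : ∀ u ∈ fib D a b r₃, partner D a b (partner D a b u r₂) r₁ ∈ fib D a b r₁ :=
      fun u hu => (pr_spec F h₁ n21 (s1 u hu)).1
    have hf : Cyc D a b r₃ f := by
      refine ⟨fun u hu => (pr_spec F h₃ n13 (s2 u hu)).1, fun u hu v hv h => ?_, fun u hu h => ?_⟩
      · have g1 := congrArg (fun t => partner D a b t r₁) h
        simp only [f, pr_back F h₁ h₃ n13 (s2 u hu), pr_back F h₁ h₃ n13 (s2 v hv)] at g1
        have g2 := congrArg (fun t => partner D a b t r₂) g1
        simp only [pr_back F h₂ h₁ n21 (s1 u hu), pr_back F h₂ h₁ n21 (s1 v hv)] at g2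
        have g3 := congrArg (fun t => partner D a b t r₃) g2
        simp only [pr_back F h₃ h₂ n32 hu, pr_back F h₃ h₂ n32 hv] at g3
        exact g3
      · have p1 := (pr_spec F h₂ n32 hu).2
        have p2 := (pr_spec F h₁ n21 (s1 u hu)).2
        have p3 := (pr_spec F h₃ n13 (s2 u hu)).2
        simp only [f] at h
        rw [h] at p3
        exact triangle_false F (pi_symm F p2) (pi_symm F p1) p3
          (by rw [(s2 u hu).2, (s1 u hu).2, hu.2]; exact hc)
    have fz : f z' = z := by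
      show partner D a b (partner D a b (partner D a b z' r₂) r₁) r₃ = z
      rw [← pi_partner F hy hz' (pi_symm F hpz), ← pi_partner F hx hy (pi_symm F hpy),
        ← pi_partner F hz hx hp]
    have fl : f (l z') = partner D a b (j x) r₃ := by
      show partner D a b (partner D a b (partner D a b (l z') r₂) r₁) r₃ = _
      rw [← pi_partner F (hk.1 hy) (hl.1 hz') (pi_symm F hkz),
        ← pi_partner F (hj.1 hx) (hk.1 hy) (pi_symm F hjy)]
    rw [← fz, cyc_commute F h₃ hl hf hz', fl]
    exact (pr_spec F h₃ n13 (hj.1 hx)).2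

theorem exists_far {r : G} (hr : InR D a b r) : ∃ t, InR D a b t ∧ ¬ Commute r t := by
  obtain ⟨d, hd, hda, hdr⟩ : ∃ d ∈ D, Commute d a ∧ ¬ Commute d r := by
    by_contra! hcon
    exact inR_ne F hr (F.ctx.eq_of_subset F.ha hr.1 hcon).symm
  have hda' : d ≠ a := fun e => hdr (e ▸ hr.2.1)
  refine ⟨rep D a b d, rep_inR F hd hda.symm hda', fun h => hdr ?_⟩
  exact ((tw F hr.1 hr.2.1.symm hd hda.symm hda' (rep_spec F hd hda.symm hda').1
    (inR_ne F (rep_inR F hd hda.symm hda'))).1 h).symm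

/-- two members have a common non-neighbour -/
theorem exists_far_two {r s : G} (hr : InR D a b r) (hs : InR D a b s) :
    ∃ t, InR D a b t ∧ ¬ Commute r t ∧ ¬ Commute s t := by
  obtain ⟨t, ht, hrt⟩ := exists_far F hr
  by_cases hst : Commute s t
  swap
  · exact ⟨t, ht, hrt, hst⟩
  obtain ⟨t', ht', hst'⟩ := exists_far F hs
  by_cases hrt' : Commute r t'
  swap
  · exact ⟨t', ht', hrt', hst'⟩
  have shift : ∀ t', InR D a b t' → Commute r t' → ¬ Commute s t' → ¬ Commute t t' →
      ∃ t, InR D a b t ∧ ¬ Commute r t ∧ ¬ Commute s t := fun t' ht' h1 h2 htt =>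
    ⟨t * t' * t, inR_third F ht ht', fun h => hrt (by
      rw [F.ctx.braid ht.1 ht'.1 htt, ← F.ctx.commute_cj_left ht'.1,
        F.ctx.cj_fix ht'.1 h1.symm] at h
      exact h), fun h => h2 (by
      rw [← F.ctx.commute_cj_left ht.1, F.ctx.cj_fix ht.1 hst.symm] at h
      exact h)⟩
  by_cases htt : Commute t t'
  swap
  · exact shift t' ht' hrt' hst' htt
  -- a third member of the line through `t` and `t'`
  have hne : t ≠ t' := fun e => hrt (e ▸ hrt')
  obtain ⟨u, hu, hu'⟩ := Set.exists_mem_notMem_of_ncard_lt_ncard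
    (s := ({t, t'} : Set G)) (t := line D t t')
    (by rw [F.five t ht.1 t' ht'.1 hne htt, Set.ncard_pair hne]; norm_num)
  simp only [Set.mem_insert_iff, Set.mem_singleton_iff, not_or] at hu'
  have huR : InR D a b u := ⟨hu.1, commute_line F.ha ht.2.1 ht'.2.1 hu,
    commute_line F.hb ht.2.2 ht'.2.2 hu⟩
  have hru : ¬ Commute r u := fun h => hrt (commute_of_two F.ctx hr.1 ht.1 ht'.1 htt hne
    (mem_line_right ht'.1) hu (Ne.symm hu'.2) hrt' h (mem_line_left ht.1))
  have hsu : ¬ Commute s u := fun h => hst' (commute_of_two F.ctx hs.1 ht.1 ht'.1 htt hne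
    (mem_line_left ht.1) hu (Ne.symm hu'.1) hst h (mem_line_right ht'.1))
  exact ⟨u, huR, hru, hsu⟩

/-- two members with two common non-neighbours have a third one -/
theorem far_shift {r s t : G} (hr : InR D a b r) (ht : InR D a b t) (hrt : ¬ Commute r t)
    (hst : ¬ Commute s t) (hrs : Commute r s) :
    InR D a b (r * t * r) ∧ ¬ Commute r (r * t * r) ∧ ¬ Commute s (r * t * r) ∧
      ¬ Commute t (r * t * r) := by
  refine ⟨inR_third F hr ht, fun h => hrt ?_, fun h => hst ?_, fun h => hrt ?_⟩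
  · rw [← F.ctx.commute_cj_left hr.1, F.ctx.cj_fix hr.1 (Commute.refl r)] at h
    exact h
  · rw [← F.ctx.commute_cj_left hr.1, F.ctx.cj_fix hr.1 hrs] at h
    exact h
  · rw [F.ctx.braid hr.1 ht.1 hrt, ← F.ctx.commute_cj_left ht.1,
      F.ctx.cj_fix ht.1 (Commute.refl t)] at h
    exact h.symm

/-- a compatible family of cyclic orders -/
theorem exists_orientation :
    ∃ O : G → G → G, (∀ r, InR D a b r → Cyc D a b r (O r)) ∧
      ∀ r s, InR D a b r → InR D a b s → ¬ Commute r s → Tr D a b r s (O r) (O s) := by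
  classical
  obtain ⟨r₀, hr₀D, har₀, hr₀b⟩ := RankThree.exists_common F.ctx.grp F.ctx.prim F.ctx.wide F.ha
    F.hb F.hab
  have hr₀ : InR D a b r₀ := ⟨hr₀D, har₀, hr₀b.symm⟩
  obtain ⟨j₀, hj₀⟩ : ∃ j, Cyc D a b r₀ j := by
    have := Fintype.ofFinite G
    have hc : Fintype.card ↥(fib D a b r₀) = 3 := by
      rw [← Nat.card_eq_fintype_card, Nat.card_coe_set_eq, fib_card F hr₀]
    let e := Fintype.equivFinOfCardEq hc
    refine ⟨fun x => if h : x ∈ fib D a b r₀ then (e.symm (e ⟨x, h⟩ + 1) : G) else x,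
      fun x hx => ?_, fun x hx y hy h => ?_, fun x hx h => ?_⟩
    · simp only [dif_pos hx]; exact Subtype.coe_prop _
    · simp only [dif_pos hx, dif_pos hy] at h
      exact congrArg Subtype.val (e.injective (add_right_cancel (e.symm.injective (Subtype.ext h))))
    · simp only [dif_pos hx] at h
      have h2 := congrArg e (Subtype.ext h : e.symm (e ⟨x, hx⟩ + 1) = ⟨x, hx⟩)
      simp at h2
  let O : G → G → G := fun r =>
    if r = r₀ then j₀ else if ¬ Commute r₀ r then transport D a b r₀ r j₀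
    else transport D a b (Classical.epsilon fun t => InR D a b t ∧ ¬ Commute r₀ t ∧ ¬ Commute r t) r
      (transport D a b r₀
        (Classical.epsilon fun t => InR D a b t ∧ ¬ Commute r₀ t ∧ ¬ Commute r t) j₀)
  have O0 : O r₀ = j₀ := by simp [O]
  have O1 : ∀ r, InR D a b r → ¬ Commute r₀ r → Cyc D a b r (O r) ∧ Tr D a b r₀ r j₀ (O r) := by
    intro r hr h
    have hne : r ≠ r₀ := fun e => h (e ▸ Commute.refl r₀)
    simp only [O, if_neg hne, if_pos h]
    exact transport_spec F hr₀ hr h hj₀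
  have O2 : ∀ r, InR D a b r → r ≠ r₀ → Commute r₀ r → Cyc D a b r (O r) ∧
      ∀ t, InR D a b t → ¬ Commute r₀ t → ¬ Commute r t → Tr D a b t r (O t) (O r) := by
    intro r hr hne h
    obtain ⟨tw, htw, h1, h2⟩ := exists_far_two F hr₀ hr
    have hs := Classical.epsilon_spec
      (p := fun t => InR D a b t ∧ ¬ Commute r₀ t ∧ ¬ Commute r t) ⟨tw, htw, h1, h2⟩
    set w := Classical.epsilon fun t => InR D a b t ∧ ¬ Commute r₀ t ∧ ¬ Commute r t with hw
    have hOw := O1 w hs.1 hs.2.1
    have hT := transport_spec F hr₀ hs.1 hs.2.1 hj₀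
    have hwr : ¬ Commute w r := fun e => hs.2.2 e.symm
    have hr' := transport_spec F hs.1 hr hwr hT.1
    have hOr : O r = transport D a b w r (transport D a b r₀ w j₀) := by
      simp only [O, if_neg hne, if_neg (not_not.2 h)]
      rfl
    have hw' : O w = transport D a b r₀ w j₀ := by
      simp only [O, if_neg (fun e => hs.2.1 (e ▸ Commute.refl r₀) : ¬ w = r₀), if_pos hs.2.1]
    refine ⟨hOr ▸ hr'.1, fun t ht h1 h2 => ?_⟩
    have base : Tr D a b w r (O w) (O r) := by rw [hOr, hw']; exact hr'.2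
    have cr : Cyc D a b r (O r) := hOr ▸ hr'.1
    -- propagation from one witness to an adjacent one
    have step : ∀ t t', InR D a b t → ¬ Commute r₀ t → ¬ Commute r t → InR D a b t' →
        ¬ Commute r₀ t' → ¬ Commute r t' → ¬ Commute t t' → Tr D a b t r (O t) (O r) →
        Tr D a b t' r (O t') (O r) := by
      intro t t' ht a1 a2 ht' b1 b2 hn hT
      have e1 := Tr.trans F ht' hr₀ ht (fun e => b1 e.symm) a1 (fun e => hn e.symm) (O1 t' ht' b1).1
        hj₀ (O1 t ht a1).1 (Tr.symm F (O1 t' ht' b1).2) (O1 t ht a1).2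
      exact Tr.trans F ht' ht hr (fun e => hn e.symm) (fun e => a2 e.symm) (fun e => b2 e.symm)
        (O1 t' ht' b1).1 (O1 t ht a1).1 cr e1 hT
    by_cases hwt : Commute w t
    · -- an intermediate witness
      have q1 : ¬ Commute r₀ (r₀ * w * r₀) ∧ ¬ Commute r (r₀ * w * r₀) ∧
          ¬ Commute w (r₀ * w * r₀) := (far_shift F hr₀ hs.1 hs.2.1 hs.2.2 h).2
      have qR := inR_third F hr₀ hs.1
      have hq : ¬ Commute t (r₀ * w * r₀) := fun e => h1 (by
        rw [F.ctx.braid hr₀.1 hs.1.1 hs.2.1, ← F.ctx.commute_cj_left hs.1.1,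
          F.ctx.cj_fix hs.1.1 hwt] at e
        exact e.symm)
      exact step _ t qR q1.1 q1.2.1 ht h1 h2 (fun e => hq e.symm)
        (step w _ hs.1 hs.2.1 hs.2.2 qR q1.1 q1.2.1 q1.2.2 base)
    · exact step w t hs.1 hs.2.1 hs.2.2 ht h1 h2 hwt base
  have hcyc : ∀ r, InR D a b r → Cyc D a b r (O r) := by
    intro r hr
    by_cases h : r = r₀
    · rw [h, O0]; exact hj₀
    by_cases h' : Commute r₀ r
    exacts [(O2 r hr h h').1, (O1 r hr h').1]
  refine ⟨O, hcyc, fun r s hr hs hrs => ?_⟩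
  by_cases hr0 : r = r₀
  · subst hr0; rw [O0]; exact (O1 s hs hrs).2
  by_cases hs0 : s = r₀
  · subst hs0; rw [O0]; exact Tr.symm F (O1 r hr fun e => hrs e.symm).2
  by_cases hr1 : Commute r₀ r
  · by_cases hs1 : Commute r₀ s
    · -- a common witness
      obtain ⟨t, ht, ht0, htr⟩ := exists_far_two F hr₀ hr
      obtain ⟨u, hu, hu0, hur, hus⟩ : ∃ u, InR D a b u ∧ ¬ Commute r₀ u ∧ ¬ Commute r u ∧
          ¬ Commute s u := by
        by_cases hts : Commute s t
        · refine ⟨r * t * r, inR_third F hr ht, fun e => ht0 ?_, fun e => htr ?_, fun e => hrs ?_⟩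
          · rw [← F.ctx.commute_cj_left hr.1, F.ctx.cj_fix hr.1 hr1.symm] at e
            exact e
          · rw [← F.ctx.commute_cj_left hr.1, F.ctx.cj_fix hr.1 (Commute.refl r)] at e
            exact e
          · rw [F.ctx.braid hr.1 ht.1 htr, ← F.ctx.commute_cj_left ht.1,
              F.ctx.cj_fix ht.1 hts.symm] at e
            exact e.symm
        · exact ⟨t, ht, ht0, htr, hts⟩
      exact Tr.trans F hr hu hs hur (fun e => hus e.symm) hrs (hcyc r hr) (hcyc u hu) (hcyc s hs)
        (Tr.symm F ((O2 r hr hr0 hr1).2 u hu hu0 hur)) ((O2 s hs hs0 hs1).2 u hu hu0 hus)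
    · exact Tr.symm F ((O2 r hr hr0 hr1).2 s hs hs1 hrs)
  · by_cases hs1 : Commute r₀ s
    · exact (O2 s hs hs0 hs1).2 r hr hr1 fun e => hrs e.symm
    · exact Tr.trans F hr hr₀ hs (fun e => hr1 e.symm) hs1 hrs (hcyc r hr) hj₀ (hcyc s hs)
        (Tr.symm F (O1 r hr hr1).2) (O1 s hs hs1).2

end Cfsg.Agent.ThreeTransp.Polar.Unit
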