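import Cfsg.Agent.Lib.ThreeTransp.Polar.UnitSpace

/-!
Lines with five members: the functional of a member not commuting with the first one, the count of
these members, and the completeness of the points.
-/

set_option autoImplicit false
set_option linter.unusedSectionVars false

namespace Cfsg.Agent.ThreeTransp.Polar.Unit

open Cfsg.Agent.ThreeTransp Cfsg.Agent.ThreeTransp.Polar

variable {G : Type*} [Group G] [Finite G] {D : Set G} {a b : G}
variable (F : Frame D a b)
include F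

/-- the functional of an outer member -/
def Fn (d : G) (w : ↥(W F)) : Prop :=
  ∀ p ∈ D, Commute a p → (Commute d p ↔ H F (psi F p) (0, 1, w) = 0)

theorem H_psi_mid (p : G) (l : K) (w : ↥(W F)) :
    H F (psi F p) (l, 1, w) = H F (psi F p) (0, 1, w) := by
  simp [H_apply, psi_mid]

theorem H_X {x : G} (hx : InX D a b x) (w : ↥(W F)) :
    H F (psi F x) (0, 1, w) = 1 + (w : Xs D a b → K) ⟨x, hx⟩ := by
  rw [psi_X F hx]
  simp [H_apply, HW_apply, hw_wv]

theorem H_R {r : G} (hr : InR D a b r) (w : ↥(W F)) :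
    ∃ h : InX D a b (pick F r), rep D a b (pick F r) = r ∧
      H F (psi F r) (0, 1, w) = (w : Xs D a b → K) ⟨pick F r, h⟩ := by
  obtain ⟨h, h', e⟩ := psi_R F hr
  exact ⟨h, h', by rw [e]; simp [H_apply, HW_apply, hw_wv]⟩

theorem w_J (w : ↥(W F)) {x : G} (hx : InX D a b x) :
    (w : Xs D a b → K) ⟨J F x, J_mem F hx⟩ = (ω + 1) * (w : Xs D a b → K) ⟨x, hx⟩ := by
  have e : wv F ⟨J F x, J_mem F hx⟩ = ω • wv F ⟨x, hx⟩ := Subtype.ext (phi_J F hx)
  rw [← hw_wv F ⟨J F x, _⟩, ← hw_wv F ⟨x, hx⟩, ← HW_apply, ← HW_apply, e,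
    LinearMap.map_smulₛₗ, LinearMap.smul_apply, smul_eq_mul, σ_om]

theorem w_fib (w : ↥(W F)) {x y : G} (hx : InX D a b x) (hy : InX D a b y)
    (h : rep D a b y = rep D a b x) :
    (w : Xs D a b → K) ⟨y, hy⟩ = 0 ↔ (w : Xs D a b → K) ⟨x, hx⟩ = 0 := by
  obtain ⟨c, hc, e⟩ := phi_fib F hx hy h
  have e' : wv F ⟨y, hy⟩ = c • wv F ⟨x, hx⟩ := Subtype.ext e
  rw [← hw_wv F ⟨y, hy⟩, ← hw_wv F ⟨x, hx⟩, ← HW_apply, ← HW_apply, e', LinearMap.map_smulₛₗ,
    LinearMap.smul_apply, smul_eq_mul, mul_eq_zero, map_eq_zero, or_iff_right hc]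

/-- membership in the outer members -/
def InA (D : Set G) (a d : G) : Prop := d ∈ D ∧ ¬ Commute a d

theorem b_mem : InA D a b := ⟨F.hb, F.hab⟩

theorem Fn_unique {d : G} {w w' : ↥(W F)} (h : Fn F d w) (h' : Fn F d w') : w = w' := by
  refine Subtype.ext (funext fun q => ?_)
  obtain ⟨x, hx⟩ := q
  have hr := xR F hx
  have k1 : ∀ w, Fn F d w → ((w : Xs D a b → K) ⟨x, hx⟩ = 0 ↔ Commute d (rep D a b x)) := by
    intro w h
    obtain ⟨hp, hp', e⟩ := H_R F hr w
    rw [h _ hr.1 hr.2.1, e, w_fib F w hx hp hp']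
  have k2 : ∀ y, (hy : InX D a b y) → ((w : Xs D a b → K) ⟨y, hy⟩ = 1 ↔
      (w' : Xs D a b → K) ⟨y, hy⟩ = 1) := by
    intro y hy
    have c1 := h y hy.1 hy.2.1
    have c2 := h' y hy.1 hy.2.1
    rw [H_X F hy] at c1 c2
    have e : ∀ t : K, 1 + t = 0 ↔ t = 1 := fun t =>
      ⟨fun e => (eq_of_add_eq_zero e).symm, fun e => by rw [e, add_self]⟩
    rw [← e, ← e, ← c1, ← c2]
  have k3 := k2 _ hx
  have k4 := k2 _ (J_mem F hx)
  have k5 := k2 _ (J_mem F (J_mem F hx))
  rw [w_J F w hx, w_J F w' hx] at k4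
  rw [w_J F w (J_mem F hx), w_J F w' (J_mem F hx), w_J F w hx, w_J F w' hx] at k5
  have om2 : (ω + 1) * ω = 1 := by rw [mul_comm]; exact om_cube
  have om1 : (ω + 1) * (ω + 1) = ω := by linear_combination om_sq + (ω + 1) * two_zero
  rcases K_cases ((w : Xs D a b → K) ⟨x, hx⟩) with e | e | e | e
  · rw [e, eq_comm, k1 w' h', ← k1 w h, e]
  · rw [e, k3.1 e]
  · rw [e] at k4 ⊢
    have := mul_left_cancel₀ om_add_one_ne_zero ((k4.1 om2).trans om2.symm)
    rw [this]
  · rw [e] at k5 ⊢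
    have e2 : (ω + 1) * ((ω + 1) * (ω + 1)) = 1 := by rw [om1, om2]
    exact (mul_left_cancel₀ om_add_one_ne_zero
      (mul_left_cancel₀ om_add_one_ne_zero ((k5.1 e2).trans e2.symm))).symm

theorem Fn_b : Fn F b (0 : ↥(W F)) := by
  intro p hp hap
  by_cases hpa : p = a
  · subst hpa
    simp [psi_a, H_apply, show ¬ Commute b p from fun h => F.hab h.symm]
  by_cases hb : Commute b p
  · obtain ⟨h, -, e⟩ := H_R F ⟨hp, hap, hb⟩ (0 : ↥(W F))
    simp [e, hb]
  · rw [H_X F ⟨hp, hap, hpa, hb⟩]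
    simp [hb]

theorem H_T' {u : V F} (v w : V F) : H F (T F u v) w = H F v (T F u w) := by
  simp only [T, map_add, LinearMap.add_apply, LinearMap.map_smulₛₗ, LinearMap.smul_apply,
    RingHom.id_apply, smul_eq_mul]
  rw [show H F v u = σ (H F u v) from (H_symm F u v).symm]
  ring

theorem conj_A {p d : G} (hp : p ∈ D) (hap : Commute a p) (hd : InA D a d) :
    InA D a (p * d * p) := by
  refine ⟨F.ctx.cj_mem hp hd.1, fun h => hd.2 ?_⟩
  rwa [← F.ctx.commute_cj hp, F.ctx.cj_fix hp hap.symm]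

theorem Sim_zero {u v v' : V F} (h : Sim F v v') : H F v u = 0 ↔ H F v' u = 0 := by
  obtain ⟨c, hc, rfl⟩ := h
  rw [LinearMap.map_smulₛₗ, LinearMap.smul_apply, smul_eq_mul, mul_eq_zero, map_eq_zero,
    or_iff_right hc]

theorem Fn_conj {p d : G} (hp : p ∈ D) (hap : Commute a p) {w : ↥(W F)} (hw : Fn F d w) :
    Fn F (p * d * p) (w + H F (psi F p) (0, 1, w) • (psi F p).2.2) := by
  intro q hq haq
  rw [F.ctx.commute_cj_left hp, hw _ (F.ctx.cj_mem hp hq)
    ((hap.mul_right haq).mul_right hap), ← Sim_zero F (psi_equiv F hp hap hq haq), H_T']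
  conv_rhs => rw [← H_psi_mid F q (H F (psi F p) (0, 1, w) * (psi F p).1)]
  have : T F (psi F p) (0, 1, w) =
      (H F (psi F p) (0, 1, w) * (psi F p).1, 1,
        w + H F (psi F p) (0, 1, w) • (psi F p).2.2) := by
    refine Prod.ext ?_ (Prod.ext ?_ ?_) <;> simp [T, psi_mid]
  rw [this]

theorem Fn_exists {d : G} (hd : InA D a d) : ∃ w, Fn F d w := by
  obtain ⟨g, hg, rfl⟩ := RankThree.linked_outer F.ctx.grp F.ctx.prim F.ctx.wide F.ha F.hb hd.1
    F.hab hd.2
  clear hd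
  suffices h : ∀ e, (∃ w, Fn F e w) → ∃ w, Fn F (g * e * g⁻¹) w from h b ⟨0, Fn_b F⟩
  induction hg using Subgroup.closure_induction'' with
  | one => intro e he; simpa using he
  | mem p hp =>
    rintro e ⟨w, hw⟩
    rw [F.ctx.inv hp.1]
    exact ⟨_, Fn_conj F hp.1 hp.2 hw⟩
  | inv_mem p hp =>
    rintro e ⟨w, hw⟩
    rw [inv_inv, F.ctx.inv hp.1]
    exact ⟨_, Fn_conj F hp.1 hp.2 hw⟩
  | mul y z _ _ hy hz =>
    intro e he
    have := hy _ (hz e he)
    rwa [show y * (z * e * z⁻¹) * y⁻¹ = y * z * e * (y * z)⁻¹ by group] at this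

open Classical in
/-- the functional, chosen -/
noncomputable def fn (d : G) : ↥(W F) := Classical.epsilon (Fn F d)

theorem fn_spec {d : G} (hd : InA D a d) : Fn F d (fn F d) :=
  Classical.epsilon_spec (Fn_exists F hd)

theorem fn_eq {d : G} {w : ↥(W F)} (h : Fn F d w) : fn F d = w :=
  Fn_unique F (Classical.epsilon_spec (p := Fn F d) ⟨w, h⟩) h

theorem fn_b : fn F b = 0 := fn_eq F (Fn_b F)

theorem fn_conj {p d : G} (hp : p ∈ D) (hap : Commute a p) (hd : InA D a d) :
    fn F (p * d * p) = fn F d + H F (psi F p) (0, 1, fn F d) • (psi F p).2.2 :=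
  fn_eq F (Fn_conj F hp hap (fn_spec F hd))

theorem fn_cj_a {d : G} (hd : InA D a d) : fn F (a * d * a) = fn F d := by
  rw [fn_conj F F.ha (Commute.refl a) hd, psi_a]
  simp

/-- the translation by a neighbour -/
noncomputable def shift (D : Set G) (a b x d : G) : G := rep D a b x * (x * d * x) * rep D a b x

theorem fn_shift {x d : G} (hx : InX D a b x) (hd : InA D a d) :
    InA D a (shift D a b x d) ∧ fn F (shift D a b x d) = fn F d + wv F ⟨x, hx⟩ := by
  have hr := xR F hx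
  have hd1 := conj_A F hx.1 hx.2.1 hd
  refine ⟨conj_A F hr.1 hr.2.1 hd1, ?_⟩
  rw [shift, fn_conj F hr.1 hr.2.1 hd1]
  set w1 := fn F (x * d * x) with hw1
  have e1 : w1 = fn F d + (1 + (fn F d : Xs D a b → K) ⟨x, hx⟩) • wv F ⟨x, hx⟩ := by
    rw [hw1, fn_conj F hx.1 hx.2.1 hd, H_X F hx, psi_X F hx]
  have hx1 : (w1 : Xs D a b → K) ⟨x, hx⟩ = (fn F d : Xs D a b → K) ⟨x, hx⟩ := by
    rw [e1]; simp [wv, phi, hf_self]
  obtain ⟨c, hc, e⟩ := sim_psi_R F hr hx rfl
  have he : psi F (rep D a b x) = c⁻¹ • ((0, 0, wv F ⟨x, hx⟩) : V F) := by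
    rw [e, smul_smul, inv_mul_cancel₀ hc, one_smul]
  have hT := congrArg (fun v : V F => v.2.2)
    (T_smul F (inv_ne_zero hc) (u := ((0, 0, wv F ⟨x, hx⟩) : V F)) (0, 1, w1))
  rw [← he] at hT
  simp only [T, Prod.snd_add, Prod.smul_snd] at hT
  rw [hT]
  have : H F ((0, 0, wv F ⟨x, hx⟩) : V F) (0, 1, w1) = (w1 : Xs D a b → K) ⟨x, hx⟩ := by
    simp [H_apply, HW_apply, hw_wv]
  rw [this, hx1, e1, add_assoc, ← add_smul]
  congr 1
  rw [show 1 + (fn F d : Xs D a b → K) ⟨x, hx⟩ + (fn F d : Xs D a b → K) ⟨x, hx⟩ = 1 by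
    rw [add_assoc, add_self, add_zero], one_smul]

theorem shift_inj {x : G} : Function.Injective (shift D a b x) := fun _ _ h =>
  F.ctx.cj_inj (F.ctx.cj_inj h)

/-- the outer members with a given functional -/
def lev (w : ↥(W F)) : Set G := {d | InA D a d ∧ fn F d = w}

theorem lev_card_add {x : G} (hx : InX D a b x) (w : ↥(W F)) :
    (lev F (w + wv F ⟨x, hx⟩)).ncard = (lev F w).ncard := by
  have h : ∀ w, (lev F w).ncard ≤ (lev F (w + wv F ⟨x, hx⟩)).ncard := fun w =>
    Set.ncard_le_ncard_of_injOn (shift D a b x)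
      (fun d hd => ⟨(fn_shift F hx hd.1).1, by rw [(fn_shift F hx hd.1).2, hd.2]⟩)
      (shift_inj F).injOn (Set.toFinite _)
  refine le_antisymm ((h _).trans (le_of_eq ?_)) (h w)
  rw [add_assoc, show wv F ⟨x, hx⟩ + wv F ⟨x, hx⟩ = 0 by
    rw [← two_smul K, two_zero, zero_smul], add_zero]

theorem lev_card (w : ↥(W F)) : (lev F w).ncard = (lev F (0 : ↥(W F))).ncard := by
  have h : ∀ v ∈ W F, ∀ (c : K) (hv : c • v ∈ W F) (u : ↥(W F)),
      (lev F (u + ⟨c • v, hv⟩)).ncard = (lev F u).ncard := by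
    intro v hv
    refine Submodule.span_induction (p := fun v _ => ∀ (c : K) (hv : c • v ∈ W F) (u : ↥(W F)),
      (lev F (u + ⟨c • v, hv⟩)).ncard = (lev F u).ncard) ?_ ?_ ?_ ?_ hv
    · rintro _ ⟨⟨x, hx⟩, rfl⟩ c hv u
      rcases K_cases c with rfl | rfl | rfl | rfl
      · congr 2; exact (add_eq_left).2 (Subtype.ext (zero_smul K _))
      · convert lev_card_add F hx u using 4; exact Subtype.ext (one_smul K _)
      · convert lev_card_add F (J_mem F hx) u using 4; exact Subtype.ext (phi_J F hx).symm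
      · convert lev_card_add F (J_mem F (J_mem F hx)) u using 4
        refine Subtype.ext ?_
        simp [wv, phi_J F (J_mem F hx), phi_J F hx, smul_smul, om_sq]
    · intro c hv u; congr 2; exact (add_eq_left).2 (Subtype.ext (smul_zero c))
    · intro v v' hv hv' i i' c h u
      have hh := i' c (Submodule.smul_mem _ c hv') (u + ⟨c • v, Submodule.smul_mem _ c hv⟩)
      rw [i c (Submodule.smul_mem _ c hv) u] at hh
      rw [← hh, add_assoc]
      congr 3
      exact Subtype.ext (smul_add c v v')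
    · intro e v _ i c h u
      convert i (c * e) (by rwa [← smul_smul]) u using 4
      exact Subtype.ext (smul_smul c e v)
  have := h _ w.2 1 (by rw [one_smul]; exact w.2) 0
  rw [zero_add] at this
  convert this using 3
  exact Subtype.ext (one_smul K _).symm

theorem fn_surj (w : ↥(W F)) : ∃ d, InA D a d ∧ fn F d = w := by
  have h : 0 < (lev F w).ncard := by
    rw [lev_card, Set.ncard_pos (Set.toFinite _)]
    exact ⟨b, b_mem F, fn_b F⟩
  exact (Set.ncard_pos (Set.toFinite _)).1 h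

/-- the members off the first one commuting with it -/
def Ps (D : Set G) (a : G) : Set G := {p | p ∈ D ∧ Commute a p ∧ p ≠ a}

theorem comm_P {p r : G} (hp : p ∈ Ps D a) (hr : InR D a b r) :
    Commute r p ↔ Commute r (rep D a b p) :=
  (tw F hr.1 hr.2.1.symm hp.1 hp.2.1 hp.2.2 (rep_spec F hp.1 hp.2.1 hp.2.2).1
    (inR_ne F (rep_inR F hp.1 hp.2.1 hp.2.2))).symm

theorem fibre_four {r : G} (hr : InR D a b r) :
    {p | p ∈ Ps D a ∧ rep D a b p = r} = insert r (fib D a b r) := by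
  ext p
  constructor
  · rintro ⟨⟨hp, hap, hpa⟩, h⟩
    by_cases hb : Commute b p
    · left
      rw [← h]
      exact (rep_self F ⟨hp, hap, hb⟩).symm
    · exact Or.inr ⟨⟨hp, hap, hpa, hb⟩, h⟩
  · rintro (rfl | h)
    · exact ⟨⟨hr.1, hr.2.1, inR_ne F hr⟩, rep_self F hr⟩
    · exact ⟨⟨h.1.1, h.1.2.1, h.1.2.2.1⟩, h.2⟩

theorem card_four (S : Set G) (hS : ∀ r ∈ S, InR D a b r) :
    {p | p ∈ Ps D a ∧ rep D a b p ∈ S}.ncard = 4 * S.ncard := by
  classical
  have := Fintype.ofFinite G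
  rw [Set.ncard_eq_toFinset_card', Set.ncard_eq_toFinset_card',
    Finset.card_eq_sum_card_fiberwise (f := rep D a b) (t := S.toFinset)
      (fun p hp => Set.mem_toFinset.2 (Set.mem_toFinset.1 hp).2),
    Finset.sum_const_nat (m := 4)]
  · ring
  intro r hr
  rw [Set.mem_toFinset] at hr
  have h4 : (insert r (fib D a b r)).ncard = 4 := by
    rw [Set.ncard_insert_of_notMem (fun h => h.1.2.2.2 (hS r hr).2.2) (Set.toFinite _),
      fib_card F (hS r hr)]
  rw [← h4, ← fibre_four F (hS r hr), Set.ncard_eq_toFinset_card']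
  congr 1
  ext p
  simp only [Finset.mem_filter, Set.mem_toFinset, Set.mem_setOf_eq]
  exact ⟨fun h => ⟨h.1.1, h.2⟩, fun h => ⟨⟨h.1, h.2 ▸ hr⟩, h.2⟩⟩

theorem outer_count {r : G} (hr : InR D a b r) :
    {d | InA D a d}.ncard = 4 * {d | InA D a d ∧ Commute r d}.ncard := by
  classical
  have := Fintype.ofFinite G
  set R : Set G := {s | InR D a b s}
  have h1 : ∀ d ∈ {d | InA D a d}.toFinset,
      ((Ps D a).toFinset.bipartiteAbove (fun d p => Commute p d) d).card = R.ncard := by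
    intro d hd
    rw [Set.mem_toFinset] at hd
    have hl := RankThree.linked_outer F.ctx.grp F.ctx.prim F.ctx.wide F.ha F.hb hd.1 F.hab hd.2
    have e := RankThree.common_ncard F.ctx.grp F.ctx.prim F.ctx.wide hl
    rw [show R = {x : G | x ∈ D ∧ Commute a x ∧ Commute x b} from Set.ext fun x =>
      ⟨fun h => ⟨h.1, h.2.1, h.2.2.symm⟩, fun h => ⟨h.1, h.2.1, h.2.2.symm⟩⟩, ← e,
      Set.ncard_eq_toFinset_card']
    congr 1
    ext p
    rw [Finset.mem_bipartiteAbove, Set.mem_toFinset, Set.mem_toFinset]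
    exact ⟨fun h => ⟨h.1.1, h.1.2.1, h.2⟩,
      fun h => ⟨⟨h.1, h.2.1, fun e => hd.2 (e ▸ h.2.2)⟩, h.2.2⟩⟩
  have h2 : ∀ p ∈ (Ps D a).toFinset, ({d | InA D a d}.toFinset.bipartiteBelow
      (fun d p => Commute p d) p).card = {d | InA D a d ∧ Commute r d}.ncard := by
    intro p hp
    rw [Set.mem_toFinset] at hp
    obtain ⟨g, hg, hgp⟩ := F.ctx.linked F.ha hr.1 hp.1 hr.2.1 hp.2.1 (inR_ne F hr) hp.2.2
    have hga := RankThree.conj_self_of_commute (RankThree.loc_commute hg)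
    rw [← Primitive.cB_ncard g {d | InA D a d ∧ Commute r d}, Set.ncard_eq_toFinset_card']
    congr 1
    ext d
    simp only [Finset.mem_bipartiteBelow, Set.mem_toFinset, Set.mem_setOf_eq]
    constructor
    · rintro ⟨⟨hd, had⟩, hpd⟩
      refine ⟨g⁻¹ * d * g, ⟨⟨Classes.inv_conj_mem F.ctx.grp g hd, fun h => had ?_⟩, ?_⟩, by group⟩
      · have := (Basic.commute_conj (g := g)).2 h
        rwa [hga, show g * (g⁻¹ * d * g) * g⁻¹ = d by group] at this
      · rw [← Basic.commute_conj (g := g), hgp, show g * (g⁻¹ * d * g) * g⁻¹ = d by group]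
        exact hpd
    · rintro ⟨u, ⟨⟨hu, hau⟩, hru⟩, rfl⟩
      refine ⟨⟨F.ctx.grp.2.1 g u hu, fun h => hau ?_⟩, hgp ▸ Basic.commute_conj.2 hru⟩
      rwa [← Basic.commute_conj (g := g), hga]
  have e := Finset.card_mul_eq_card_mul (r := fun d p => Commute p d) h1 h2
  have hP : (Ps D a).ncard = 4 * R.ncard := by
    rw [← card_four F R fun _ h => h]
    congr 1
    exact Set.ext fun p => ⟨fun h => ⟨h, rep_inR F h.1 h.2.1 h.2.2⟩, And.left⟩
  rw [← Set.ncard_eq_toFinset_card', ← Set.ncard_eq_toFinset_card', hP] at e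
  have hR : 0 < R.ncard := (Set.ncard_pos (Set.toFinite _)).2 ⟨r, hr⟩
  exact Nat.eq_of_mul_eq_mul_right hR (by rw [e]; ring)

theorem swap_count {r : G} (hr : InR D a b r) :
    {d | InA D a d ∧ Commute r d}.ncard = 4 * {s | InR D a b s ∧ ¬ Commute r s}.ncard := by
  obtain ⟨x, hx⟩ := fib_nonempty F hr
  obtain ⟨t, ht, hrt⟩ := exists_far F hr
  obtain ⟨y, hy, hyt⟩ := fib_nonempty F ht
  have hxy : ¬ Commute x y := fun h => hrt (by
    have := (comm_iff F hx.1 hy).1 h
    rwa [hx.2, hyt] at this)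
  obtain ⟨p, hp, hpw⟩ := fn_surj F (wv F ⟨y, hy⟩)
  have hpr : ¬ Commute p r := by
    rw [fn_spec F hp r hr.1 hr.2.1, hpw]
    obtain ⟨h, h', e⟩ := H_R F hr (wv F ⟨y, hy⟩)
    rw [e]
    show ¬ hf F (pick F r) y = 0
    rw [hf_zero, comm_iff F h hy, h', hyt]
    exact hrt
  set g := p * (a * r) * p with hg
  have hga : g * a * g = r :=
    swap_conj F.ctx hp.1 F.ha hr.1 hr.2.1 (fun h => hp.2 h.symm) hpr
  have hgr : g * r * g = a := by
    rw [hg, hr.2.1.eq]
    exact swap_conj F.ctx hp.1 hr.1 F.ha hr.2.1.symm hpr (fun h => hp.2 h.symm)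
  have hg1 : g⁻¹ = g := by
    rw [hg, mul_inv_rev, mul_inv_rev, mul_inv_rev, F.ctx.inv hp.1, F.ctx.inv F.ha, F.ctx.inv hr.1,
      hr.2.1.eq]
    group
  have key : {p | p ∈ Ps D a ∧ rep D a b p ∈ {s | InR D a b s ∧ ¬ Commute r s}} =
      {p | p ∈ D ∧ Commute a p ∧ ¬ Commute r p} := by
    ext q
    constructor
    · rintro ⟨hq, -, h⟩
      exact ⟨hq.1, hq.2.1, mt (comm_P F hq hr).1 h⟩
    · rintro ⟨h1, h2, h3⟩
      have hne : q ≠ a := fun e => h3 (e ▸ hr.2.1.symm)
      exact ⟨⟨h1, h2, hne⟩, rep_inR F h1 h2 hne, mt (comm_P F ⟨h1, h2, hne⟩ hr).2 h3⟩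
  rw [← card_four F {s | InR D a b s ∧ ¬ Commute r s} fun _ h => h.1, key,
    ← Primitive.cB_ncard g {p | p ∈ D ∧ Commute a p ∧ ¬ Commute r p}]
  congr 1
  have conj : ∀ u v : G, Commute (g * u * g) (g * v * g) ↔ Commute u v := fun u v => by
    have := Basic.commute_conj (g := g) (a := u) (b := v)
    rwa [hg1] at this
  have hmem : ∀ u ∈ D, g * u * g ∈ D := fun u hu => by
    have := F.ctx.grp.2.1 g u hu
    rwa [hg1] at this
  have hinv : ∀ u, g * (g * u * g) * g = u := fun u => by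
    calc g * (g * u * g) * g = g * (g⁻¹ * u * g⁻¹) * g := by rw [hg1]
      _ = u := by group
  ext d
  constructor
  · rintro ⟨⟨hd, had⟩, hrd⟩
    refine ⟨g * d * g, ⟨hmem d hd, ?_, fun h => had ?_⟩, by rw [hg1]; exact hinv d⟩
    · rw [← hgr]; exact (conj r d).2 hrd
    · rw [← hga] at h; exact (conj a d).1 h
  · rintro ⟨u, ⟨hu, hau, hru⟩, rfl⟩
    show InA D a (g * u * g⁻¹) ∧ Commute r (g * u * g⁻¹)
    rw [hg1]
    refine ⟨⟨hmem u hu, fun h => hru ?_⟩, ?_⟩
    · rw [← hgr] at h; exact (conj r u).1 h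
    · rw [← hga]; exact (conj a u).2 hau

theorem count_eq {r : G} (hr : InR D a b r) :
    (lev F (0 : ↥(W F))).ncard * Nat.card ↥(W F) =
      16 * {s | InR D a b s ∧ ¬ Commute r s}.ncard := by
  classical
  have := Fintype.ofFinite G
  have := Fintype.ofFinite ↥(W F)
  have e : {d | InA D a d}.ncard = 16 * {s | InR D a b s ∧ ¬ Commute r s}.ncard := by
    rw [outer_count F hr, swap_count F hr]; ring
  rw [← e, Set.ncard_eq_toFinset_card' {d | InA D a d},
    Finset.card_eq_sum_card_fiberwise (f := fn F) (t := Finset.univ) (fun d _ => Finset.mem_univ _),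
    Finset.sum_const_nat (m := (lev F (0 : ↥(W F))).ncard), Nat.card_eq_fintype_card,
    Finset.card_univ, mul_comm]
  intro w _
  rw [← lev_card F w, Set.ncard_eq_toFinset_card']
  congr 1
  ext d
  rw [Finset.mem_filter, Set.mem_toFinset, Set.mem_toFinset]
  rfl

theorem two_le_lev : 2 ≤ (lev F (0 : ↥(W F))).ncard := by
  have hne : b ≠ a * b * a := fun e => F.hab <| by
    show a * b = b * a
    calc a * b = a * (a * b * a) := by rw [← e]
      _ = b * a := by rw [← mul_assoc, ← mul_assoc, F.ctx.sq F.ha, one_mul]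
  refine (Set.ncard_pair hne).symm.trans_le (Set.ncard_le_ncard ?_ (Set.toFinite _))
  rintro d (rfl | rfl)
  · exact ⟨b_mem F, fn_b F⟩
  · exact ⟨conj_A F F.ha (Commute.refl a) (b_mem F), by rw [fn_cj_a F (b_mem F), fn_b F]⟩

/-- the counting gives two members for every functional and every isotropic vector is a point -/
theorem count_main :
    (lev F (0 : ↥(W F))).ncard = 2 ∧ ∀ w : ↥(W F), w ≠ 0 → HW F w w = 0 →
      ∃ x : Xs D a b, wv F x = w := by
  classical
  have := Fintype.ofFinite G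
  have := Fintype.ofFinite ↥(W F)
  -- the bound from one representative
  have main : ∀ x : Xs D a b, (lev F (0 : ↥(W F))).ncard = 2 ∧
      ∀ w : ↥(W F), (w : Xs D a b → K) x = 1 → HW F w w = 0 → ∃ y : Xs D a b, wv F y = w := by
    rintro ⟨x, hx⟩
    set r := rep D a b x with hr
    set S := {s | InR D a b s ∧ ¬ Commute r s} with hS
    have hy : ∀ s : ↥S, ∃ y : Xs D a b, rep D a b y.1 = s.1 ∧ hf F x y.1 = 1 := fun s =>
      have h := partner_spec F hx s.2.1 (by rw [← hr]; exact s.2.2)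
      ⟨⟨_, h.1⟩, h.2.1, hf_one F h.2.2⟩
    choose y hy1 hy2 using hy
    obtain ⟨t, ht, hrt⟩ := exists_far F (xR F hx)
    have ht' : t ∈ S := ⟨ht, hrt⟩
    let f : ↥S × K × Bool → ↥(W F) := fun q =>
      wv F (y q.1) + (if q.2.2 then ω else 0) • wv F ⟨x, hx⟩ + q.2.1 • wv F (y ⟨t, ht'⟩)
    have val : ∀ q, (f q : Xs D a b → K) ⟨x, hx⟩ = 1 + q.2.1 := fun q => by
      rcases q with ⟨s, c, e⟩
      cases e <;> simp [f, wv, phi, hy2, hf_self]
    have iso : ∀ (s : ↥S) (e : Bool), HW F (wv F (y s) + (if e then ω else 0) • wv F ⟨x, hx⟩)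
        (wv F (y s) + (if e then ω else 0) • wv F ⟨x, hx⟩) = if e then 1 else 0 := by
      intro s e
      have h1 : hf F (y s).1 x = 1 := by rw [hf_symm F hx (y s).2, hy2, map_one]
      simp only [map_add, LinearMap.add_apply, LinearMap.map_smulₛₗ, LinearMap.smul_apply,
        RingHom.id_apply, smul_eq_mul, HW_wv, hf_self, h1, hy2]
      cases e
      · simp
      · simp only [if_true, σ_om]; linear_combination ω * two_zero
    have finj : Function.Injective f := by
      rintro ⟨s, c, e⟩ ⟨s', c', e'⟩ h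
      have hc : c = c' := add_left_cancel ((val ⟨s, c, e⟩).symm.trans
        ((congrArg (fun v : ↥(W F) => (v : Xs D a b → K) ⟨x, hx⟩) h).trans (val ⟨s', c', e'⟩)))
      subst hc
      have h' : wv F (y s) + (if e then ω else 0) • wv F ⟨x, hx⟩ =
          wv F (y s') + (if e' then ω else 0) • wv F ⟨x, hx⟩ := add_right_cancel h
      have hi := iso s e
      rw [h', iso s' e'] at hi
      have he : e = e' := by cases e <;> cases e' <;> simp_all
      subst he
      have := phi_inj F (y s).2 (y s').2 (congrArg Subtype.val (add_right_cancel h'))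
      have hs : s = s' := Subtype.ext (by rw [← hy1 s, ← hy1 s', this])
      rw [hs]
    have hle : 8 * S.ncard ≤ Nat.card ↥(W F) := by
      refine le_trans (le_of_eq ?_) (Nat.card_le_card_of_injective f finj)
      rw [Nat.card_prod, Nat.card_prod, Nat.card_coe_set_eq, Nat.card_eq_fintype_card,
        Nat.card_eq_fintype_card, card_K, Fintype.card_bool]
      ring
    have hcount := count_eq F (xR F hx)
    rw [← hr, ← hS] at hcount
    have h2 := two_le_lev F
    have hW : 0 < Nat.card ↥(W F) := Nat.card_pos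
    have hf2 : (lev F (0 : ↥(W F))).ncard = 2 := by
      refine le_antisymm (Nat.le_of_mul_le_mul_right ?_ hW) h2
      rw [hcount]; omega
    refine ⟨hf2, fun w hw1 hw0 => ?_⟩
    have hbij : Function.Bijective f := by
      refine (Fintype.bijective_iff_injective_and_card f).2 ⟨finj, ?_⟩
      rw [Fintype.card_prod, Fintype.card_prod, card_K, Fintype.card_bool,
        ← Nat.card_eq_fintype_card (α := ↥(W F)), ← Nat.card_eq_fintype_card (α := ↥S),
        Nat.card_coe_set_eq]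
      rw [hf2] at hcount
      omega
    obtain ⟨⟨s, c, e⟩, rfl⟩ := hbij.2 w
    rw [val] at hw1
    have hc : c = 0 := add_left_cancel (hw1.trans (add_zero _).symm)
    subst hc
    refine ⟨y s, ?_⟩
    have e0 : f (s, 0, e) = wv F (y s) + (if e then ω else 0) • wv F ⟨x, hx⟩ := by
      simp only [f, zero_smul, add_zero]
    rw [e0, iso s e] at hw0
    cases e
    · simp [e0]
    · simp at hw0
  obtain ⟨r₀, hr₀D, har₀, hr₀b⟩ := RankThree.exists_common F.ctx.grp F.ctx.prim F.ctx.wide F.ha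
    F.hb F.hab
  obtain ⟨x₀, hx₀⟩ := fib_nonempty F (⟨hr₀D, har₀, hr₀b.symm⟩ : InR D a b r₀)
  refine ⟨(main ⟨x₀, hx₀.1⟩).1, fun w hw hw0 => ?_⟩
  obtain ⟨q, hq⟩ : ∃ q, (w : Xs D a b → K) q ≠ 0 := by
    by_contra! h
    exact hw (Subtype.ext (funext h))
  set c := (w : Xs D a b → K) q with hc
  obtain ⟨y, hy⟩ := (main q).2 (c⁻¹ • w) (by simp [← hc, hq])
    (by simp [LinearMap.map_smulₛₗ, hw0])
  have e : w = c • wv F y := by rw [hy, smul_smul, mul_inv_cancel₀ hq, one_smul]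
  rcases K_cases c with h | h | h | h
  · exact absurd h hq
  · exact ⟨y, by rw [e, h, one_smul]⟩
  · exact ⟨⟨J F y.1, J_mem F y.2⟩, Subtype.ext (by rw [e, h]; exact phi_J F y.2)⟩
  · exact ⟨⟨J F (J F y.1), J_mem F (J_mem F y.2)⟩, Subtype.ext (by
      rw [e, h]; simp [wv, phi_J F (J_mem F y.2), phi_J F y.2, smul_smul, om_sq])⟩

theorem lev_pair (w : ↥(W F)) : (lev F w).ncard = 2 := (lev_card F w).trans (count_main F).1

theorem complete {w : ↥(W F)} (hw : w ≠ 0) (h : HW F w w = 0) : ∃ x : Xs D a b, wv F x = w :=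
  (count_main F).2 w hw h

end Cfsg.Agent.ThreeTransp.Polar.Unit
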