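import Cfsg.Agent.Lib.ThreeTransp.Polar.Lines

/-!
Lines with five members: the members commuting with one of two noncommuting members, their
representatives, the pairing between the fibres and its behaviour on triangles.
-/

set_option autoImplicit false
set_option linter.unusedSectionVars false

namespace Cfsg.Agent.ThreeTransp.Polar.Unit

open Cfsg.Agent.ThreeTransp Cfsg.Agent.ThreeTransp.Polar

variable {G : Type*} [Group G] [Finite G] {D : Set G} {a b : G}

/-- two noncommuting members in a group with all lines of five members -/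
structure Frame (D : Set G) (a b : G) : Prop where
  ctx : Ctx D
  five : ∀ x ∈ D, ∀ y ∈ D, x ≠ y → Commute x y → (line D x y).ncard = 5
  ha : a ∈ D
  hb : b ∈ D
  hab : ¬ Commute a b

/-- the common neighbours of the two members -/
def InR (D : Set G) (a b r : G) : Prop := r ∈ D ∧ Commute a r ∧ Commute b r

/-- the neighbours of the first member only -/
def InX (D : Set G) (a b x : G) : Prop := x ∈ D ∧ Commute a x ∧ x ≠ a ∧ ¬ Commute b x

/-- the member of the line through `a` and `x` commuting with `b` -/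
noncomputable def rep (D : Set G) (a b x : G) : G :=
  Classical.epsilon fun z => z ∈ line D a x ∧ Commute b z

/-- the pairing of two fibres -/
def Pi (D : Set G) (a b x y : G) : Prop :=
  InX D a b x ∧ InX D a b y ∧ ¬ Commute x y ∧ Commute b (x * y * x)

variable (F : Frame D a b)
include F

theorem Frame.odd : OddLines D := fun x hx y hy hne hc => by
  rw [F.five x hx y hy hne hc]; decide

omit [Finite G] in
theorem inR_ne {r : G} (hr : InR D a b r) : r ≠ a := fun e => F.hab (e ▸ hr.2.2).symm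

theorem tw {d x z : G} (hd : d ∈ D) (hda : Commute d a) (hx : x ∈ D) (hax : Commute a x)
    (hxa : x ≠ a) (hz : z ∈ line D a x) (hza : z ≠ a) : Commute d z ↔ Commute d x := by
  refine ⟨fun h => ?_, fun h => commute_line hd hda h hz⟩
  exact commute_of_two F.ctx hd F.ha hx hax hxa.symm (mem_line_left F.ha) hz hza.symm hda h
    (mem_line_right hx)

theorem rep_spec {x : G} (hx : x ∈ D) (hax : Commute a x) (hxa : x ≠ a) :
    rep D a b x ∈ line D a x ∧ Commute b (rep D a b x) :=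
  Classical.epsilon_spec (p := fun z => z ∈ line D a x ∧ Commute b z)
    (one_or_all F.ctx F.odd F.hb F.ha hx hax hxa.symm)

theorem rep_inR {x : G} (hx : x ∈ D) (hax : Commute a x) (hxa : x ≠ a) :
    InR D a b (rep D a b x) :=
  ⟨(rep_spec F hx hax hxa).1.1, line_commute_left F.ha hax (rep_spec F hx hax hxa).1,
    (rep_spec F hx hax hxa).2⟩

theorem eq_rep {x z : G} (hx : x ∈ D) (hax : Commute a x) (hxa : x ≠ a) (hz : z ∈ line D a x)
    (hbz : Commute b z) : z = rep D a b x := by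
  by_contra hne
  exact F.hab (commute_of_two F.ctx F.hb F.ha hx hax hxa.symm hz (rep_spec F hx hax hxa).1 hne hbz
    (rep_spec F hx hax hxa).2 (mem_line_left F.ha)).symm

theorem rep_self {r : G} (hr : InR D a b r) : rep D a b r = r :=
  (eq_rep F hr.1 hr.2.1 (inR_ne F hr) (mem_line_right hr.1) hr.2.2).symm

theorem line_rep {x : G} (hx : x ∈ D) (hax : Commute a x) (hxa : x ≠ a) :
    line D a (rep D a b x) = line D a x :=
  line_eq_left F.ctx F.ha hx hax hxa.symm (rep_spec F hx hax hxa).1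
    (inR_ne F (rep_inR F hx hax hxa))

theorem rep_of_mem {r z : G} (hr : InR D a b r) (hz : z ∈ line D a r) (hza : z ≠ a) :
    rep D a b z = r :=
  (eq_rep F hz.1 (line_commute_left F.ha hr.2.1 hz) hza
    (by rw [line_eq_left F.ctx F.ha hr.1 hr.2.1 (inR_ne F hr).symm hz hza]
        exact mem_line_right hr.1) hr.2.2).symm

theorem xR {x : G} (hx : InX D a b x) : InR D a b (rep D a b x) :=
  rep_inR F hx.1 hx.2.1 hx.2.2.1

theorem x_mem_line {x : G} (hx : InX D a b x) : x ∈ line D a (rep D a b x) := by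
  rw [line_rep F hx.1 hx.2.1 hx.2.2.1]; exact mem_line_right hx.1

theorem comm_rep {d x : G} (hd : d ∈ D) (hda : Commute d a) (hx : InX D a b x) :
    Commute d x ↔ Commute d (rep D a b x) :=
  (tw F hd hda hx.1 hx.2.1 hx.2.2.1 (rep_spec F hx.1 hx.2.1 hx.2.2.1).1
    (inR_ne F (xR F hx))).symm

theorem comm_iff {x y : G} (hx : InX D a b x) (hy : InX D a b y) :
    Commute x y ↔ Commute (rep D a b x) (rep D a b y) := by
  rw [comm_rep F hx.1 hx.2.1.symm hy]
  constructor <;> intro h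
  · exact ((comm_rep F (xR F hy).1 (xR F hy).2.1.symm hx).1 h.symm).symm
  · exact ((comm_rep F (xR F hy).1 (xR F hy).2.1.symm hx).2 h.symm).symm

omit [Finite G] in
theorem cj_a {d : G} (hd : d ∈ D) (hda : Commute d a) : d * a * d = a :=
  F.ctx.cj_fix hd hda

omit [Finite G] in
theorem cj_b {d : G} (hd : d ∈ D) (hdb : Commute d b) : d * b * d = b :=
  F.ctx.cj_fix hd hdb

theorem inR_third {r s : G} (hr : InR D a b r) (hs : InR D a b s) : InR D a b (r * s * r) :=
  ⟨F.ctx.cj_mem hr.1 hs.1, (hr.2.1.mul_right hs.2.1).mul_right hr.2.1,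
    (hr.2.2.mul_right hs.2.2).mul_right hr.2.2⟩

theorem cjR_inX {q x : G} (hq : InR D a b q) (hx : InX D a b x) : InX D a b (q * x * q) := by
  refine ⟨Classes.conj_mem F.ctx.grp hq.1 hx.1, (hq.2.1.mul_right hx.2.1).mul_right hq.2.1,
    fun e => hx.2.2.1 ?_, fun h => hx.2.2.2 ?_⟩
  · rw [← cj_a F hq.1 hq.2.1.symm] at e
    exact mul_left_cancel (mul_right_cancel e)
  · have h' := (F.ctx.commute_cj hq.1 (x := b) (y := x))
    rw [cj_b F hq.1 hq.2.2.symm] at h'
    exact h'.1 h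

theorem line_cj {d x z : G} (hd : d ∈ D) (hda : Commute d a) (hz : z ∈ line D a x) :
    d * z * d ∈ line D a (d * x * d) := by
  have := line_image F.ctx hd hz
  rwa [cj_a F hd hda] at this

theorem rep_cjR {q x : G} (hq : InR D a b q) (hx : InX D a b x) :
    rep D a b (q * x * q) = q * rep D a b x * q := by
  have h := cjR_inX F hq hx
  refine (eq_rep F h.1 h.2.1 h.2.2.1
    (line_cj F hq.1 hq.2.1.symm (rep_spec F hx.1 hx.2.1 hx.2.2.1).1) ?_).symm
  have := (F.ctx.commute_cj hq.1).2 (rep_spec F hx.1 hx.2.1 hx.2.2.1).2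
  rwa [cj_b F hq.1 hq.2.2.symm] at this

theorem cj_member {x y : G} (hx : InX D a b x) (hy : y ∈ D) (hay : Commute a y) (hya : y ≠ a) :
    x * y * x ∈ D ∧ Commute a (x * y * x) ∧ x * y * x ≠ a := by
  refine ⟨F.ctx.cj_mem hx.1 hy, (hx.2.1.mul_right hay).mul_right hx.2.1, fun e => hya ?_⟩
  rw [← cj_a F hx.1 hx.2.1.symm] at e
  exact F.ctx.cj_inj e

/-- the third member of the representatives lies on the line of the third member -/
theorem third_line {x y : G} (hx : InX D a b x) (hy : InX D a b y) (hxy : ¬ Commute x y) :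
    rep D a b x * rep D a b y * rep D a b x ∈ line D a (x * y * x) ∧
      rep D a b (x * y * x) = rep D a b x * rep D a b y * rep D a b x := by
  set r := rep D a b x
  set s := rep D a b y
  have hr := xR F hx
  have hs := xR F hy
  have hrs : ¬ Commute r s := mt (comm_iff F hx hy).2 hxy
  have hxs : ¬ Commute x s := mt (comm_rep F hx.1 hx.2.1.symm hy).2 hxy
  obtain ⟨hzD, haz, hza⟩ := cj_member F hx hy.1 hy.2.1 hy.2.2.1
  obtain ⟨h1D, ha1, h1a⟩ := cj_member F hx hs.1 hs.2.1 (inR_ne F hs)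
  have h1 : x * s * x ∈ line D a (x * y * x) :=
    line_cj F hx.1 hx.2.1.symm (rep_spec F hy.1 hy.2.1 hy.2.2.1).1
  have h2 : s * r * s ∈ line D a (s * x * s) :=
    line_cj F hs.1 hs.2.1.symm (rep_spec F hx.1 hx.2.1 hx.2.2.1).1
  rw [← F.ctx.braid hx.1 hs.1 hxs, ← F.ctx.braid hr.1 hs.1 hrs,
    line_eq_left F.ctx F.ha hzD haz hza.symm h1 h1a] at h2
  exact ⟨h2, (eq_rep F hzD haz hza h2 (inR_third F hr hs).2.2).symm⟩

theorem pi_symm {x y : G} (h : Pi D a b x y) : Pi D a b y x := by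
  obtain ⟨hx, hy, hn, hb⟩ := h
  exact ⟨hy, hx, fun h => hn h.symm, by rwa [← F.ctx.braid hx.1 hy.1 hn]⟩

theorem pi_eq {x y : G} (h : Pi D a b x y) :
    x * y * x = rep D a b x * rep D a b y * rep D a b x := by
  obtain ⟨hx, hy, hn, hb⟩ := h
  obtain ⟨hzD, haz, hza⟩ := cj_member F hx hy.1 hy.2.1 hy.2.2.1
  rw [← (third_line F hx hy hn).2]
  exact eq_rep F hzD haz hza (mem_line_right hzD) hb

theorem pi_rep_ne {x y : G} (h : Pi D a b x y) : ¬ Commute (rep D a b x) (rep D a b y) :=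
  mt (comm_iff F h.1 h.2.1).2 h.2.2.1

/-- the partner in a fibre -/
noncomputable def partner (D : Set G) (a b x s : G) : G := x * (rep D a b x * s * rep D a b x) * x

theorem partner_spec {x s : G} (hx : InX D a b x) (hs : InR D a b s)
    (hrs : ¬ Commute (rep D a b x) s) :
    InX D a b (partner D a b x s) ∧ rep D a b (partner D a b x s) = s ∧
      Pi D a b x (partner D a b x s) := by
  set r := rep D a b x with hrdef
  have hr := xR F hx
  have ht := inR_third F hr hs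
  have hxs : ¬ Commute x s := fun h =>
    hrs ((comm_rep F hs.1 hs.2.1.symm hx).1 h.symm).symm
  obtain ⟨hyD, hay, hya⟩ := cj_member F hx ht.1 ht.2.1 (inR_ne F ht)
  set y := partner D a b x s with hy
  have hyl : y ∈ line D a s := by
    have h2 : s * r * s ∈ line D a (s * x * s) :=
      line_cj F hs.1 hs.2.1.symm (rep_spec F hx.1 hx.2.1 hx.2.2.1).1
    rw [← F.ctx.braid hr.1 hs.1 hrs, ← F.ctx.braid hx.1 hs.1 hxs] at h2
    have := line_cj F hx.1 hx.2.1.symm h2
    rwa [F.ctx.cj_cj hx.1] at this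
  have hby : ¬ Commute b y := fun h => hxs (by
    have e : y = s := by
      rw [eq_rep F hs.1 hs.2.1 (inR_ne F hs) hyl h, rep_self F hs]
    have e' : x * s * x = r * s * r := by
      rw [← F.ctx.cj_cj hx.1 (r * s * r)]
      exact congrArg (fun t => x * t * x) e.symm
    have h1 : Commute b (x * s * x) := by rw [e']; exact ht.2.2
    rw [← F.ctx.commute_cj_left hx.1, F.ctx.braid hx.1 F.hb (fun h => hx.2.2.2 h.symm),
      F.ctx.commute_cj_left F.hb, F.ctx.cj_fix F.hb hs.2.2] at h1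
    exact h1)
  have hX : InX D a b y := ⟨hyD, hay, hya, hby⟩
  have hrep := rep_of_mem F hs hyl hya
  refine ⟨hX, hrep, hx, hX, fun h => hrs ?_, ?_⟩
  · have := (comm_iff F hx hX).1 h
    rwa [hrep] at this
  · show Commute b (x * (x * (r * s * r) * x) * x)
    rw [F.ctx.cj_cj hx.1]
    exact ht.2.2

theorem eq_partner {x y : G} (h : Pi D a b x y) : y = partner D a b x (rep D a b y) := by
  rw [partner, ← pi_eq F h, F.ctx.cj_cj h.1.1]

theorem pi_unique {x y y' : G} (h : Pi D a b x y) (h' : Pi D a b x y')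
    (he : rep D a b y = rep D a b y') : y = y' := by
  rw [eq_partner F h, eq_partner F h', he]

theorem pi_cjR {q x y : G} (hq : InR D a b q) (h : Pi D a b x y) :
    Pi D a b (q * x * q) (q * y * q) := by
  obtain ⟨hx, hy, hn, hb⟩ := h
  refine ⟨cjR_inX F hq hx, cjR_inX F hq hy, mt (F.ctx.commute_cj hq.1).1 hn, ?_⟩
  have h2 := (F.ctx.commute_cj hq.1).2 hb
  rw [cj_b F hq.1 hq.2.2.symm] at h2
  rwa [show q * x * q * (q * y * q) * (q * x * q) = q * (x * y * x) * q by
    rw [show q * x * q * (q * y * q) * (q * x * q) = q * x * (q * q) * y * (q * q) * x * q by group,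
      F.ctx.sq hq.1]
    group]

/-- the third member of a pair and its properties -/
theorem pi_third {x y : G} (h : Pi D a b x y) :
    rep D a b x * y * rep D a b x = rep D a b y * x * rep D a b y ∧
      Pi D a b x (rep D a b y * x * rep D a b y) ∧
      Pi D a b y (rep D a b y * x * rep D a b y) ∧
      rep D a b (rep D a b y * x * rep D a b y) = rep D a b x * rep D a b y * rep D a b x := by
  obtain ⟨hx, hy, hn, hb⟩ := id h
  set r := rep D a b x
  set s := rep D a b y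
  have hr := xR F hx
  have hs := xR F hy
  have hrs := pi_rep_ne F h
  have ht := pi_eq F h
  have hxs : ¬ Commute x s := mt (comm_rep F hx.1 hx.2.1.symm hy).2 hn
  have hxr : Commute x r := (comm_rep F hx.1 hx.2.1.symm hx).1 (Commute.refl x)
  have key : r * y * r = s * x * s := by
    rw [← F.ctx.braid hx.1 hs.1 hxs]
    have e : s = r * (x * y * x) * r := by rw [ht, F.ctx.cj_cj hr.1]
    calc r * y * r = r * ((x * x) * y * (x * x)) * r := by rw [F.ctx.sq hx.1, one_mul, mul_one]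
      _ = (r * x) * (x * y * x) * (x * r) := by group
      _ = (x * r) * (x * y * x) * (r * x) := by rw [hxr.eq]
      _ = x * (r * (x * y * x) * r) * x := by group
      _ = x * s * x := by rw [← e]
  have hzX := cjR_inX F hs hx
  have hrep : rep D a b (s * x * s) = r * s * r := by
    rw [rep_cjR F hs hx, F.ctx.braid hr.1 hs.1 hrs]
  refine ⟨key, ⟨hx, hzX, fun h => hxs ?_, ?_⟩, ⟨hy, hzX, fun h => hn ?_, ?_⟩, hrep⟩
  · rw [← F.ctx.braid hx.1 hs.1 hxs] at h
    have := (F.ctx.commute_cj hx.1).2 h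
    rwa [F.ctx.cj_fix hx.1 (Commute.refl x), F.ctx.cj_cj hx.1] at this
  · rw [← F.ctx.braid hx.1 hs.1 hxs, F.ctx.cj_cj hx.1]; exact hs.2.2
  · have hys : Commute y s := (comm_rep F hy.1 hy.2.1.symm hy).1 (Commute.refl y)
    have := (F.ctx.commute_cj hs.1).2 h
    rw [F.ctx.cj_fix hs.1 hys.symm, F.ctx.cj_cj hs.1] at this
    exact this.symm
  · have hyr : ¬ Commute y r := fun h' => hn ((comm_rep F hy.1 hy.2.1.symm hx).2 h').symm
    rw [← key, F.ctx.braid hr.1 hy.1 (fun h' => hyr h'.symm), F.ctx.cj_cj hy.1]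
    exact hr.2.2

theorem third_id {x₁ x₂ x₃ : G} (h₁ : x₁ ∈ D) (h₂ : x₂ ∈ D) (h₃ : x₃ ∈ D) (n13 : ¬ Commute x₁ x₃)
    (n23 : ¬ Commute x₂ x₃) :
    (x₂ * x₃ * x₂) * (x₁ * x₃ * x₁) * (x₂ * x₃ * x₂) = x₃ * (x₁ * x₂ * x₁) * x₃ ∨
      Commute x₁ x₂ := by
  by_cases n12 : Commute x₁ x₂
  · exact Or.inr n12
  left
  have b13 := F.ctx.braid h₁ h₃ n13
  have b23 := F.ctx.braid h₂ h₃ n23
  have b12 := F.ctx.braid h₁ h₂ n12
  have s2 := F.ctx.sq h₂
  calc (x₂ * x₃ * x₂) * (x₁ * x₃ * x₁) * (x₂ * x₃ * x₂)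
      = (x₂ * x₃ * x₂) * (x₃ * x₁ * x₃) * (x₂ * x₃ * x₂) := by rw [b13]
    _ = x₂ * (x₃ * x₂ * x₃) * x₁ * (x₃ * x₂ * x₃) * x₂ := by group
    _ = x₂ * (x₂ * x₃ * x₂) * x₁ * (x₂ * x₃ * x₂) * x₂ := by rw [b23]
    _ = (x₂ * x₂) * x₃ * (x₂ * x₁ * x₂) * x₃ * (x₂ * x₂) := by group
    _ = _ := by rw [s2, one_mul, mul_one, b12]

/-- a triangle of representatives lying on a line -/
theorem triangle_comm {x₁ x₂ x₃ : G} (h12 : Pi D a b x₁ x₂) (h23 : Pi D a b x₂ x₃)
    (n13 : ¬ Commute (rep D a b x₁) (rep D a b x₃))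
    (hc : Commute (rep D a b x₃) (rep D a b x₁ * rep D a b x₂ * rep D a b x₁)) :
    Pi D a b x₁ x₃ := by
  obtain ⟨hx₁, hx₂, hn12, -⟩ := id h12
  obtain ⟨-, hx₃, hn23, -⟩ := id h23
  have hn13 : ¬ Commute x₁ x₃ := mt (comm_iff F hx₁ hx₃).1 n13
  have t12 := inR_third F (xR F hx₁) (xR F hx₂)
  have t23 := inR_third F (xR F hx₂) (xR F hx₃)
  have hc' : Commute (x₁ * x₂ * x₁) x₃ := by
    rw [pi_eq F h12]
    exact (comm_rep F t12.1 t12.2.1.symm hx₃).2 hc.symm
  have hcc : Commute x₂ (x₁ * x₃ * x₁) := by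
    rw [← F.ctx.commute_cj hx₁.1, F.ctx.cj_cj hx₁.1]
    exact hc'
  have e : x₁ * x₃ * x₁ = (x₂ * x₃ * x₂) * (x₁ * x₂ * x₁) * (x₂ * x₃ * x₂) := by
    have b12 := F.ctx.braid hx₁.1 hx₂.1 hn12
    have b13 := F.ctx.braid hx₁.1 hx₃.1 hn13
    have s2 := F.ctx.sq hx₂.1
    calc x₁ * x₃ * x₁ = x₂ * (x₁ * x₃ * x₁) * x₂ := (F.ctx.cj_fix hx₂.1 hcc).symm
      _ = x₂ * (x₃ * x₁ * x₃) * x₂ := by rw [b13]
      _ = x₂ * x₃ * ((x₂ * x₂) * x₁ * (x₂ * x₂)) * x₃ * x₂ := by rw [s2, one_mul, mul_one]; group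
      _ = (x₂ * x₃ * x₂) * (x₂ * x₁ * x₂) * (x₂ * x₃ * x₂) := by group
      _ = _ := by rw [b12]
  refine ⟨hx₁, hx₃, hn13, ?_⟩
  rw [e, pi_eq F h12, pi_eq F h23]
  exact (t23.2.2.mul_right t12.2.2).mul_right t23.2.2

/-- no paired triangle over representatives spanning a plane -/
theorem triangle_false {x₁ x₂ x₃ : G} (h12 : Pi D a b x₁ x₂) (h23 : Pi D a b x₂ x₃)
    (h13 : Pi D a b x₁ x₃)
    (hc : ¬ Commute (rep D a b x₃) (rep D a b x₁ * rep D a b x₂ * rep D a b x₁)) : False := by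
  obtain ⟨hx₁, hx₂, hn12, hb12⟩ := id h12
  obtain ⟨-, hx₃, hn23, hb23⟩ := id h23
  obtain ⟨-, -, hn13, hb13⟩ := id h13
  have t12 := inR_third F (xR F hx₁) (xR F hx₂)
  have hn : ¬ Commute x₃ (x₁ * x₂ * x₁) := fun h => hc (by
    rw [pi_eq F h12] at h
    exact ((comm_rep F t12.1 t12.2.1.symm hx₃).1 h.symm).symm)
  have hT : x₁ * x₂ * x₁ ∈ D := F.ctx.cj_mem hx₁.1 hx₂.1
  have e := (third_id F hx₁.1 hx₂.1 hx₃.1 hn13 hn23).resolve_right hn12
  rw [F.ctx.braid hx₃.1 hT hn] at e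
  have e' := congrArg (fun t => (x₁ * x₂ * x₁) * t * (x₁ * x₂ * x₁)) e
  simp only [F.ctx.cj_cj hT] at e'
  refine hx₃.2.2.2 ?_
  rw [← e']
  exact (hb12.mul_right ((hb23.mul_right hb13).mul_right hb23)).mul_right hb12

end Cfsg.Agent.ThreeTransp.Polar.Unit
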