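import Cfsg.Agent.Lib.ThreeTransp.Polar.UnitForm
import Cfsg.Agent.Lib.ThreeTransp.Polar.SizeMain

/-!
Lines with five members: the vectors attached to the neighbours of one member and the conjugation
between them.
-/

set_option autoImplicit false
set_option linter.unusedSectionVars false

namespace Cfsg.Agent.ThreeTransp.Polar.Unit

open Cfsg.Agent.ThreeTransp Cfsg.Agent.ThreeTransp.Polar

variable {G : Type*} [Group G] [Finite G] {D : Set G} {a b : G}
variable (F : Frame D a b)
include F

/-- the vector of a neighbour -/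
noncomputable def phi (x : G) : Xs D a b → K := fun q => hf F q.1 x

theorem phi_J {x : G} (hx : InX D a b x) : phi F (J F x) = ω • phi F x :=
  funext fun q => hf_J_right F q.2 hx

theorem phi_add {x y : G} (h : Pi D a b x y) :
    phi F (rep D a b y * x * rep D a b y) = phi F x + phi F y :=
  funext fun q => hf_add F q.2 h

theorem fib_nonempty {r : G} (hr : InR D a b r) : ∃ x, x ∈ fib D a b r := by
  by_contra! h
  have := fib_card F hr
  rw [Set.eq_empty_of_forall_notMem h, Set.ncard_empty] at this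
  omega

theorem phi_ne_zero {x : G} (hx : InX D a b x) : phi F x ≠ 0 := by
  intro h
  obtain ⟨t, ht, hrt⟩ := exists_far F (xR F hx)
  obtain ⟨q, hq, hqt⟩ := fib_nonempty F ht
  refine hrt ?_
  have := congrFun h ⟨q, hq⟩
  rw [← hqt]
  exact ((comm_iff F hq hx).1 ((hf_zero F).1 this)).symm

theorem phi_smul_ne {x : G} (hx : InX D a b x) {c : K} (hc : c ≠ 1) :
    phi F x ≠ c • phi F x := by
  intro h
  have h' : (1 - c) • phi F x = 0 := by rw [sub_smul, one_smul, ← h, sub_self]
  exact phi_ne_zero F hx ((smul_eq_zero.1 h').resolve_left (sub_ne_zero.2 hc.symm))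

theorem rep_of_phi {x y : G} {c : K} (hc : c ≠ 0) (hx : InX D a b x) (hy : InX D a b y)
    (h : phi F y = c • phi F x) : rep D a b y = rep D a b x := by
  have hr := xR F hx
  have hs := xR F hy
  have key : ∀ d ∈ D, Commute d a → Commute d (rep D a b x) → Commute d (rep D a b y) := by
    intro d hd hda hdr
    by_cases hne : d = a
    · rw [hne]; exact hs.2.1
    have hru := rep_inR F hd hda.symm hne
    obtain ⟨q, hq, hqu⟩ := fib_nonempty F hru
    have h1 : Commute (rep D a b x) (rep D a b d) :=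
      (tw F hr.1 hr.2.1.symm hd hda.symm hne (rep_spec F hd hda.symm hne).1
        (inR_ne F hru)).2 hdr.symm
    have hqx : Commute q x := (comm_iff F hq hx).2 (hqu ▸ h1.symm)
    have h2 : hf F q y = c * hf F q x := congrFun h ⟨q, hq⟩
    rw [(hf_zero F).2 hqx, mul_zero, hf_zero, comm_iff F hq hy, hqu] at h2
    exact ((tw F hs.1 hs.2.1.symm hd hda.symm hne (rep_spec F hd hda.symm hne).1
      (inR_ne F hru)).1 h2.symm).symm
  have := eq_rep F hr.1 hr.2.1 (inR_ne F hr) (⟨hs.1, key⟩ : rep D a b y ∈ line D a (rep D a b x))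
    hs.2.2
  rwa [rep_self F hr] at this

theorem phi_inj {x y : G} (hx : InX D a b x) (hy : InX D a b y) (h : phi F x = phi F y) :
    x = y := by
  have hr := rep_of_phi F one_ne_zero hx hy (by rw [one_smul, h])
  rcases fib_cases F hx hy hr with e | e | e
  · exact e.symm
  · rw [e, phi_J F hx] at h
    exact absurd h (phi_smul_ne F hx om_ne_one)
  · rw [e, phi_J F (J_mem F hx), phi_J F hx, smul_smul, om_sq] at h
    exact absurd h (phi_smul_ne F hx add_one_ne_one)

theorem exists_normalised {x y : G} (hx : InX D a b x) (hy : InX D a b y) (hn : ¬ Commute x y) :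
    ∃ x', InX D a b x' ∧ rep D a b x' = rep D a b x ∧ Pi D a b x' y ∧
      phi F x' = hf F x y • phi F x := by
  rcases pi_exists F hx hy hn with e | e | e
  · exact ⟨x, hx, rfl, e, by rw [hf_one F e, one_smul]⟩
  · exact ⟨J F x, J_mem F hx, rep_J F hx, e, by rw [hf_om F hx e, phi_J F hx]⟩
  · exact ⟨J F (J F x), J_mem F (J_mem F hx), by rw [rep_J F (J_mem F hx), rep_J F hx], e,
      by rw [hf_om_one F hx e, phi_J F (J_mem F hx), phi_J F hx, smul_smul, om_sq]⟩

/-- conjugation by a common neighbour -/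
theorem phi_conjR {x y : G} (hx : InX D a b x) (hy : InX D a b y) :
    phi F (rep D a b x * y * rep D a b x) = phi F y + hf F x y • phi F x := by
  have hr := xR F hx
  by_cases hn : Commute x y
  · have hry : Commute (rep D a b x) y :=
      (comm_rep F hr.1 hr.2.1.symm hy).2 ((comm_iff F hx hy).1 hn)
    rw [F.ctx.cj_fix hr.1 hry, (hf_zero F).2 hn, zero_smul, add_zero]
  obtain ⟨x', -, hrep, hp, hphi⟩ := exists_normalised F hx hy hn
  rw [← hrep, (pi_third F hp).1, phi_add F hp, hphi, add_comm]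

theorem conj_line {x y : G} (h : Pi D a b x y) :
    InX D a b (x * J F y * x) ∧ x * J F y * x = J F (J F (rep D a b y * x * rep D a b y)) ∧
    x * J F (J F y) * x = J F (rep D a b y * x * rep D a b y) := by
  obtain ⟨key, hxz, hyz, hrep⟩ := pi_third F h
  obtain ⟨hx, hy, hn, -⟩ := id h
  set s := rep D a b y with hs
  set r := rep D a b x with hr
  set z := s * x * s with hz
  have hrR : InR D a b r := xR F hx
  have hsR : InR D a b s := xR F hy
  have hmem : ∀ u, u ∈ fib D a b s → u ∈ line D a s ∧ u ≠ a ∧ u ≠ s := fun u hu =>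
    ⟨hu.2 ▸ x_mem_line F hu.1, hu.1.2.2.1, fun e => hu.1.2.2.2 (e ▸ hsR.2.2)⟩
  have hy0 : y ∈ fib D a b s := ⟨hy, rfl⟩
  obtain ⟨my, ya, ys⟩ := hmem _ hy0
  obtain ⟨m1, y1a, y1s⟩ := hmem _ (J_fib F hy0)
  obtain ⟨m2, y2a, y2s⟩ := hmem _ (J_fib F (J_fib F hy0))
  have hsa := inR_ne F hsR
  have hP : a * s * y * J F y * J F (J F y) = 1 := by
    refine line_prod F.ctx F.ha hsR.1 hsR.2.1 hsa.symm F.odd
      (F.five a F.ha s hsR.1 hsa.symm hsR.2.1) (mem_line_left F.ha) (mem_line_right hsR.1) my m1 m2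
      ?_
    simp [hsa.symm, ya.symm, y1a.symm, y2a.symm, ys.symm, y1s.symm, y2s.symm, (J_ne F hy).symm,
      (JJ_ne F hy).symm, (J_ne F (J_mem F hy)).symm]
  have hfix : ∀ p ∈ D, ∀ q ∈ D, p * q = q * p → ∀ u : G,
      p * (q * u * q) * p = q * (p * u * p) * q := fun p _ q _ e u => by
    calc p * (q * u * q) * p = (p * q) * u * (q * p) := by group
      _ = (q * p) * u * (p * q) := by rw [e]
      _ = _ := by group
  have yR : y * z * y = r := by
    rw [pi_eq F hyz, hrep, ← hs, F.ctx.braid hrR.1 hsR.1 (pi_rep_ne F h), F.ctx.cj_cj hsR.1]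
  have step : J F (J F y) * (J F y * r * J F y) * J F (J F y) = x := by
    have hinv : J F (J F y) * J F y * y * s * a = 1 := by
      have e := congrArg (fun t => t⁻¹) hP
      simp only [mul_inv_rev, inv_one, F.ctx.inv F.ha, F.ctx.inv hsR.1, F.ctx.inv hy.1,
        F.ctx.inv (J_mem F hy).1, F.ctx.inv (J_mem F (J_mem F hy)).1] at e
      rw [← e]; group
    calc J F (J F y) * (J F y * r * J F y) * J F (J F y)
        = J F (J F y) * (J F y * (y * (s * (a * x * a) * s) * y) * J F y) * J F (J F y) := by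
          rw [F.ctx.cj_fix F.ha hx.2.1, ← hz, yR]
      _ = (J F (J F y) * J F y * y * s * a) * x * (a * s * y * J F y * J F (J F y)) := by group
      _ = x := by rw [hinv, hP, one_mul, mul_one]
  have step' : J F y * (J F (J F y) * r * J F (J F y)) * J F y = x := by
    rw [hfix _ (J_mem F hy).1 _ (J_mem F (J_mem F hy)).1
      (line_commute F.ha hsR.1 hsR.2.1 m1 m2).eq]
    exact step
  -- the image of the representative under a member of the fibre
  have img : ∀ (u : G) (c : K), InX D a b u → rep D a b u = s → c ≠ 1 → phi F u = c • phi F y →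
      phi F (r * u * r) = c • phi F z ∧ InX D a b (r * u * r) ∧ u * r * u = r * u * r := by
    intro u c hu hru _ hphi
    refine ⟨?_, cjR_inX F hrR hu, ?_⟩
    · rw [phi_conjR F hx hu, hphi, phi_add F h]
      have : hf F x u = c * hf F x y := congrFun hphi ⟨x, hx⟩
      rw [this, hf_one F h, mul_one, smul_add, add_comm]
    · refine F.ctx.braid hu.1 hrR.1 fun e => pi_rep_ne F h ?_
      have := (comm_rep F hrR.1 hrR.2.1.symm hu).1 e.symm
      rwa [hru] at this
  obtain ⟨p1, q1, r1⟩ := img (J F y) ω (J_mem F hy) (rep_J F hy) om_ne_one (phi_J F hy)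
  obtain ⟨p2, q2, r2⟩ := img (J F (J F y)) (ω + 1) (J_mem F (J_mem F hy))
    (by rw [rep_J F (J_mem F hy), rep_J F hy]) add_one_ne_one
    (by rw [phi_J F (J_mem F hy), phi_J F hy, smul_smul, om_sq])
  have e1 : r * J F y * r = J F z := phi_inj F q1 (J_mem F hxz.2.1)
    (by rw [p1, phi_J F hxz.2.1])
  have e2 : r * J F (J F y) * r = J F (J F z) := phi_inj F q2 (J_mem F (J_mem F hxz.2.1))
    (by rw [p2, phi_J F (J_mem F hxz.2.1), phi_J F hxz.2.1, smul_smul, om_sq])
  rw [r1, e1] at step
  rw [r2, e2] at step'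
  have nJJ : ¬ Commute x (J F (J F y)) := fun e =>
    hn ((comm_J' F hx hy).1 ((comm_J' F hx (J_mem F hy)).1 e))
  have nJ : ¬ Commute x (J F y) := fun e => hn ((comm_J' F hx hy).1 e)
  have f1 : x * J F (J F y) * x = J F z := by
    rw [F.ctx.braid hx.1 (J_mem F (J_mem F hy)).1 nJJ]
    conv_lhs => rw [← step]
    exact F.ctx.cj_cj (J_mem F (J_mem F hy)).1 _
  have f2 : x * J F y * x = J F (J F z) := by
    rw [F.ctx.braid hx.1 (J_mem F hy).1 nJ]
    conv_lhs => rw [← step']
    exact F.ctx.cj_cj (J_mem F hy).1 _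
  exact ⟨f2 ▸ J_mem F (J_mem F hxz.2.1), f2, f1⟩

/-- conjugation between two neighbours which are not paired -/
theorem phi_conjX {x y : G} (hx : InX D a b x) (hy : InX D a b y) (h1 : hf F x y ≠ 1) :
    InX D a b (x * y * x) ∧
      (1 + hf F x y) • phi F (x * y * x) = phi F y + hf F x y • phi F x := by
  by_cases hn : Commute x y
  · rw [(hf_zero F).2 hn, F.ctx.cj_fix hx.1 hn]
    exact ⟨hy, by simp⟩
  have hp := partner_spec F hx (xR F hy) fun e => hn ((comm_iff F hx hy).2 e)
  set y' := partner D a b x (rep D a b y) with hy'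
  have hy'X : InX D a b y' := hp.1
  obtain ⟨hI, g1, g2⟩ := conj_line F hp.2.2
  have hzX := (pi_third F hp.2.2).2.1.2.1
  have hzφ := phi_add F hp.2.2
  have hs : phi F (J F y') = ω • phi F y' := phi_J F hy'X
  have hJJ : phi F (J F (J F y')) = (ω + 1) • phi F y' := by
    rw [phi_J F (J_mem F hy'X), hs, smul_smul, om_sq]
  rcases fib_cases F hy'X hy hp.2.1.symm with e | e | e
  · rw [e, hf_one F hp.2.2] at h1
    exact absurd rfl h1
  · have hh : hf F x y = ω := by rw [e, hf_J_right F hx hy'X, hf_one F hp.2.2, mul_one]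
    rw [e] at hh ⊢
    refine ⟨hI, ?_⟩
    rw [g1, phi_J F (J_mem F hzX), phi_J F hzX, hzφ, hh, hs, smul_smul, smul_smul, smul_add,
      add_comm]
    congr 1 <;> congr 1 <;> linear_combination (ω + 2) * om_sq + (ω + 1) * two_zero
  · have hh : hf F x y = ω + 1 := by
      rw [e, hf_J_right F hx (J_mem F hy'X), hf_J_right F hx hy'X, hf_one F hp.2.2, mul_one, om_sq]
    rw [e] at hh ⊢
    refine ⟨g2 ▸ J_mem F hzX, ?_⟩
    rw [g2, phi_J F hzX, hzφ, hh, hJJ, smul_smul, smul_add, add_comm]
    congr 1 <;> congr 1 <;> linear_combination om_sq + ω * two_zero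

end Cfsg.Agent.ThreeTransp.Polar.Unit
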