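import Cfsg.Agent.Lib.ThreeTransp.Polar.UnitPhi

/-!
Lines with five members: the hermitian space and the vectors of the members commuting with one
member.
-/

set_option autoImplicit false
set_option linter.unusedSectionVars false

namespace Cfsg.Agent.ThreeTransp.Polar.Unit

open Cfsg.Agent.ThreeTransp Cfsg.Agent.ThreeTransp.Polar

variable {G : Type*} [Group G] [Finite G] {D : Set G} {a b : G}
variable (F : Frame D a b)
include F

/-- the span of the vectors of the neighbours -/
noncomputable def W : Submodule K (Xs D a b → K) :=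
  Submodule.span K (Set.range fun x : Xs D a b => phi F x.1)

noncomputable local instance : Fintype (Xs D a b) := Fintype.ofFinite _

/-- the coefficients of a vector of the span -/
noncomputable def coef (v : ↥(W F)) : Xs D a b → K :=
  (Submodule.mem_span_range_iff_exists_fun K).1 v.2 |>.choose

theorem coef_spec (v : ↥(W F)) : ∑ x, coef F v x • phi F x.1 = (v : Xs D a b → K) :=
  ((Submodule.mem_span_range_iff_exists_fun K).1 v.2).choose_spec

/-- the form on the span -/
noncomputable def hw (v w : ↥(W F)) : K := ∑ x, σ (coef F v x) * (w : Xs D a b → K) x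

theorem hw_eq (v w : ↥(W F)) (d : Xs D a b → K)
    (hd : ∑ x, d x • phi F x.1 = (v : Xs D a b → K)) :
    ∑ x, σ (d x) * (w : Xs D a b → K) x = σ (hw F w v) := by
  rw [hw, ← coef_spec F w, ← hd]
  simp only [Finset.sum_apply, Pi.smul_apply, smul_eq_mul, map_sum, map_mul, σ_σ, Finset.mul_sum]
  rw [Finset.sum_comm]
  refine Finset.sum_congr rfl fun x _ => Finset.sum_congr rfl fun y _ => ?_
  rw [phi, phi, hf_symm F y.2 x.2, σ_σ]
  ring

theorem hw_symm (v w : ↥(W F)) : σ (hw F v w) = hw F w v := by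
  rw [show hw F v w = σ (hw F w v) from hw_eq F v w _ (coef_spec F v), σ_σ]

/-- the vector of a neighbour in the span -/
noncomputable def wv (x : Xs D a b) : ↥(W F) :=
  ⟨phi F x.1, Submodule.subset_span ⟨x, rfl⟩⟩

theorem hw_wv (q : Xs D a b) (w : ↥(W F)) : hw F (wv F q) w = (w : Xs D a b → K) q := by
  classical
  have h := hw_eq F (wv F q) w (Pi.single q 1) (by
    rw [Finset.sum_eq_single q (fun x _ hx => by simp [Pi.single_eq_of_ne hx]) (by simp)]
    simp [wv])
  rw [Finset.sum_eq_single q (fun x _ hx => by simp [Pi.single_eq_of_ne hx]) (by simp),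
    Pi.single_eq_same, map_one, one_mul] at h
  rw [← hw_symm F w (wv F q), ← h]

/-- the form on the span, bundled -/
noncomputable def HW : ↥(W F) →ₛₗ[σ] ↥(W F) →ₗ[K] K :=
  LinearMap.mk₂'ₛₗ σ (RingHom.id K) (hw F)
    (fun v v' w => by
      have h := hw_eq F (v + v') w (coef F v + coef F v') (by
        simp [add_smul, Finset.sum_add_distrib, coef_spec])
      simp only [Pi.add_apply, map_add, add_mul, Finset.sum_add_distrib] at h
      rw [← hw_symm F w (v + v'), ← h]
      rfl)
    (fun c v w => by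
      have h := hw_eq F (c • v) w (c • coef F v) (by
        simp [← smul_smul, ← Finset.smul_sum, coef_spec])
      simp only [Pi.smul_apply, smul_eq_mul, map_mul, mul_assoc, ← Finset.mul_sum] at h
      rw [← hw_symm F w (c • v), ← h]
      rfl)
    (fun v w w' => by simp [hw, mul_add, Finset.sum_add_distrib])
    (fun c v w => by simp [hw, Finset.mul_sum, mul_left_comm])

theorem HW_apply (v w : ↥(W F)) : HW F v w = hw F v w := rfl

theorem HW_wv (x y : Xs D a b) : HW F (wv F x) (wv F y) = hf F x.1 y.1 := hw_wv F x _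

theorem HW_isSymm : (HW F).IsSymm := ⟨fun v w => hw_symm F v w⟩

theorem HW_sep (v : ↥(W F)) (h : ∀ w, HW F v w = 0) : v = 0 := by
  refine Subtype.ext (funext fun q => ?_)
  rw [← hw_wv F q v, ← hw_symm F v (wv F q), ← HW_apply, h, map_zero]
  rfl

/-- the space -/
abbrev V : Type _ := K × K × ↥(W F)

/-- the hermitian form of the space -/
noncomputable def H : V F →ₛₗ[σ] V F →ₗ[K] K :=
  LinearMap.mk₂'ₛₗ σ (RingHom.id K)
    (fun u v => σ u.1 * v.2.1 + σ u.2.1 * v.1 + HW F u.2.2 v.2.2)
    (fun u u' v => by simp; ring)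
    (fun c u v => by simp; ring)
    (fun u v v' => by simp; ring)
    (fun c u v => by simp; ring)

theorem H_apply (u v : V F) :
    H F u v = σ u.1 * v.2.1 + σ u.2.1 * v.1 + HW F u.2.2 v.2.2 := rfl

theorem H_symm (u v : V F) : σ (H F u v) = H F v u := by
  simp only [H_apply, map_add, map_mul, σ_σ, HW_apply, hw_symm]
  ring

theorem H_isSymm : (H F).IsSymm := ⟨H_symm F⟩

theorem H_eq_zero_comm {u v : V F} : H F u v = 0 ↔ H F v u = 0 := by
  rw [← H_symm F u v]
  exact (map_eq_zero σ).symm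

theorem H_sep : (H F).SeparatingLeft := by
  rintro ⟨l, m, w⟩ h
  have h1 := h (0, 1, 0)
  have h2 := h (1, 0, 0)
  simp [H_apply, map_eq_zero] at h1 h2
  subst h1 h2
  have h3 : w = 0 := HW_sep F w fun w' => by
    have := h (0, 0, w')
    simpa [H_apply] using this
  rw [h3]; rfl

/-- the transvection with a centre -/
noncomputable def T (u v : V F) : V F := v + H F u v • u

/-- proportional vectors -/
def Sim (u v : V F) : Prop := ∃ c : K, c ≠ 0 ∧ u = c • v

theorem T_smul {u : V F} {c : K} (hc : c ≠ 0) (v : V F) : T F (c • u) v = T F u v := by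
  simp only [T, LinearMap.map_smulₛₗ, LinearMap.smul_apply, smul_eq_mul, smul_smul]
  rw [mul_comm (σ c), mul_assoc, mul_comm (σ c), mul_σ_self hc, mul_one]

theorem T_add (u v w : V F) : T F u (v + w) = T F u v + T F u w := by
  simp only [T, map_add, add_smul]; abel

theorem T_smul_right (u v : V F) (c : K) : T F u (c • v) = c • T F u v := by
  simp only [T, map_smul, smul_eq_mul, smul_add, smul_smul]

theorem H_T {u : V F} (hu : H F u u = 0) (v w : V F) : H F (T F u v) (T F u w) = H F v w := by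
  simp only [T, map_add, LinearMap.add_apply, LinearMap.map_smulₛₗ, LinearMap.smul_apply,
    RingHom.id_apply, smul_eq_mul, hu, mul_zero, add_zero]
  rw [show H F v u = σ (H F u v) from (H_symm F u v).symm]
  linear_combination (σ (H F u v) * H F u w) * two_zero

/-- the vector of a neighbour in the space -/
noncomputable def xv (x : Xs D a b) : ↥(W F) := wv F x

/-- a member of a fibre -/
noncomputable def pick (_F : Frame D a b) (p : G) : G :=
  open Classical in (if InX D a b p then p else Classical.epsilon fun x => x ∈ fib D a b p)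

theorem pick_spec {p : G} (hp : p ∈ D) (hap : Commute a p) (hne : p ≠ a) :
    InX D a b (pick F p) ∧ rep D a b (pick F p) = rep D a b p := by
  classical
  unfold pick
  split_ifs with h
  · exact ⟨h, rfl⟩
  · have hR : InR D a b p := ⟨hp, hap, not_not.1 fun h' => h ⟨hp, hap, hne, h'⟩⟩
    rw [rep_self F hR]
    exact Classical.epsilon_spec (p := fun x => x ∈ fib D a b p) (fib_nonempty F hR)

theorem pick_X {x : G} (hx : InX D a b x) : pick F x = x := by
  classical
  rw [pick, if_pos hx]

open Classical in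
/-- the point of a member commuting with the first one -/
noncomputable def psi (p : G) : V F :=
  if h : InX D a b (pick F p) ∧ p ≠ a then (if InX D a b p then 1 else 0, 0, wv F ⟨_, h.1⟩)
  else (1, 0, 0)

theorem psi_a : psi F a = (1, 0, 0) := by
  classical
  rw [psi, dif_neg fun h => h.2 rfl]

theorem psi_X {x : G} (hx : InX D a b x) : psi F x = (1, 0, wv F ⟨x, hx⟩) := by
  classical
  have h : InX D a b (pick F x) ∧ x ≠ a := ⟨(pick_X F hx).symm ▸ hx, hx.2.2.1⟩
  rw [psi, dif_pos h, if_pos hx]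
  simp [pick_X F hx]

theorem psi_R {r : G} (hr : InR D a b r) :
    ∃ h : InX D a b (pick F r), rep D a b (pick F r) = r ∧
      psi F r = (0, 0, wv F ⟨pick F r, h⟩) := by
  classical
  obtain ⟨h1, h2⟩ := pick_spec F hr.1 hr.2.1 (inR_ne F hr)
  rw [rep_self F hr] at h2
  refine ⟨h1, h2, ?_⟩
  rw [psi, dif_pos ⟨h1, inR_ne F hr⟩, if_neg fun h => h.2.2.2 hr.2.2]

theorem psi_ne_zero (p : G) : psi F p ≠ 0 := by
  classical
  unfold psi
  split_ifs with h h'
  · simp
  · intro e
    exact phi_ne_zero F h.1 (congrArg (fun v : V F => (v.2.2 : Xs D a b → K)) e)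
  · simp

theorem psi_mid (p : G) : (psi F p).2.1 = 0 := by
  classical
  unfold psi; split_ifs <;> rfl

theorem comm_iff' {p q : G} (hp : p ∈ D) (hap : Commute a p) (hpa : p ≠ a) (hq : q ∈ D)
    (haq : Commute a q) (hqa : q ≠ a) :
    Commute p q ↔ Commute (rep D a b p) (rep D a b q) := by
  have hr := rep_inR F hp hap hpa
  have hs := rep_inR F hq haq hqa
  have e1 := tw F hp hap.symm hq haq hqa (rep_spec F hq haq hqa).1 (inR_ne F hs)
  have e2 := tw F hs.1 hs.2.1.symm hp hap hpa (rep_spec F hp hap hpa).1 (inR_ne F hr)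
  rw [← e1]
  exact ⟨fun h => (e2.2 h.symm).symm, fun h => (e2.1 h.symm).symm⟩

theorem H_psi {p q : G} (hp : p ∈ D) (hap : Commute a p) (hpa : p ≠ a) (hq : q ∈ D)
    (haq : Commute a q) (hqa : q ≠ a) :
    H F (psi F p) (psi F q) = hf F (pick F p) (pick F q) := by
  classical
  have h1 := (pick_spec F hp hap hpa).1
  have h2 := (pick_spec F hq haq hqa).1
  rw [H_apply, psi_mid, psi_mid, map_zero, mul_zero, zero_mul, zero_add, zero_add]
  have e : ∀ r, (hr : InX D a b (pick F r)) → r ≠ a → (psi F r).2.2 = wv F ⟨_, hr⟩ :=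
    fun r hr hne => by rw [psi, dif_pos ⟨hr, hne⟩]
  rw [e p h1 hpa, e q h2 hqa, HW_wv]

theorem psi_iso {p : G} (hp : p ∈ D) (hap : Commute a p) : H F (psi F p) (psi F p) = 0 := by
  by_cases hpa : p = a
  · rw [hpa, psi_a, H_apply]; simp [HW_apply, hw]
  · rw [H_psi F hp hap hpa hp hap hpa, hf_self]

theorem psi_comm {p q : G} (hp : p ∈ D) (hap : Commute a p) (hq : q ∈ D) (haq : Commute a q) :
    Commute p q ↔ H F (psi F p) (psi F q) = 0 := by
  by_cases hpa : p = a
  · subst hpa
    simp [psi_a, H_apply, psi_mid, haq]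
  by_cases hqa : q = a
  · subst hqa
    simp [psi_a, H_apply, psi_mid, hap.symm]
  obtain ⟨h1, h1'⟩ := pick_spec F hp hap hpa
  obtain ⟨h2, h2'⟩ := pick_spec F hq haq hqa
  rw [H_psi F hp hap hpa hq haq hqa, hf_zero, comm_iff F h1 h2, h1', h2',
    comm_iff' F hp hap hpa hq haq hqa]

theorem phi_fib {x y : G} (hx : InX D a b x) (hy : InX D a b y)
    (h : rep D a b y = rep D a b x) : ∃ c : K, c ≠ 0 ∧ phi F y = c • phi F x := by
  rcases fib_cases F hx hy h with e | e | e
  · exact ⟨1, one_ne_zero, by rw [e, one_smul]⟩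
  · exact ⟨ω, om_ne_zero, by rw [e, phi_J F hx]⟩
  · exact ⟨ω + 1, om_add_one_ne_zero,
      by rw [e, phi_J F (J_mem F hx), phi_J F hx, smul_smul, om_sq]⟩

/-- the point of a common neighbour -/
theorem sim_psi_R {r z : G} (hr : InR D a b r) (hz : InX D a b z) (hzr : rep D a b z = r) :
    Sim F ((0, 0, wv F ⟨z, hz⟩) : V F) (psi F r) := by
  obtain ⟨h, h', e⟩ := psi_R F hr
  obtain ⟨c, hc, hφ⟩ := phi_fib F h hz (by rw [hzr, h'])
  refine ⟨c, hc, ?_⟩
  rw [e]
  exact Prod.ext (by simp) (Prod.ext (by simp) (Subtype.ext hφ))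

theorem psi_equiv {p q : G} (hp : p ∈ D) (hap : Commute a p) (hq : q ∈ D) (haq : Commute a q) :
    Sim F (T F (psi F p) (psi F q)) (psi F (p * q * p)) := by
  classical
  by_cases hpq : Commute p q
  · refine ⟨1, one_ne_zero, ?_⟩
    rw [one_smul, F.ctx.cj_fix hp hpq, T, (psi_comm F hp hap hq haq).1 hpq, zero_smul, add_zero]
  have hpa : p ≠ a := fun e => hpq (e ▸ haq)
  have hqa : q ≠ a := fun e => hpq (e ▸ hap.symm)
  have hh : hf F (pick F p) (pick F q) ≠ 0 := by
    rw [← H_psi F hp hap hpa hq haq hqa]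
    exact mt (psi_comm F hp hap hq haq).2 hpq
  rw [T, H_psi F hp hap hpa hq haq hqa]
  by_cases hpX : InX D a b p <;> by_cases hqX : InX D a b q
  · rw [pick_X F hpX, pick_X F hqX] at hh ⊢
    rw [psi_X F hpX, psi_X F hqX]
    by_cases h1 : hf F p q = 1
    · have hp1 := (hf_eq_one F hpX hqX).1 h1
      obtain ⟨-, hzX, -, hrep⟩ := pi_third F hp1
      have ht := inR_third F (xR F hpX) (xR F hqX)
      obtain ⟨c, hc, e⟩ := sim_psi_R F ht hzX.2.1 hrep
      refine ⟨c, hc, ?_⟩
      rw [pi_eq F hp1, ← e, h1]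
      refine Prod.ext (by simp [add_self]) (Prod.ext (by simp) (Subtype.ext ?_))
      simp [wv, phi_add F hp1, add_comm]
    · obtain ⟨hzX, hφ⟩ := phi_conjX F hpX hqX h1
      refine ⟨1 + hf F p q, fun e => h1 (eq_of_add_eq_zero e).symm, ?_⟩
      rw [psi_X F hzX]
      refine Prod.ext (by simp) (Prod.ext (by simp) (Subtype.ext ?_))
      simp [wv, hφ]
  · have hs : InR D a b q := ⟨hq, haq, not_not.1 fun h => hqX ⟨hq, haq, hqa, h⟩⟩
    obtain ⟨hy, hy', e⟩ := psi_R F hs
    rw [pick_X F hpX] at hh ⊢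
    rw [e, psi_X F hpX]
    have hb : p * q * p = q * p * q := F.ctx.braid hp hq hpq
    have hzX := cjR_inX F hs hpX
    refine ⟨hf F p (pick F q), hh, ?_⟩
    rw [hb, psi_X F hzX]
    have hφ := phi_conjR F hy hpX
    rw [hy', hf_symm F hpX hy] at hφ
    refine Prod.ext (by simp) (Prod.ext (by simp) (Subtype.ext ?_))
    simp only [wv, Prod.snd_add, Prod.smul_snd, Submodule.coe_add, Submodule.coe_smul, hφ,
      smul_add, smul_smul]
    rw [mul_σ_self hh, one_smul, add_comm]
  · have hr : InR D a b p := ⟨hp, hap, not_not.1 fun h => hpX ⟨hp, hap, hpa, h⟩⟩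
    obtain ⟨hx, hx', e⟩ := psi_R F hr
    rw [pick_X F hqX] at hh ⊢
    rw [e, psi_X F hqX, psi_X F (cjR_inX F hr hqX)]
    refine ⟨1, one_ne_zero, ?_⟩
    have hφ := phi_conjR F hx hqX
    rw [hx'] at hφ
    rw [one_smul]
    refine Prod.ext (by simp) (Prod.ext (by simp) (Subtype.ext ?_))
    simp [wv, hφ]
  · have hr : InR D a b p := ⟨hp, hap, not_not.1 fun h => hpX ⟨hp, hap, hpa, h⟩⟩
    have hs : InR D a b q := ⟨hq, haq, not_not.1 fun h => hqX ⟨hq, haq, hqa, h⟩⟩
    obtain ⟨hx, hx', e⟩ := psi_R F hr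
    obtain ⟨hy, hy', e'⟩ := psi_R F hs
    rw [e, e']
    have hzX := cjR_inX F hr hy
    have hrep : rep D a b (p * pick F q * p) = p * q * p := by rw [rep_cjR F hr hy, hy']
    obtain ⟨c, hc, e''⟩ := sim_psi_R F (inR_third F hr hs) hzX hrep
    refine ⟨c, hc, ?_⟩
    rw [← e'']
    have hφ := phi_conjR F hx hy
    rw [hx'] at hφ
    refine Prod.ext (by simp) (Prod.ext (by simp) (Subtype.ext ?_))
    simp [wv, hφ]

end Cfsg.Agent.ThreeTransp.Polar.Unit
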